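/-
helper69: project TWOUT (helper91), module [D4-SL2A]: the homomorphism `SL₂(K) → ³D₄` of the class `a` of
fundamental roots: `A ↦ φ₁₈(A) φ₁₃(A^φ) φ₁₂(A^{φ²})`.
-/
import Cfsg.Agent.Lib.Helper91.TwOut.D4Defs
import Cfsg.Agent.Lib.Helper18.TwOrdD4
import Cfsg.Agent.Lib.Helper18.Tw16
import Cfsg.Agent.Lib.Helper18.Tw18
import Cfsg.Agent.Lib.Helper86.TwOutSL2Gen
import Cfsg.Agent.S1030
import Cfsg.Agent.S1080

set_option autoImplicit false

namespace Cfsg.Agent.Lib.Helper69.TwOut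

open Cfsg Cfsg.Lie Cfsg.Agent.Lib.Helper18 Cfsg.Agent.Lib.Helper17 Cfsg.Agent.Lib.Helper91.TwOut
open Cfsg.Agent.Lib.Helper17.SL2Pres Cfsg.Agent.Lib.Helper17.ChevSL2 Cfsg.Agent.Lib.Helper19.NatSL2

universe u

section Gen

variable {F : Type*} [Field F]

theorem sx_eq_uu (t : F) : (sx t : Matrix.SpecialLinearGroup (Fin 2) F) = uu t := rfl

theorem sy_eq_yy (t : F) : (sy t : Matrix.SpecialLinearGroup (Fin 2) F) = yy t := rfl

theorem map_sx {F' : Type*} [Field F'] (f : F →+* F') (t : F) :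
    Matrix.SpecialLinearGroup.map f (sx t) = sx (f t) := by
  apply Subtype.ext
  ext i j
  show (f.mapMatrix !![1, t; 0, 1]) i j = !![1, f t; 0, 1] i j
  fin_cases i <;> fin_cases j <;> simp [RingHom.mapMatrix_apply]

theorem map_sy {F' : Type*} [Field F'] (f : F →+* F') (t : F) :
    Matrix.SpecialLinearGroup.map f (sy t) = sy (f t) := by
  apply Subtype.ext
  ext i j
  show (f.mapMatrix !![1, 0; t, 1]) i j = !![1, 0; f t, 1] i j
  fin_cases i <;> fin_cases j <;> simp [RingHom.mapMatrix_apply]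

/-- The image of a homomorphism out of `SL₂` lies in the closure of the images of the unitriangular matrices. -/
theorem hom_mem_closure {P : Type*} [Group P] (ψ : Matrix.SpecialLinearGroup (Fin 2) F →* P) (X Y : F → P)
    (h1 : ∀ t, ψ (sx t) = X t) (h2 : ∀ t, ψ (sy t) = Y t) (A : Matrix.SpecialLinearGroup (Fin 2) F) :
    ψ A ∈ Subgroup.closure {x : P | ∃ t : F, x = X t ∨ x = Y t} := by
  have hA : A ∈ Subgroup.closure (Set.range (sx : F → Matrix.SpecialLinearGroup (Fin 2) F) ∪ Set.range sy) := by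
    rw [Cfsg.Agent.Lib.Helper86.TwOut.sl2_closure]; exact Subgroup.mem_top A
  have : ψ A ∈ (Subgroup.closure (Set.range (sx : F → Matrix.SpecialLinearGroup (Fin 2) F) ∪ Set.range sy)).map ψ :=
    Subgroup.mem_map_of_mem ψ hA
  rw [MonoidHom.map_closure] at this
  refine Subgroup.closure_mono ?_ this
  rintro x ⟨B, (⟨t, rfl⟩ | ⟨t, rfl⟩), rfl⟩
  · exact ⟨t, Or.inl (h1 t)⟩
  · exact ⟨t, Or.inr (h2 t)⟩

/-- A homomorphism out of `SL₂` is determined by a subgroup containing the images of the unitriangular matrices. -/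
theorem hom_mem_of_gens {P : Type*} [Group P] (ψ : Matrix.SpecialLinearGroup (Fin 2) F →* P) (H : Subgroup P)
    (h1 : ∀ t, ψ (sx t) ∈ H) (h2 : ∀ t, ψ (sy t) ∈ H) (A : Matrix.SpecialLinearGroup (Fin 2) F) : ψ A ∈ H := by
  have hA : A ∈ Subgroup.closure (Set.range (sx : F → Matrix.SpecialLinearGroup (Fin 2) F) ∪ Set.range sy) := by
    rw [Cfsg.Agent.Lib.Helper86.TwOut.sl2_closure]; exact Subgroup.mem_top A
  have hle : Subgroup.closure (Set.range (sx : F → Matrix.SpecialLinearGroup (Fin 2) F) ∪ Set.range sy)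
      ≤ H.comap ψ := by
    rw [Subgroup.closure_le]
    rintro x (⟨t, rfl⟩ | ⟨t, rfl⟩)
    · exact h1 t
    · exact h2 t
  exact hle hA

/-- The product of three homomorphisms with pairwise commuting images. -/
def prod3 {M P : Type*} [Monoid M] [Monoid P] (f₁ f₂ f₃ : M →* P) (h12 : ∀ a b, Commute (f₁ a) (f₂ b))
    (h13 : ∀ a b, Commute (f₁ a) (f₃ b)) (h23 : ∀ a b, Commute (f₂ a) (f₃ b)) : M →* P where
  toFun a := f₁ a * (f₂ a * f₃ a)
  map_one' := by simp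
  map_mul' a b := by
    rw [map_mul, map_mul, map_mul]
    have e1 : f₂ a * f₂ b * (f₃ a * f₃ b) = f₂ a * f₃ a * (f₂ b * f₃ b) :=
      (h23 b a).mul_mul_mul_comm (f₂ a) (f₃ b)
    rw [e1]
    have hc : Commute (f₁ b) (f₂ a * f₃ a) := (h12 b a).mul_right (h13 b a)
    exact hc.mul_mul_mul_comm (f₁ a) (f₂ b * f₃ b)

theorem prod3_apply {M P : Type*} [Monoid M] [Monoid P] (f₁ f₂ f₃ : M →* P) (h12 h13 h23) (a : M) :
    prod3 f₁ f₂ f₃ h12 h13 h23 a = f₁ a * (f₂ a * f₃ a) := rfl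

end Gen

variable {K : Type u} [Field K] [Fintype K] (φ : K ≃+* K)

/-- [D4-SL2A] -/
theorem exists_PhiA (hφ3 : ∀ a : K, φ (φ (φ a)) = a) :
    ∃ Φ : Matrix.SpecialLinearGroup (Fin 2) K →* ↥(GD4 φ),
      (∀ t : K, ((Φ (sx t) : ↥(GD4 φ)) : GL chevD4.Idx K) = xaG φ t) ∧
      (∀ t : K, ((Φ (sy t) : ↥(GD4 φ)) : GL chevD4.Idx K) = yaG φ t) := by
  have s0 : chevD4.simple 0 = 18 := by decide
  have s2 : chevD4.simple 2 = 13 := by decide
  have s3 : chevD4.simple 3 = 12 := by decide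
  have n0 : chevD4.neg 18 = 5 := by decide
  have n2 : chevD4.neg 13 = 10 := by decide
  have n3 : chevD4.neg 12 = 11 := by decide
  obtain ⟨ψ0, h0x, h0y⟩ := exists_hom_root (F := K) chevD4 hD4 (chevD4.simple 0) (by decide)
  obtain ⟨ψ2, h2x, h2y⟩ := exists_hom_root (F := K) chevD4 hD4 (chevD4.simple 2) (by decide)
  obtain ⟨ψ3, h3x, h3y⟩ := exists_hom_root (F := K) chevD4 hD4 (chevD4.simple 3) (by decide)
  have hk : 1 < twCfg_D4.classes.length := by decide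
  have m0 : 0 ∈ twCfg_D4.classes.getD 1 [] := by decide
  have m2 : 2 ∈ twCfg_D4.classes.getD 1 [] := by decide
  have m3 : 3 ∈ twCfg_D4.classes.getD 1 [] := by decide
  have hcl : ∀ (ψ : Matrix.SpecialLinearGroup (Fin 2) K →* GL chevD4.Idx K) (i : ℕ)
      (_ : ∀ t, ψ (uu t) = xG hD4 (chevD4.simple i) t)
      (_ : ∀ t, ψ (yy t) = xG hD4 (chevD4.neg (chevD4.simple i)) t) (A : Matrix.SpecialLinearGroup (Fin 2) K),
      ψ A ∈ Subgroup.closure {x : GL chevD4.Idx K |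
        ∃ t : K, x = xG hD4 (chevD4.simple i) t ∨ x = xG hD4 (chevD4.neg (chevD4.simple i)) t} :=
    fun ψ i hx hy A => hom_mem_closure ψ _ _ hx hy A
  have c02 : ∀ A B, Commute (ψ0 A) (ψ2 B) := fun A B =>
    class_commute hD4 chevData_D4.{u} twCfg_D4 twCfg_D4_ok' 1 hk 0 2 m0 m2 (by decide) _ (hcl ψ0 0 h0x h0y A) _
      (hcl ψ2 2 h2x h2y B)
  have c03 : ∀ A B, Commute (ψ0 A) (ψ3 B) := fun A B =>
    class_commute hD4 chevData_D4.{u} twCfg_D4 twCfg_D4_ok' 1 hk 0 3 m0 m3 (by decide) _ (hcl ψ0 0 h0x h0y A) _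
      (hcl ψ3 3 h3x h3y B)
  have c23 : ∀ A B, Commute (ψ2 A) (ψ3 B) := fun A B =>
    class_commute hD4 chevData_D4.{u} twCfg_D4 twCfg_D4_ok' 1 hk 2 3 m2 m3 (by decide) _ (hcl ψ2 2 h2x h2y A) _
      (hcl ψ3 3 h3x h3y B)
  let f1 : K →+* K := (φ : K →+* K)
  let f2 : K →+* K := ((φ.trans φ : K ≃+* K) : K →+* K)
  let Ψ : Matrix.SpecialLinearGroup (Fin 2) K →* GL chevD4.Idx K :=
    prod3 ψ0 (ψ2.comp (Matrix.SpecialLinearGroup.map f1)) (ψ3.comp (Matrix.SpecialLinearGroup.map f2))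
      (fun A B => c02 A _) (fun A B => c03 A _) (fun A B => c23 _ _)
  have hΨx : ∀ t : K, Ψ (sx t) = xaG φ t := by
    intro t
    show ψ0 (sx t) * (ψ2 (Matrix.SpecialLinearGroup.map f1 (sx t)) * ψ3 (Matrix.SpecialLinearGroup.map f2 (sx t)))
      = _
    rw [map_sx, map_sx, sx_eq_uu, sx_eq_uu, sx_eq_uu, h0x, h2x, h3x, s0, s2, s3]
    rfl
  have hΨy : ∀ t : K, Ψ (sy t) = yaG φ t := by
    intro t
    show ψ0 (sy t) * (ψ2 (Matrix.SpecialLinearGroup.map f1 (sy t)) * ψ3 (Matrix.SpecialLinearGroup.map f2 (sy t)))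
      = _
    rw [map_sy, map_sy, sy_eq_yy, sy_eq_yy, sy_eq_yy, h0y, h2y, h3y, s0, s2, s3, n0, n2, n3]
    rfl
  have hmem : ∀ A, Ψ A ∈ GD4 φ := fun A =>
    hom_mem_of_gens Ψ (GD4 φ) (fun t => by rw [hΨx]; exact xaG_mem φ hφ3 t)
      (fun t => by rw [hΨy]; exact yaG_mem φ hφ3 t) A
  refine ⟨Ψ.codRestrict (GD4 φ) hmem, fun t => ?_, fun t => ?_⟩
  · exact hΨx t
  · exact hΨy t

end Cfsg.Agent.Lib.Helper69.TwOut
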