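/-
helper69: project TWOUT (helper91), module [D4-SL2B]: the homomorphism `SL₂(K₀) → ³D₄` of the class `b` of
fundamental roots (`K₀` the fixed field of `φ`).
-/
import Cfsg.Agent.Lib.Helper69.TwOut.D4SL2A

set_option autoImplicit false

namespace Cfsg.Agent.Lib.Helper69.TwOut

open Cfsg Cfsg.Lie Cfsg.Agent.Lib.Helper18 Cfsg.Agent.Lib.Helper17 Cfsg.Agent.Lib.Helper91.TwOut
open Cfsg.Agent.Lib.Helper17.SL2Pres Cfsg.Agent.Lib.Helper17.ChevSL2 Cfsg.Agent.Lib.Helper19.NatSL2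

universe u

variable {K : Type u} [Field K] [Fintype K] (φ : K ≃+* K)

/-- [D4-SL2B] -/
theorem exists_PhiB (hφ3 : ∀ a : K, φ (φ (φ a)) = a) :
    ∃ Φ : Matrix.SpecialLinearGroup (Fin 2) ↥(fixField φ) →* ↥(GD4 φ),
      (∀ u : ↥(fixField φ), ((Φ (sx u) : ↥(GD4 φ)) : GL chevD4.Idx K) = xG hD4 14 (u : K)) ∧
      (∀ u : ↥(fixField φ), ((Φ (sy u) : ↥(GD4 φ)) : GL chevD4.Idx K) = xG hD4 9 (u : K)) := by
  have s1 : chevD4.simple 1 = 14 := by decide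
  have n1 : chevD4.neg 14 = 9 := by decide
  obtain ⟨ψ, hx, hy⟩ := exists_hom_root (F := K) chevD4 hD4 (chevD4.simple 1) (by decide)
  let Ψ : Matrix.SpecialLinearGroup (Fin 2) ↥(fixField φ) →* GL chevD4.Idx K :=
    ψ.comp (Matrix.SpecialLinearGroup.map (fixField φ).subtype)
  have hΨx : ∀ v : ↥(fixField φ), Ψ (sx v) = xG hD4 14 (v : K) := by
    intro v
    show ψ (Matrix.SpecialLinearGroup.map (fixField φ).subtype (sx v)) = _
    rw [map_sx, sx_eq_uu, hx, s1]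
    rfl
  have hΨy : ∀ v : ↥(fixField φ), Ψ (sy v) = xG hD4 9 (v : K) := by
    intro v
    show ψ (Matrix.SpecialLinearGroup.map (fixField φ).subtype (sy v)) = _
    rw [map_sy, sy_eq_yy, hy, s1, n1]
    rfl
  have hmem : ∀ A, Ψ A ∈ GD4 φ := fun A =>
    hom_mem_of_gens Ψ (GD4 φ) (fun v => by rw [hΨx]; exact xbG_mem φ hφ3 v v.2)
      (fun v => by rw [hΨy]; exact ybG_mem φ hφ3 v v.2) A
  exact ⟨Ψ.codRestrict (GD4 φ) hmem, fun v => hΨx v, fun v => hΨy v⟩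

end Cfsg.Agent.Lib.Helper69.TwOut
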