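/-
helper69: project TWOUT (helper91), modules [D4-FIELD], [D4-FIELD2]: the entrywise field automorphisms of the general
linear group fix `U`, `V` and (when they commute with the twisting field automorphism) the twisted group.
-/
import Cfsg.Agent.Lib.Helper91.TwOut.D4Defs
import Cfsg.Agent.Lib.Helper18.TwOrdD4
import Cfsg.Agent.Lib.Helper18.Tw16
import Cfsg.Agent.S1080

set_option autoImplicit false

namespace Cfsg.Agent.Lib.Helper69.TwOut

open Cfsg Cfsg.Lie Cfsg.Agent.Lib.Helper18 Cfsg.Agent.Lib.Helper17 Cfsg.Agent.Lib.Helper91.TwOut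

universe u

variable {K : Type u} [Field K] {D : ChevalleyDatum}

theorem glMap_glMap_symm (τ : K ≃+* K) (g : GL D.Idx K) :
    Cfsg.Agent.S1080.glMap D τ (Cfsg.Agent.S1080.glMap D τ.symm g) = g := by
  apply Units.ext
  rw [Cfsg.Agent.S1080.glMap_coe, Cfsg.Agent.S1080.glMap_coe, Matrix.map_map]
  ext i j
  simp

section

variable (hD : D ∈ [chevG2, chevB2, chevD4, chevF4, chevE6, chevE7, chevE8])

include hD in
/-- The image of a subgroup generated by root elements of a set of roots. -/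
theorem glMap_closure_roots (τ : K ≃+* K) (P : ℕ → Prop) :
    (Subgroup.closure {g : GL D.Idx K | ∃ (r : ℕ) (t : K), P r ∧ (g : Matrix D.Idx D.Idx K) = D.x K r t}).map
      ((Cfsg.Agent.S1080.glMap D τ : GL D.Idx K ≃* GL D.Idx K) : GL D.Idx K →* GL D.Idx K) =
    Subgroup.closure {g : GL D.Idx K | ∃ (r : ℕ) (t : K), P r ∧ (g : Matrix D.Idx D.Idx K) = D.x K r t} := by
  rw [MonoidHom.map_closure]
  congr 1
  ext g
  simp only [Set.mem_image, Set.mem_setOf_eq]
  constructor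
  · rintro ⟨g', ⟨r, t, hr, hg'⟩, rfl⟩
    refine ⟨r, τ t, hr, ?_⟩
    have : g' = xG hD r t := eq_xG hD g' r t hg'
    rw [this]
    show ((Cfsg.Agent.S1080.glMap D τ (xG hD r t) : GL D.Idx K) : Matrix D.Idx D.Idx K) = _
    rw [glMap_xG hD τ r t, coe_xG]
  · rintro ⟨r, t, hr, hg⟩
    have : g = xG hD r t := eq_xG hD g r t hg
    refine ⟨xG hD r (τ.symm t), ⟨r, τ.symm t, hr, coe_xG hD r _⟩, ?_⟩
    show Cfsg.Agent.S1080.glMap D τ (xG hD r (τ.symm t)) = g
    rw [glMap_xG hD τ r, RingEquiv.apply_symm_apply, this]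

include hD in
theorem glMap_posUnipotent (τ : K ≃+* K) :
    (D.posUnipotent K).map ((Cfsg.Agent.S1080.glMap D τ : GL D.Idx K ≃* GL D.Idx K) :
        GL D.Idx K →* GL D.Idx K) = D.posUnipotent K :=
  glMap_closure_roots hD τ D.IsPosRoot

include hD in
theorem glMap_negUnipotent (τ : K ≃+* K) :
    (D.negUnipotent K).map ((Cfsg.Agent.S1080.glMap D τ : GL D.Idx K ≃* GL D.Idx K) :
        GL D.Idx K →* GL D.Idx K) = D.negUnipotent K :=
  glMap_closure_roots hD τ D.IsNegRoot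

include hD in
theorem glMap_prodL (τ : K ≃+* K) (l : List ℕ) (c : ℕ → K) :
    Cfsg.Agent.S1080.glMap D τ (prodL hD l c) = prodL hD l (fun r => τ (c r)) := by
  induction l with
  | nil => simp [prodL_nil]
  | cons a l ih => rw [prodL_cons, prodL_cons, map_mul, ih, glMap_xG hD τ a]

variable (C : ChevData.{u} D) (cfg : TwCfg) (φ : K ≃+* K)

include hD in
theorem glMap_twGenSet_subset (τ : K ≃+* K) (hcomm : ∀ a : K, τ (φ a) = φ (τ a)) (x : GL D.Idx K)
    (hx : x ∈ twGenSet hD C cfg φ) : Cfsg.Agent.S1080.glMap D τ x ∈ twGenSet hD C cfg φ := by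
  obtain ⟨s, hs, c, hc, rfl⟩ := hx
  refine ⟨s, hs, fun r => τ (c r), ?_, glMap_prodL hD τ _ c⟩
  intro r hr
  show τ (c r) = twT cfg.g φ cfg.m (fun r => τ (c r)) r
  rw [hc r hr]
  unfold twT
  rw [map_mul, map_intCast, hcomm]

include hD in
/-- An entrywise field automorphism commuting with the twisting field automorphism fixes the twisted group. -/
theorem glMap_Gtw (τ : K ≃+* K) (hcomm : ∀ a : K, τ (φ a) = φ (τ a)) :
    (Gtw hD C cfg φ).map ((Cfsg.Agent.S1080.glMap D τ : GL D.Idx K ≃* GL D.Idx K) :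
        GL D.Idx K →* GL D.Idx K) = Gtw hD C cfg φ := by
  have hcomm' : ∀ a : K, τ.symm (φ a) = φ (τ.symm a) := by
    intro a
    apply τ.injective
    rw [RingEquiv.apply_symm_apply, hcomm, RingEquiv.apply_symm_apply]
  unfold Gtw
  rw [MonoidHom.map_closure]
  congr 1
  ext g
  simp only [Set.mem_image]
  constructor
  · rintro ⟨g', hg', rfl⟩
    exact glMap_twGenSet_subset hD C cfg φ τ hcomm g' hg'
  · intro hg
    exact ⟨Cfsg.Agent.S1080.glMap D τ.symm g, glMap_twGenSet_subset hD C cfg φ τ.symm hcomm' g hg,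
      glMap_glMap_symm τ g⟩

end

section D4

variable [Fintype K] (φ : K ≃+* K)

/-- [D4-FIELD] -/
theorem exists_fieldAut (q : ℕ) (hφ : ∀ t : K, φ t = t ^ q) (hK : Fintype.card K = q ^ 3) (τ : K ≃+* K) :
    ∃ θ : ↥(GD4 φ) ≃* ↥(GD4 φ), ∀ g : ↥(GD4 φ),
      ((θ g : ↥(GD4 φ)) : GL chevD4.Idx K) = Cfsg.Agent.S1080.glMap chevD4 τ (g : GL chevD4.Idx K) := by
  have hcomm : ∀ a : K, τ (φ a) = φ (τ a) := by
    intro a
    rw [hφ, hφ, map_pow]
  refine ⟨((Cfsg.Agent.S1080.glMap chevD4 τ).subgroupMap (GD4 φ)).trans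
    (MulEquiv.subgroupCongr (glMap_Gtw hD4 chevData_D4.{u} twCfg_D4 φ τ hcomm)), ?_⟩
  intro g
  rfl

/-- [D4-FIELD2] -/
theorem glMap_unipotent (τ : K ≃+* K) :
    (chevD4.posUnipotent K).map ((Cfsg.Agent.S1080.glMap chevD4 τ : GL chevD4.Idx K ≃* GL chevD4.Idx K) :
        GL chevD4.Idx K →* GL chevD4.Idx K) = chevD4.posUnipotent K ∧
    (chevD4.negUnipotent K).map ((Cfsg.Agent.S1080.glMap chevD4 τ : GL chevD4.Idx K ≃* GL chevD4.Idx K) :
        GL chevD4.Idx K →* GL chevD4.Idx K) = chevD4.negUnipotent K :=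
  ⟨glMap_posUnipotent hD4 τ, glMap_negUnipotent hD4 τ⟩

end D4

end Cfsg.Agent.Lib.Helper69.TwOut
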