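/-
helper69: project TWOUT (helper91), module [D4-GEN]: the twisted group `³D₄` of helper18's machine is generated by
the root elements `x_a(t)`, `y_a(t)` (`t ∈ K`) and `x_b(u)`, `y_b(u)` (`u` in the fixed field).
-/
import Cfsg.Agent.Lib.Helper91.TwOut.D4Defs
import Cfsg.Agent.Lib.Helper18.TwOrdD4
import Cfsg.Agent.Lib.Helper18.Tw16
import Cfsg.Agent.S1080

set_option autoImplicit false

namespace Cfsg.Agent.Lib.Helper69.TwOut

open Cfsg Cfsg.Lie Cfsg.Agent.Lib.Helper18 Cfsg.Agent.Lib.Helper17 Cfsg.Agent.Lib.Helper91.TwOut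

universe u

variable {K : Type u} [Field K] [Fintype K] (φ : K ≃+* K)

/-- [D4-GEN] -/
theorem GD4_eq_closure (hφ3 : ∀ a : K, φ (φ (φ a)) = a) :
    GD4 φ = Subgroup.closure (Set.range (xaG φ) ∪ Set.range (yaG φ) ∪
      {g | ∃ u : K, φ u = u ∧ g = xG hD4 14 u} ∪ {g | ∃ u : K, φ u = u ∧ g = xG hD4 9 u}) := by
  have hTw : twCfg_D4.g.twOK chevData_D4.{u}.T 3 = true := cfg_twOK chevData_D4 twCfg_D4 twCfg_D4_ok'
  have hm : (3 : ℕ) = 2 ∨ (3 : ℕ) = 3 := Or.inr rfl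
  have hφm : ∀ a : K, φ^[3] a = a := fun a => hφ3 a
  have r14 : twCfg_D4.g.rho 14 = 14 := by decide
  have r9 : twCfg_D4.g.rho 9 = 9 := by decide
  apply le_antisymm
  · show Gtw hD4 chevData_D4.{u} twCfg_D4 φ ≤ _
    unfold Gtw
    rw [Subgroup.closure_le]
    rintro x ⟨s, hs, c, hc, rfl⟩
    apply Subgroup.subset_closure
    rw [genRoots_D4] at hs
    have hslt : s < chevD4.nroots := by
      simp only [List.mem_cons, List.not_mem_nil, or_false] at hs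
      rcases hs with rfl | rfl | rfl | rfl <;> decide
    obtain ⟨hcl, hx⟩ := exists_orbVal hD4 chevData_D4 twCfg_D4.g φ 3 hTw hm hφm s hslt c hc
    show prodL hD4 (twCfg_D4.g.orb 3 s) c ∈ _
    rw [hx]
    simp only [List.mem_cons, List.not_mem_nil, or_false] at hs
    rcases hs with rfl | rfl | rfl | rfl
    · rw [prodL_orbVal_fixed hD4 twCfg_D4.g φ 3 14 r14]
      exact Or.inl (Or.inr ⟨c 14, hcl r14, rfl⟩)
    · rw [← xaG_eq_prodL]
      exact Or.inl (Or.inl (Or.inl ⟨c 18, rfl⟩))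
    · rw [prodL_orbVal_fixed hD4 twCfg_D4.g φ 3 9 r9]
      exact Or.inr ⟨c 9, hcl r9, rfl⟩
    · rw [← yaG_eq_prodL]
      exact Or.inl (Or.inl (Or.inr ⟨c 5, rfl⟩))
  · rw [Subgroup.closure_le]
    rintro x (((⟨t, rfl⟩ | ⟨t, rfl⟩) | ⟨v, hv, rfl⟩) | ⟨v, hv, rfl⟩)
    · exact xaG_mem φ hφ3 t
    · exact yaG_mem φ hφ3 t
    · exact xbG_mem φ hφ3 v hv
    · exact ybG_mem φ hφ3 v hv

end Cfsg.Agent.Lib.Helper69.TwOut
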