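/-
helper69: project TWOUT (helper91): the root elements of the classes of a twisted group of helper18's machine,
generically in the configuration: membership, generation, the groups `U_{n_w}^- ∩ G¹` for words making one class
negative.
-/
import Cfsg.Agent.Lib.Helper18.Tw31
import Cfsg.Agent.Lib.Helper18.Tw9
import Cfsg.Agent.Lib.Helper18.Tw15
import Cfsg.Agent.S1034

set_option autoImplicit false

namespace Cfsg.Agent.Lib.Helper69.TwOut

open Cfsg Cfsg.Lie Cfsg.Agent.Lib.Helper18 Cfsg.Agent.Lib.Helper17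

universe u

variable {K : Type u} [Field K] {D : ChevalleyDatum}
  (hD : D ∈ [chevG2, chevB2, chevD4, chevF4, chevE6, chevE7, chevE8]) (C : ChevData.{u} D)
  (cfg : TwCfg) (φ : K ≃+* K) (hcfg : cfg.ok C.T C.tabs C.simples = true)

/-- The root element of the class of the root `s` with leading coefficient `t`. -/
noncomputable def xcls (s : ℕ) (t : K) : GL D.Idx K :=
  prodL hD (cfg.g.orb cfg.m s) (orbVal cfg.g φ s t)

variable (hφm : ∀ a : K, φ^[cfg.m] a = a)

include hcfg hφm in
theorem xcls_mem (s : ℕ) (hs : s ∈ cfg.genRoots C.T) (t : K) (ht : cfg.g.rho s = s → φ t = t) :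
    xcls hD cfg φ s t ∈ Gtw hD C cfg φ := by
  apply Subgroup.subset_closure
  refine ⟨s, hs, orbVal cfg.g φ s t, ?_, rfl⟩
  exact orbVal_tw C cfg.g φ cfg.m (cfg_twOK C cfg hcfg) (cfg_m C cfg hcfg) hφm s
    (genRoots_lt C cfg hcfg s hs) t ht

include hcfg hφm in
/-- The twisted group is generated by the root elements of the generating classes. -/
theorem Gtw_eq_closure_xcls :
    Gtw hD C cfg φ = Subgroup.closure {g | ∃ s ∈ cfg.genRoots C.T, ∃ t : K,
      (cfg.g.rho s = s → φ t = t) ∧ g = xcls hD cfg φ s t} := by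
  apply le_antisymm
  · unfold Gtw
    rw [Subgroup.closure_le]
    rintro x ⟨s, hs, c, hc, rfl⟩
    apply Subgroup.subset_closure
    obtain ⟨hcl, hx⟩ := exists_orbVal hD C cfg.g φ cfg.m (cfg_twOK C cfg hcfg) (cfg_m C cfg hcfg) hφm s
      (genRoots_lt C cfg hcfg s hs) c hc
    exact ⟨s, hs, c s, hcl, hx⟩
  · rw [Subgroup.closure_le]
    rintro x ⟨s, hs, t, ht, rfl⟩
    exact xcls_mem hD C cfg φ hcfg hφm s hs t ht

variable [Fintype K]

include hcfg hφm in
/-- An element of `U_{n_w}^- ∩ G¹`, for a word `cw` in the classes making exactly one class of positive roots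
negative, is the root element of that class. -/
theorem mem_Uneg_single_gen (wl : List (List ℕ)) (hlist : cfg.listOK C.tabs C.simples D.nroots wl = true)
    (hcell : cfg.cellOK C.tabs D.nroots wl = true) (cw : List ℕ) (hcw : cw ∈ wl) (s : ℕ)
    (hneg : cfg.negReps C.tabs D.nroots cw = [s]) (g : GL D.Idx K)
    (hg : g ∈ Subgroup.closure (UnegSet D K (nW hD C (cfg.wordOf cw))))
    (hgG : g ∈ Gtw hD C cfg φ) :
    ∃ t : K, (cfg.g.rho s = s → φ t = t) ∧ g = xcls hD cfg φ s t := by
  have hTw := cfg_twOK C cfg hcfg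
  have hm := cfg_m C cfg hcfg
  have hg' : g ∈ Subgroup.closure (UnegSet D K (nW hD C (cfg.wordOf cw) * 1)) := by
    rwa [mul_one]
  obtain ⟨a, ha, rfl⟩ := exists_cellU hD C cfg φ hcfg hφm wl
    (listOK_lt C cfg _ hlist) hcell cw hcw 1 (one_mem _) g hg' hgG
  obtain ⟨hl, hnd, hall, hmem, hlt'⟩ := repsOK_spec_perm hD C cfg hcfg _
    (cfg.cellReps_perm C.tabs D.nroots cw)
  have e : cfg.g.clsList cfg.m (cfg.negReps C.tabs D.nroots cw) = cfg.g.orb cfg.m s := by
    rw [hneg]
    unfold GraphData.clsList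
    rw [List.flatMap_cons, List.flatMap_nil, List.append_nil]
  have hsneg : s ∈ cfg.negReps C.tabs D.nroots cw := by
    rw [hneg]; exact List.mem_singleton.mpr rfl
  have hscell : s ∈ cfg.cellReps C.tabs D.nroots cw := List.mem_append_right _ hsneg
  have hslt : s < D.nroots := hlt' s hscell
  rw [cellU_eq hD C cfg φ hcfg, e]
  set c := cfL cfg.g φ cfg.m (cfg.cellReps C.tabs D.nroots cw)
    (extL (cfg.negReps C.tabs D.nroots cw) a) with hc
  have hctw : ∀ r ∈ cfg.g.orb cfg.m s, c r = twT cfg.g φ cfg.m c r := by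
    intro r hr
    have hr' : r ∈ cfg.g.clsList cfg.m (cfg.cellReps C.tabs D.nroots cw) := by
      rw [cfg.clsList_cellReps, e]
      exact List.mem_append_right _ hr
    refine cfL_tw C cfg.g φ cfg.m hTw hm hφm _ hlt' hnd _ ?_ r hr'
    intro s' _ hfx
    unfold extL
    split_ifs with hs'
    · exact ha ⟨s', hs'⟩ hfx
    · exact map_zero φ
  obtain ⟨hcl, hx⟩ := exists_orbVal hD C cfg.g φ cfg.m hTw hm hφm s hslt c hctw
  exact ⟨c s, hcl, hx⟩

include hcfg in
/-- Conversely the root elements of the class made negative lie in `U_{n_w}^-`. -/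
theorem xcls_mem_Uneg (wl : List (List ℕ)) (hlist : cfg.listOK C.tabs C.simples D.nroots wl = true)
    (hcell : cfg.cellOK C.tabs D.nroots wl = true) (cw : List ℕ) (hcw : cw ∈ wl) (s : ℕ)
    (hneg : cfg.negReps C.tabs D.nroots cw = [s]) (t : K) :
    xcls hD cfg φ s t ∈ Subgroup.closure (UnegSet D K (nW hD C (cfg.wordOf cw))) := by
  have e : cfg.g.clsList cfg.m (cfg.negReps C.tabs D.nroots cw) = cfg.g.orb cfg.m s := by
    rw [hneg]
    unfold GraphData.clsList
    rw [List.flatMap_cons, List.flatMap_nil, List.append_nil]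
  have h := prodL_negL_mem_closure hD C cfg hcfg wl (listOK_lt C cfg _ hlist) hcell cw hcw 1 (one_mem _)
    (orbVal cfg.g φ s t)
  rwa [e, mul_one] at h

include hcfg hφm in
/-- `U_{n_w}^- ∩ G¹` for a word making exactly the class of `s` negative. -/
theorem mem_Uneg_iff (wl : List (List ℕ)) (hlist : cfg.listOK C.tabs C.simples D.nroots wl = true)
    (hcell : cfg.cellOK C.tabs D.nroots wl = true) (cw : List ℕ) (hcw : cw ∈ wl) (s : ℕ)
    (hs : s ∈ cfg.genRoots C.T) (hneg : cfg.negReps C.tabs D.nroots cw = [s]) (g : GL D.Idx K) :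
    (g ∈ Subgroup.closure (UnegSet D K (nW hD C (cfg.wordOf cw))) ∧ g ∈ Gtw hD C cfg φ) ↔
      ∃ t : K, (cfg.g.rho s = s → φ t = t) ∧ g = xcls hD cfg φ s t := by
  constructor
  · rintro ⟨hg, hgG⟩
    exact mem_Uneg_single_gen hD C cfg φ hcfg hφm wl hlist hcell cw hcw s hneg g hg hgG
  · rintro ⟨t, ht, rfl⟩
    exact ⟨xcls_mem_Uneg hD C cfg φ hcfg wl hlist hcell cw hcw s hneg t,
      xcls_mem hD C cfg φ hcfg hφm s hs t ht⟩

include hcfg in
/-- Arbitrary products over the class made negative lie in `U_{n_w}^-`. -/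
theorem prodL_orb_mem_Uneg_gen (wl : List (List ℕ)) (hlist : cfg.listOK C.tabs C.simples D.nroots wl = true)
    (hcell : cfg.cellOK C.tabs D.nroots wl = true) (cw : List ℕ) (hcw : cw ∈ wl) (s : ℕ)
    (hneg : cfg.negReps C.tabs D.nroots cw = [s]) (t : ℕ → K) :
    prodL hD (cfg.g.orb cfg.m s) t ∈ Subgroup.closure (UnegSet D K (nW hD C (cfg.wordOf cw))) := by
  have e : cfg.g.clsList cfg.m (cfg.negReps C.tabs D.nroots cw) = cfg.g.orb cfg.m s := by
    rw [hneg]
    unfold GraphData.clsList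
    rw [List.flatMap_cons, List.flatMap_nil, List.append_nil]
  have h := prodL_negL_mem_closure hD C cfg hcfg wl (listOK_lt C cfg _ hlist) hcell cw hcw 1 (one_mem _) t
  rwa [e, mul_one] at h

include hcfg in
/-- The coefficients of a product over the class made negative are unique. -/
theorem prodL_orb_injective (cw : List ℕ) (s : ℕ) (hneg : cfg.negReps C.tabs D.nroots cw = [s])
    (t t' : ℕ → K) (h : prodL hD (cfg.g.orb cfg.m s) t = prodL hD (cfg.g.orb cfg.m s) t') :
    ∀ r ∈ cfg.g.orb cfg.m s, t r = t' r := by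
  classical
  obtain ⟨hl, hnd, hall, hmem, hlt'⟩ := repsOK_spec_perm hD C cfg hcfg _
    (cfg.cellReps_perm C.tabs D.nroots cw)
  have e : cfg.g.clsList cfg.m (cfg.negReps C.tabs D.nroots cw) = cfg.g.orb cfg.m s := by
    rw [hneg]
    unfold GraphData.clsList
    rw [List.flatMap_cons, List.flatMap_nil, List.append_nil]
  set lp := cfg.g.clsList cfg.m (cfg.posReps C.tabs D.nroots cw) with hlp
  set ln := cfg.g.orb cfg.m s with hln
  have hsplit : cfg.g.clsList cfg.m (cfg.cellReps C.tabs D.nroots cw) = lp ++ ln := by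
    rw [cfg.clsList_cellReps, e]
  have hnd' := hnd
  rw [hsplit, List.nodup_append] at hnd'
  obtain ⟨-, -, hdisj⟩ := hnd'
  let T : ℕ → K := fun r => if r ∈ lp then 0 else t r
  let T' : ℕ → K := fun r => if r ∈ lp then 0 else t' r
  have h1 : ∀ (u : ℕ → K), prodL hD (lp ++ ln) (fun r => if r ∈ lp then 0 else u r) = prodL hD ln u := by
    intro u
    rw [prodL_append]
    have e1 : prodL hD lp (fun r => if r ∈ lp then 0 else u r) = 1 := by
      rw [← prodL_zero (F := K) hD lp]
      apply prodL_congr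
      intro r hr
      show (if r ∈ lp then 0 else u r) = 0
      rw [if_pos hr]
    have e2 : prodL hD ln (fun r => if r ∈ lp then 0 else u r) = prodL hD ln u := by
      apply prodL_congr
      intro r hr
      show (if r ∈ lp then 0 else u r) = u r
      rw [if_neg fun hrp => hdisj r hrp r hr rfl]
    rw [e1, e2, one_mul]
  have h2 : prodL hD (lp ++ ln) T = prodL hD (lp ++ ln) T' := by
    rw [h1 t, h1 t', h]
  rw [← hsplit] at h2
  have h3 := prodL_injective_of_fintype hD _ hl hnd hall _ _ h2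
  intro r hr
  have hr' : r ∈ cfg.g.clsList cfg.m (cfg.cellReps C.tabs D.nroots cw) := by
    rw [hsplit]; exact List.mem_append_right _ hr
  have h4 := h3 r hr'
  have hrp : r ∉ lp := fun hrp => hdisj r hrp r hr rfl
  show t r = t' r
  have : T r = T' r := h4
  simp only [T, T', if_neg hrp] at this
  exact this

include hcfg hφm in
/-- The elements of `H ∩ G¹` act by a scalar on the root elements of a class. -/
theorem torus_conj_xcls (wl : List (List ℕ)) (hlist : cfg.listOK C.tabs C.simples D.nroots wl = true)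
    (hcell : cfg.cellOK C.tabs D.nroots wl = true) (cw : List ℕ) (hcw : cw ∈ wl) (s : ℕ)
    (hs : s ∈ cfg.genRoots C.T) (hneg : cfg.negReps C.tabs D.nroots cw = [s]) (h : GL D.Idx K)
    (hh : h ∈ D.diagonalSubgroup K) (hhG : h ∈ Gtw hD C cfg φ) :
    ∃ c : K, c ≠ 0 ∧ ∀ t : K, (cfg.g.rho s = s → φ t = t) →
      (cfg.g.rho s = s → φ (c * t) = c * t) ∧ h * xcls hD cfg φ s t * h⁻¹ = xcls hD cfg φ s (c * t) := by
  have hTw := cfg_twOK C cfg hcfg
  have hm := cfg_m C cfg hcfg
  have hslt : s < D.nroots := genRoots_lt C cfg hcfg s hs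
  obtain ⟨cc, hcc, hz⟩ := Cfsg.Agent.S1034.mem_diagonalSubgroup_torus D hD h hh
  have horb_lt : ∀ r ∈ cfg.g.orb cfg.m s, r < D.nroots := by
    intro r hr
    obtain ⟨j, rfl⟩ := (mem_orb_iff C cfg.g cfg.m hTw hm s hslt r).mp hr
    exact rho_iterate_lt C cfg.g cfg.m hTw s hslt j
  have hself : s ∈ cfg.g.orb cfg.m s := self_mem_orb C cfg.g cfg.m hTw hm s hslt
  have hχne : chiFun (D := D) cc s ≠ 0 := by
    unfold chiFun
    rw [dif_pos hslt]
    show ((List.range D.rank).map fun i => cc i ^ D.cartan i (⟨s, hslt⟩ : Fin D.nroots)).prod ≠ 0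
    apply List.prod_ne_zero
    intro h0
    rw [List.mem_map] at h0
    obtain ⟨i, hi, h0⟩ := h0
    exact zpow_ne_zero _ (hcc i (List.mem_range.mp hi)) h0
  refine ⟨chiFun (D := D) cc s, hχne, fun t ht => ?_⟩
  have hconj : h * xcls hD cfg φ s t * h⁻¹
      = prodL hD (cfg.g.orb cfg.m s) (fun r => chiFun (D := D) cc r * orbVal cfg.g φ s t r) :=
    torus_conj_prodL hD h cc hcc hz _ horb_lt _
  have hgG : h * xcls hD cfg φ s t * h⁻¹ ∈ Gtw hD C cfg φ :=
    mul_mem (mul_mem hhG (xcls_mem hD C cfg φ hcfg hφm s hs t ht)) (inv_mem hhG)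
  have hgU : h * xcls hD cfg φ s t * h⁻¹ ∈ Subgroup.closure (UnegSet D K (nW hD C (cfg.wordOf cw))) := by
    rw [hconj]
    exact prodL_orb_mem_Uneg_gen hD C cfg hcfg wl hlist hcell cw hcw s hneg _
  obtain ⟨t', ht', hg⟩ := mem_Uneg_single_gen hD C cfg φ hcfg hφm wl hlist hcell cw hcw s hneg _ hgU hgG
  have h5 : prodL hD (cfg.g.orb cfg.m s) (fun r => chiFun (D := D) cc r * orbVal cfg.g φ s t r)
      = prodL hD (cfg.g.orb cfg.m s) (orbVal cfg.g φ s t') := by
    rw [← hconj, hg]; rfl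
  have h6 := prodL_orb_injective hD C cfg hcfg cw s hneg _ _ h5 s hself
  have h7 : chiFun (D := D) cc s * t = t' := by
    have : orbVal cfg.g φ s t s = t := by unfold orbVal; rw [if_pos rfl]
    have h8 : orbVal cfg.g φ s t' s = t' := by unfold orbVal; rw [if_pos rfl]
    rw [← this, ← h8]
    exact h6
  rw [h7]
  exact ⟨ht', hg⟩

end Cfsg.Agent.Lib.Helper69.TwOut
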