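/-
helper69: project TWOUT (helper91), module [D4-TORUS] (hedge; generic version `torus_conj_xcls` in `TwCls.lean`):
the elements of `H ∩ ³D₄` act by a scalar on the root elements `x_a(t)`.
-/
import Cfsg.Agent.Lib.Helper69.TwOut.TwCls
import Cfsg.Agent.Lib.Helper91.TwOut.D4Defs
import Cfsg.Agent.Lib.Helper18.TwOrdD4

set_option autoImplicit false

namespace Cfsg.Agent.Lib.Helper69.TwOut

open Cfsg Cfsg.Lie Cfsg.Agent.Lib.Helper18 Cfsg.Agent.Lib.Helper17 Cfsg.Agent.Lib.Helper91.TwOut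

universe u

variable {K : Type u} [Field K] [Fintype K] (φ : K ≃+* K)

/-- [D4-TORUS] -/
theorem torus_conj_xaG (hφ3 : ∀ a : K, φ (φ (φ a)) = a) (h : GL chevD4.Idx K)
    (hh : h ∈ chevD4.diagonalSubgroup K) (hhG : h ∈ GD4 φ) :
    ∃ c : K, ∀ t : K, h * xaG φ t * h⁻¹ = xaG φ (c * t) := by
  have hneg : twCfg_D4.negReps chevData_D4.{u}.tabs chevD4.nroots [1] = [18] := by decide
  have hs : 18 ∈ twCfg_D4.genRoots chevData_D4.{u}.T := by rw [genRoots_D4]; simp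
  obtain ⟨c, -, hc⟩ := torus_conj_xcls hD4 chevData_D4.{u} twCfg_D4 φ twCfg_D4_ok' (hφm_D4 φ hφ3) twCoxList_D4
    twCfg_D4_listOK twCfg_D4_cellOK [1] (by decide) 18 hs hneg h hh hhG
  refine ⟨c, fun t => ?_⟩
  have := (hc t (fun h => absurd h (by decide))).2
  rw [xaG_eq_prodL, xaG_eq_prodL]
  exact this

/-- the same with the scalar non-zero -/
theorem torus_conj_xaG' (hφ3 : ∀ a : K, φ (φ (φ a)) = a) (h : GL chevD4.Idx K)
    (hh : h ∈ chevD4.diagonalSubgroup K) (hhG : h ∈ GD4 φ) :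
    ∃ c : K, c ≠ 0 ∧ ∀ t : K, h * xaG φ t * h⁻¹ = xaG φ (c * t) := by
  have hneg : twCfg_D4.negReps chevData_D4.{u}.tabs chevD4.nroots [1] = [18] := by decide
  have hs : 18 ∈ twCfg_D4.genRoots chevData_D4.{u}.T := by rw [genRoots_D4]; simp
  obtain ⟨c, hc0, hc⟩ := torus_conj_xcls hD4 chevData_D4.{u} twCfg_D4 φ twCfg_D4_ok' (hφm_D4 φ hφ3) twCoxList_D4
    twCfg_D4_listOK twCfg_D4_cellOK [1] (by decide) 18 hs hneg h hh hhG
  refine ⟨c, hc0, fun t => ?_⟩
  have := (hc t (fun h => absurd h (by decide))).2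
  rw [xaG_eq_prodL, xaG_eq_prodL]
  exact this

/-- The elements of `H ∩ ³D₄` act by a scalar of the fixed field on the root elements `x_b(u)`. -/
theorem torus_conj_xbG (hφ3 : ∀ a : K, φ (φ (φ a)) = a) (h : GL chevD4.Idx K)
    (hh : h ∈ chevD4.diagonalSubgroup K) (hhG : h ∈ GD4 φ) :
    ∃ c : K, c ≠ 0 ∧ φ c = c ∧ ∀ t : K, h * xG hD4 14 t * h⁻¹ = xG hD4 14 (c * t) := by
  have hneg : twCfg_D4.negReps chevData_D4.{u}.tabs chevD4.nroots [0] = [14] := by decide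
  have hs : 14 ∈ twCfg_D4.genRoots chevData_D4.{u}.T := by rw [genRoots_D4]; simp
  have r14 : twCfg_D4.g.rho 14 = 14 := by decide
  obtain ⟨cc, hcc, hz⟩ := Cfsg.Agent.S1034.mem_diagonalSubgroup_torus chevD4 hD4 h hh
  obtain ⟨c, hc0, hc⟩ := torus_conj_xcls hD4 chevData_D4.{u} twCfg_D4 φ twCfg_D4_ok' (hφm_D4 φ hφ3) twCoxList_D4
    twCfg_D4_listOK twCfg_D4_cellOK [0] (by decide) 14 hs hneg h hh hhG
  have h1 := hc 1 (fun _ => map_one φ)
  have hfix : φ c = c := by simpa using h1.1 r14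
  have e1 : h * xG hD4 14 (1 : K) * h⁻¹ = xG hD4 14 (c * 1) := by
    have := h1.2
    unfold xcls at this
    rw [show twCfg_D4.m = 3 from rfl, prodL_orbVal_fixed hD4 twCfg_D4.g φ 3 14 r14,
      prodL_orbVal_fixed hD4 twCfg_D4.g φ 3 14 r14] at this
    exact this
  have e2 := torus_conj_xG hD4 h cc hcc hz 14 (by decide) (1 : K)
  have hce : c = chiFun (D := chevD4) cc 14 := by
    have h3 : xG hD4 14 (c * 1) = xG hD4 14 (chiFun (D := chevD4) cc 14 * 1) := by rw [← e1, e2]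
    have := xG_injective hD4 14 (by decide) _ _ h3
    simpa using this
  refine ⟨c, hc0, hfix, fun t => ?_⟩
  rw [hce]
  exact torus_conj_xG hD4 h cc hcc hz 14 (by decide) t

end Cfsg.Agent.Lib.Helper69.TwOut
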