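/-
helper69: project TWOUT (helper91), modules [D4-XA], [D4-XB]: the groups `U_{n}^- ∩ G¹` for the two fundamental
reflections of the twisted group `³D₄` are the root groups `{x_a(t)}` and `{x_b(u) | φ u = u}`.
-/
import Cfsg.Agent.Lib.Helper91.TwOut.D4Defs
import Cfsg.Agent.Lib.Helper18.TwOrdD4
import Cfsg.Agent.Lib.Helper18.Tw16
import Cfsg.Agent.S1080

set_option autoImplicit false

namespace Cfsg.Agent.Lib.Helper69.TwOut

open Cfsg Cfsg.Lie Cfsg.Agent.Lib.Helper18 Cfsg.Agent.Lib.Helper17 Cfsg.Agent.Lib.Helper91.TwOut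

universe u

variable {K : Type u} [Field K] [Fintype K] (φ : K ≃+* K)

/-- An element of `U_{n_w}^- ∩ G¹`, for a word `cw` in the classes making exactly one class of positive roots
negative, is the root element of that class. -/
theorem mem_Uneg_single (hφ3 : ∀ a : K, φ (φ (φ a)) = a) (cw : List ℕ) (hcw : cw ∈ twCoxList_D4) (s : ℕ)
    (hneg : twCfg_D4.negReps chevData_D4.{u}.tabs chevD4.nroots cw = [s]) (g : GL chevD4.Idx K)
    (hg : g ∈ Subgroup.closure (UnegSet chevD4 K (nW hD4 chevData_D4.{u} (twCfg_D4.wordOf cw))))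
    (hgG : g ∈ GD4 φ) :
    ∃ t : K, (twCfg_D4.g.rho s = s → φ t = t) ∧
      g = prodL hD4 (twCfg_D4.g.orb 3 s) (orbVal twCfg_D4.g φ s t) := by
  have hTw : twCfg_D4.g.twOK chevData_D4.{u}.T 3 = true := cfg_twOK chevData_D4 twCfg_D4 twCfg_D4_ok'
  have hm : (3 : ℕ) = 2 ∨ (3 : ℕ) = 3 := Or.inr rfl
  have hφm : ∀ a : K, φ^[twCfg_D4.m] a = a := hφm_D4 φ hφ3
  have hg' : g ∈ Subgroup.closure (UnegSet chevD4 K (nW hD4 chevData_D4.{u} (twCfg_D4.wordOf cw) * 1)) := by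
    rwa [mul_one]
  obtain ⟨a, ha, rfl⟩ := exists_cellU hD4 chevData_D4.{u} twCfg_D4 φ twCfg_D4_ok' hφm twCoxList_D4
    (listOK_lt chevData_D4.{u} twCfg_D4 _ twCfg_D4_listOK) twCfg_D4_cellOK cw hcw 1 (one_mem _) g hg' hgG
  obtain ⟨hl, hnd, hall, hmem, hlt'⟩ := repsOK_spec_perm hD4 chevData_D4.{u} twCfg_D4 twCfg_D4_ok' _
    (twCfg_D4.cellReps_perm chevData_D4.{u}.tabs chevD4.nroots cw)
  have e : twCfg_D4.g.clsList twCfg_D4.m (twCfg_D4.negReps chevData_D4.{u}.tabs chevD4.nroots cw)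
      = twCfg_D4.g.orb 3 s := by
    rw [hneg]
    unfold GraphData.clsList
    rw [List.flatMap_cons, List.flatMap_nil, List.append_nil]
    rfl
  have hsneg : s ∈ twCfg_D4.negReps chevData_D4.{u}.tabs chevD4.nroots cw := by
    rw [hneg]; exact List.mem_singleton.mpr rfl
  have hscell : s ∈ twCfg_D4.cellReps chevData_D4.{u}.tabs chevD4.nroots cw :=
    List.mem_append_right _ hsneg
  have hslt : s < chevD4.nroots := hlt' s hscell
  rw [cellU_eq hD4 chevData_D4.{u} twCfg_D4 φ twCfg_D4_ok', e]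
  set c := cfL twCfg_D4.g φ twCfg_D4.m (twCfg_D4.cellReps chevData_D4.{u}.tabs chevD4.nroots cw)
    (extL (twCfg_D4.negReps chevData_D4.{u}.tabs chevD4.nroots cw) a) with hc
  have hctw : ∀ r ∈ twCfg_D4.g.orb 3 s, c r = twT twCfg_D4.g φ 3 c r := by
    intro r hr
    have hr' : r ∈ twCfg_D4.g.clsList twCfg_D4.m
        (twCfg_D4.cellReps chevData_D4.{u}.tabs chevD4.nroots cw) := by
      rw [twCfg_D4.clsList_cellReps, e]
      exact List.mem_append_right _ hr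
    refine cfL_tw chevData_D4.{u} twCfg_D4.g φ twCfg_D4.m hTw hm hφm _ hlt' hnd _ ?_ r hr'
    intro s' _ hfx
    unfold extL
    split_ifs with hs'
    · exact ha ⟨s', hs'⟩ hfx
    · exact map_zero φ
  obtain ⟨hcl, hx⟩ := exists_orbVal hD4 chevData_D4.{u} twCfg_D4.g φ 3 hTw hm hφm s hslt c hctw
  exact ⟨c s, hcl, hx⟩

/-- Conversely the root element of the class made negative lies in `U_{n_w}^-`. -/
theorem prodL_orb_mem_Uneg (cw : List ℕ) (hcw : cw ∈ twCoxList_D4) (s : ℕ)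
    (hneg : twCfg_D4.negReps chevData_D4.{u}.tabs chevD4.nroots cw = [s]) (t : ℕ → K) :
    prodL hD4 (twCfg_D4.g.orb 3 s) t
      ∈ Subgroup.closure (UnegSet chevD4 K (nW hD4 chevData_D4.{u} (twCfg_D4.wordOf cw))) := by
  have e : twCfg_D4.g.clsList twCfg_D4.m (twCfg_D4.negReps chevData_D4.{u}.tabs chevD4.nroots cw)
      = twCfg_D4.g.orb 3 s := by
    rw [hneg]
    unfold GraphData.clsList
    rw [List.flatMap_cons, List.flatMap_nil, List.append_nil]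
    rfl
  have h := prodL_negL_mem_closure hD4 chevData_D4.{u} twCfg_D4 twCfg_D4_ok' twCoxList_D4
    (listOK_lt chevData_D4.{u} twCfg_D4 _ twCfg_D4_listOK) twCfg_D4_cellOK cw hcw 1 (one_mem _) t
  rwa [e, mul_one] at h

theorem negReps_D4_a : twCfg_D4.negReps chevData_D4.{u}.tabs chevD4.nroots [1] = [18] := by decide

theorem negReps_D4_b : twCfg_D4.negReps chevData_D4.{u}.tabs chevD4.nroots [0] = [14] := by decide

/-- [D4-XA] `U_{n_a}^- ∩ G¹ = {x_a(t)}` (`n_a = nW [0,2,3]`, the class `classes[1]`). -/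
theorem mem_UnegA (hφ3 : ∀ a : K, φ (φ (φ a)) = a) (g : GL chevD4.Idx K) :
    (g ∈ Subgroup.closure (UnegSet chevD4 K (nW hD4 chevData_D4.{u} [0, 2, 3])) ∧ g ∈ GD4 φ) ↔
      ∃ t : K, g = xaG φ t := by
  have hw : twCfg_D4.wordOf [1] = [0, 2, 3] := by decide
  constructor
  · rintro ⟨hg, hgG⟩
    rw [← hw] at hg
    obtain ⟨t, -, rfl⟩ := mem_Uneg_single φ hφ3 [1] (by decide) 18 negReps_D4_a g hg hgG
    exact ⟨t, (xaG_eq_prodL φ t).symm⟩
  · rintro ⟨t, rfl⟩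
    refine ⟨?_, xaG_mem φ hφ3 t⟩
    rw [xaG_eq_prodL, ← hw]
    exact prodL_orb_mem_Uneg [1] (by decide) 18 negReps_D4_a _

/-- [D4-XB] `U_{n_b}^- ∩ G¹ = {x_b(u) | φ u = u}` (`n_b = nW [1]`, the class `classes[0]`). -/
theorem mem_UnegB (hφ3 : ∀ a : K, φ (φ (φ a)) = a) (g : GL chevD4.Idx K) :
    (g ∈ Subgroup.closure (UnegSet chevD4 K (nW hD4 chevData_D4.{u} [1])) ∧ g ∈ GD4 φ) ↔
      ∃ u : K, φ u = u ∧ g = xG hD4 14 u := by
  have hw : twCfg_D4.wordOf [0] = [1] := by decide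
  have r14 : twCfg_D4.g.rho 14 = 14 := by decide
  constructor
  · rintro ⟨hg, hgG⟩
    rw [← hw] at hg
    obtain ⟨t, ht, rfl⟩ := mem_Uneg_single φ hφ3 [0] (by decide) 14 negReps_D4_b g hg hgG
    exact ⟨t, ht r14, prodL_orbVal_fixed hD4 twCfg_D4.g φ 3 14 r14 t⟩
  · rintro ⟨v, hv, rfl⟩
    refine ⟨?_, xbG_mem φ hφ3 v hv⟩
    rw [← prodL_orbVal_fixed hD4 twCfg_D4.g φ 3 14 r14 v, ← hw]
    exact prodL_orb_mem_Uneg [0] (by decide) 14 negReps_D4_b _

end Cfsg.Agent.Lib.Helper69.TwOut
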