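/-
helper69: project TWOUT: the twisted group of a configuration of helper18's machine as an instance of helper91's
`SplitBN`, generically in the configuration (port of helper91's `splitD4`); the hypotheses left are the identification
`X_i = n₀ Y_{op i} n₀⁻¹` and the orders of the fundamental root subgroups.
-/
import Cfsg.Agent.Lib.Helper91.TwOut.Inst1
import Cfsg.Agent.Lib.Helper18.TwCore
import Cfsg.Agent.Lib.Helper18.Tw14

set_option autoImplicit false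
set_option linter.unusedSectionVars false

namespace Cfsg.Agent.Lib.Helper69.TwOut

open Cfsg Cfsg.Lie Cfsg.Agent.Lib.Helper18 Cfsg.Agent.Lib.Helper17 Cfsg.Agent.Lib.Helper91.TwOut

universe u

variable {K : Type u} [Field K] [Fintype K] {D : ChevalleyDatum}
  (hD : D ∈ [chevG2, chevB2, chevD4, chevF4, chevE6, chevE7, chevE8]) (C : ChevData.{u} D)
  (cfg : TwCfg) (φ : K ≃+* K) (hcfg : cfg.ok C.T C.tabs C.simples = true)

/-- `U¹`. -/
def UTw : Subgroup ↥(Gtw hD C cfg φ) := (D.posUnipotent K).subgroupOf (Gtw hD C cfg φ)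

/-- `V¹`. -/
def VTw : Subgroup ↥(Gtw hD C cfg φ) := (D.negUnipotent K).subgroupOf (Gtw hD C cfg φ)

/-- `U_n^- ∩ G¹`. -/
def UmTw (n : ↥(Gtw hD C cfg φ)) : Subgroup ↥(Gtw hD C cfg φ) :=
  (Subgroup.closure (UnegSet D K (n : GL D.Idx K))).subgroupOf (Gtw hD C cfg φ)

/-- The generator of the class `k` (trivial outside the range). -/
noncomputable def sTw (k : ℕ) : ↥(Gtw hD C cfg φ) :=
  if hk : k < cfg.classes.length then ⟨nW hD C (cfg.classes.getD k []), nW_class_mem_Gtw hD C cfg φ hcfg k hk⟩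
  else 1

theorem coe_sTw (k : ℕ) (hk : k < cfg.classes.length) :
    ((sTw hD C cfg φ hcfg k : ↥(Gtw hD C cfg φ)) : GL D.Idx K) = nW hD C (cfg.classes.getD k []) := by
  unfold sTw
  rw [dif_pos hk]

/-- The element of a word in the classes (trivial if the word is not admissible). -/
noncomputable def nTw (cw : List ℕ) : ↥(Gtw hD C cfg φ) :=
  if hcw : ∀ c ∈ cw, c < cfg.classes.length then
    ⟨nW hD C (cfg.wordOf cw), nW_wordOf_mem_Gtw hD C cfg φ hcfg cw hcw⟩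
  else 1

theorem coe_nTw (cw : List ℕ) (hcw : ∀ c ∈ cw, c < cfg.classes.length) :
    ((nTw hD C cfg φ hcfg cw : ↥(Gtw hD C cfg φ)) : GL D.Idx K) = nW hD C (cfg.wordOf cw) := by
  unfold nTw
  rw [dif_pos hcw]

/-- The positive fundamental root subgroup of the class `k`. -/
noncomputable def XTw (k : ℕ) : Subgroup ↥(Gtw hD C cfg φ) := UmTw hD C cfg φ (sTw hD C cfg φ hcfg k)

/-- The negative fundamental root subgroup of the class `k`. -/
noncomputable def YTw (k : ℕ) : Subgroup ↥(Gtw hD C cfg φ) :=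
  (XTw hD C cfg φ hcfg k).map (MulAut.conj (sTw hD C cfg φ hcfg k)).toMonoidHom

theorem mem_UTw (g : ↥(Gtw hD C cfg φ)) : g ∈ UTw hD C cfg φ ↔ (g : GL D.Idx K) ∈ D.posUnipotent K :=
  Subgroup.mem_subgroupOf

theorem mem_VTw (g : ↥(Gtw hD C cfg φ)) : g ∈ VTw hD C cfg φ ↔ (g : GL D.Idx K) ∈ D.negUnipotent K :=
  Subgroup.mem_subgroupOf

theorem mem_UmTw (n g : ↥(Gtw hD C cfg φ)) :
    g ∈ UmTw hD C cfg φ n ↔ (g : GL D.Idx K) ∈ Subgroup.closure (UnegSet D K (n : GL D.Idx K)) :=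
  Subgroup.mem_subgroupOf

theorem mem_XTw (k : ℕ) (hk : k < cfg.classes.length) (g : ↥(Gtw hD C cfg φ)) :
    g ∈ XTw hD C cfg φ hcfg k ↔
      (g : GL D.Idx K) ∈ Subgroup.closure (UnegSet D K (nW hD C (cfg.classes.getD k []))) := by
  unfold XTw
  rw [mem_UmTw, coe_sTw hD C cfg φ hcfg k hk]

theorem mem_YTw (k : ℕ) (g : ↥(Gtw hD C cfg φ)) :
    g ∈ YTw hD C cfg φ hcfg k ↔
      (sTw hD C cfg φ hcfg k)⁻¹ * g * sTw hD C cfg φ hcfg k ∈ XTw hD C cfg φ hcfg k := by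
  unfold YTw
  rw [Subgroup.mem_map]
  constructor
  · rintro ⟨x, hx, rfl⟩
    have : (sTw hD C cfg φ hcfg k)⁻¹ * (MulAut.conj (sTw hD C cfg φ hcfg k)).toMonoidHom x *
        sTw hD C cfg φ hcfg k = x := by
      show (sTw hD C cfg φ hcfg k)⁻¹ * (sTw hD C cfg φ hcfg k * x * (sTw hD C cfg φ hcfg k)⁻¹) *
        sTw hD C cfg φ hcfg k = x
      group
    rwa [this]
  · intro h
    refine ⟨_, h, ?_⟩
    show sTw hD C cfg φ hcfg k * ((sTw hD C cfg φ hcfg k)⁻¹ * g * sTw hD C cfg φ hcfg k) *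
      (sTw hD C cfg φ hcfg k)⁻¹ = g
    group

section Split

variable (p : ℕ) (P : Cfsg.BNPair ↥(Gtw hD C cfg φ))
  (hPB : P.B = (D.borelSubgroup K ⊓ Gtw hD C cfg φ).subgroupOf (Gtw hD C cfg φ))
  (hPN : P.N = (D.monomialSubgroup K ⊓ Gtw hD C cfg φ).subgroupOf (Gtw hD C cfg φ))
  (hPS : P.S = {s : ↥(Gtw hD C cfg φ) | ∃ k < cfg.classes.length,
    (s : GL D.Idx K) = nW hD C (cfg.classes.getD k [])})

include hPB in
theorem mem_PB (x : ↥(Gtw hD C cfg φ)) : x ∈ P.B ↔ (x : GL D.Idx K) ∈ D.borelSubgroup K := by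
  rw [hPB, Subgroup.mem_subgroupOf, Subgroup.mem_inf]
  exact ⟨fun h => h.1, fun h => ⟨h, x.2⟩⟩

include hPN in
theorem mem_PN (x : ↥(Gtw hD C cfg φ)) : x ∈ P.N ↔ (x : GL D.Idx K) ∈ D.monomialSubgroup K := by
  rw [hPN, Subgroup.mem_subgroupOf, Subgroup.mem_inf]
  exact ⟨fun h => h.1, fun h => ⟨h, x.2⟩⟩

include hPB hPN in
theorem mem_PH (x : ↥(Gtw hD C cfg φ)) : x ∈ P.B ⊓ P.N ↔ (x : GL D.Idx K) ∈ D.diagonalSubgroup K := by
  rw [Subgroup.mem_inf, mem_PB hD C cfg φ P hPB, mem_PN hD C cfg φ P hPN, ← (Cfsg.Agent.S1040.result D hD).2,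
    Subgroup.mem_inf]

include hPB hPN in
/-- `B¹ ∩ N¹` is `H ∩ G¹`. -/
noncomputable def equivPH : ↥(P.B ⊓ P.N) ≃ ↥(D.diagonalSubgroup K ⊓ Gtw hD C cfg φ) where
  toFun x := ⟨((x : ↥(Gtw hD C cfg φ)) : GL D.Idx K),
    Subgroup.mem_inf.mpr ⟨(mem_PH hD C cfg φ P hPB hPN x.1).mp x.2, x.1.2⟩⟩
  invFun y := ⟨⟨y.1, (Subgroup.mem_inf.mp y.2).2⟩,
    (mem_PH hD C cfg φ P hPB hPN _).mpr (Subgroup.mem_inf.mp y.2).1⟩
  left_inv x := rfl
  right_inv y := rfl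

variable {ι : Type*} (idx : ι → ℕ) (hidx : ∀ i, idx i < cfg.classes.length)
  (hsurj : ∀ k < cfg.classes.length, ∃ i, idx i = k)
  (hsyl : IsPGroup p ↥(UTw hD C cfg φ) ∧ ¬ p ∣ (UTw hD C cfg φ).index)
  (cw₀ : List ℕ) (hlong : cfg.longOK C.T C.tabs cw₀ = true) (hcw₀ : ∀ c ∈ cw₀, c < cfg.classes.length)
  (e : ι → ℕ) (he : ∀ i, 0 < e i) (op : Equiv.Perm ι)
  (hXeq : ∀ i g, g ∈ XTw hD C cfg φ hcfg (idx i) ↔
    (nTw hD C cfg φ hcfg cw₀)⁻¹ * g * nTw hD C cfg φ hcfg cw₀ ∈ YTw hD C cfg φ hcfg (idx (op i)))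
  (hcard : ∀ i, Nat.card ↥(XTw hD C cfg φ hcfg (idx i)) = p ^ e i)

include hPB hPN hPS hidx hsurj hsyl hlong hcw₀ he hXeq hcard in
/-- The twisted group as a split (B,N)-pair with root subgroups. -/
noncomputable def splitTw : SplitBN ↥(Gtw hD C cfg φ) ι p where
  P := P
  U := UTw hD C cfg φ
  V := VTw hD C cfg φ
  Um := UmTw hD C cfg φ
  s := fun i => sTw hD C cfg φ hcfg (idx i)
  X := fun i => XTw hD C cfg φ hcfg (idx i)
  Y := fun i => YTw hD C cfg φ hcfg (idx i)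
  e := e
  n₀ := nTw hD C cfg φ hcfg cw₀
  op := op
  S_eq := by
    rw [hPS]
    ext x
    simp only [Set.mem_ofPred_eq, Set.mem_range]
    constructor
    · rintro ⟨k, hk, hx⟩
      obtain ⟨i, rfl⟩ := hsurj k hk
      refine ⟨i, Subtype.ext ?_⟩
      rw [hx, coe_sTw hD C cfg φ hcfg _ hk]
    · rintro ⟨i, rfl⟩
      exact ⟨idx i, hidx i, coe_sTw hD C cfg φ hcfg _ (hidx i)⟩
  pU := hsyl.1
  idxU := hsyl.2
  U_le := by
    intro x hx
    rw [mem_PB hD C cfg φ P hPB]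
    exact borel_of_posUnipotent _ ((mem_UTw hD C cfg φ x).mp hx)
  U_norm := by
    intro b hb x hx
    rw [mem_UTw]
    rw [mem_PB hD C cfg φ P hPB] at hb
    have := borel_conj_mem hD _ _ hb ((mem_UTw hD C cfg φ x).mp hx)
    simpa using this
  B_eq := by
    intro b hb
    rw [mem_PB hD C cfg φ P hPB] at hb
    obtain ⟨x, hx, h, hh, e⟩ := borel_decomp hD C cfg φ hcfg _ hb b.2
    refine ⟨⟨x, hx.2⟩, (mem_UTw hD C cfg φ _).mpr hx.1, ⟨h, hh.2⟩,
      (mem_PH hD C cfg φ P hPB hPN _).mpr hh.1, Subtype.ext e⟩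
  V_inf_B := by
    rw [eq_bot_iff]
    intro x hx
    rw [Subgroup.mem_bot]
    apply Subtype.ext
    have h1 : (x : GL D.Idx K) ∈ D.borelSubgroup K ⊓ D.negUnipotent K :=
      Subgroup.mem_inf.mpr ⟨(mem_PB hD C cfg φ P hPB x).mp hx.2, (mem_VTw hD C cfg φ x).mp hx.1⟩
    rw [(Cfsg.Agent.S1037.result D hD).1, Subgroup.mem_bot] at h1
    exact h1
  n₀_mem := by
    rw [mem_PN hD C cfg φ P hPN, coe_nTw hD C cfg φ hcfg cw₀ hcw₀]
    exact nW_mem_monomial hD C _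
  V_eq := by
    intro g
    rw [mem_VTw, mem_UTw]
    have := (long_conj (K := K) hD C cfg hcfg cw₀ hlong).1 (g : GL D.Idx K)
    rw [this, Subgroup.coe_mul, Subgroup.coe_mul, Subgroup.coe_inv, coe_nTw hD C cfg φ hcfg cw₀ hcw₀]
  U_eq := by
    intro g
    rw [mem_VTw, mem_UTw]
    have := (long_conj (K := K) hD C cfg hcfg cw₀ hlong).2 (g : GL D.Idx K)
    rw [this, Subgroup.coe_mul, Subgroup.coe_mul, Subgroup.coe_inv, coe_nTw hD C cfg φ hcfg cw₀ hcw₀]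
  Um_le := by
    intro n x hx
    rw [mem_UTw]
    exact closure_UnegSet_le D _ ((mem_UmTw hD C cfg φ n x).mp hx)
  Um_conj := by
    intro n x hx
    rw [mem_VTw]
    have := conj_mem_neg_of_mem_closure hD _ _ ((mem_UmTw hD C cfg φ n x).mp hx)
    simpa using this
  Um_diag := by
    intro n h hh
    rw [mem_PH hD C cfg φ P hPB hPN] at hh
    ext x
    rw [mem_UmTw, mem_UmTw, Subgroup.coe_mul, closure_UnegSet_mul_diag hD _ _ hh]
  form := by
    intro g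
    obtain ⟨u₀, hu₀, n, hn, x, hx, hxG, e⟩ := exists_Gtw_form hD C cfg φ hcfg _ g.2
    refine ⟨⟨u₀, hu₀.2⟩, (mem_UTw hD C cfg φ _).mpr hu₀.1, ⟨n, hn.2⟩, (mem_PN hD C cfg φ P hPN _).mpr hn.1,
      ⟨x, hxG⟩, (mem_UmTw hD C cfg φ _ _).mpr hx, Subtype.ext e⟩
  Um_s := fun i => rfl
  Y_eq := fun i g => mem_YTw hD C cfg φ hcfg (idx i) g
  X_eq := hXeq
  card_X := hcard
  e_pos := he

end Split

end Cfsg.Agent.Lib.Helper69.TwOut
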