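/-
helper69: project TWOUT: the fundamental root subgroups `X_k`, `Y_k` of the `SplitBN` instance of a twisted group, for
one class `k` of fundamental roots with root elements `xcls s t` (positive) and `xcls s' t` (negative), from the
conjugation formulas for `n_k` and the longest element; generically in the configuration.
-/
import Cfsg.Agent.Lib.Helper69.TwOut.TwCls
import Cfsg.Agent.Lib.Helper69.TwOut.TwSplit

set_option autoImplicit false
set_option linter.unusedSectionVars false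

namespace Cfsg.Agent.Lib.Helper69.TwOut

open Cfsg Cfsg.Lie Cfsg.Agent.Lib.Helper18 Cfsg.Agent.Lib.Helper17 Cfsg.Agent.Lib.Helper91.TwOut

universe u

variable {K : Type u} [Field K] [Fintype K] {D : ChevalleyDatum}
  (hD : D ∈ [chevG2, chevB2, chevD4, chevF4, chevE6, chevE7, chevE8]) (C : ChevData.{u} D)
  (cfg : TwCfg) (φ : K ≃+* K) (hcfg : cfg.ok C.T C.tabs C.simples = true)
  (hφm : ∀ a : K, φ^[cfg.m] a = a)
  (wl : List (List ℕ)) (hlist : cfg.listOK C.tabs C.simples D.nroots wl = true)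
  (hcell : cfg.cellOK C.tabs D.nroots wl = true)

theorem wordOf_singleton (k : ℕ) : cfg.wordOf [k] = cfg.classes.getD k [] := by
  unfold TwCfg.wordOf
  rw [List.flatMap_cons, List.flatMap_nil, List.append_nil]

section OneClass

variable (k : ℕ) (hk : k < cfg.classes.length) (s s' : ℕ) (hs : s ∈ cfg.genRoots C.T)
  (hs' : s' ∈ cfg.genRoots C.T) (hkw : [k] ∈ wl) (hneg : cfg.negReps C.tabs D.nroots [k] = [s])
  (hfix : cfg.g.rho s = s ↔ cfg.g.rho s' = s')
  (hconj : ∀ t : K, nW hD C (cfg.classes.getD k []) * xcls hD cfg φ s t * (nW hD C (cfg.classes.getD k []))⁻¹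
    = xcls hD cfg φ s' (-t))

include hcfg hφm hlist hcell hk hs hkw hneg in
/-- The positive root subgroup of the class. -/
theorem mem_XTw_iff (g : ↥(Gtw hD C cfg φ)) :
    g ∈ XTw hD C cfg φ hcfg k ↔
      ∃ t : K, (cfg.g.rho s = s → φ t = t) ∧ (g : GL D.Idx K) = xcls hD cfg φ s t := by
  rw [mem_XTw hD C cfg φ hcfg k hk, ← wordOf_singleton,
    ← mem_Uneg_iff hD C cfg φ hcfg hφm wl hlist hcell [k] hkw s hs hneg]
  exact ⟨fun h => ⟨h, g.2⟩, fun h => h.1⟩

include hcfg hφm hlist hcell hk hs hkw hneg hfix hconj in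
/-- The negative root subgroup of the class. -/
theorem mem_YTw_iff (g : ↥(Gtw hD C cfg φ)) :
    g ∈ YTw hD C cfg φ hcfg k ↔
      ∃ t : K, (cfg.g.rho s' = s' → φ t = t) ∧ (g : GL D.Idx K) = xcls hD cfg φ s' t := by
  rw [mem_YTw, mem_XTw_iff hD C cfg φ hcfg hφm wl hlist hcell k hk s hs hkw hneg]
  have e2 : (((sTw hD C cfg φ hcfg k)⁻¹ * g * sTw hD C cfg φ hcfg k : ↥(Gtw hD C cfg φ)) : GL D.Idx K)
      = (nW hD C (cfg.classes.getD k []))⁻¹ * (g : GL D.Idx K) * nW hD C (cfg.classes.getD k []) := by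
    rw [Subgroup.coe_mul, Subgroup.coe_mul, Subgroup.coe_inv, coe_sTw hD C cfg φ hcfg k hk]
  rw [e2]
  constructor
  · rintro ⟨t, ht, hg⟩
    refine ⟨-t, fun h => by rw [map_neg, ht (hfix.mpr h)], ?_⟩
    rw [← hconj, ← hg]
    group
  · rintro ⟨t, ht, hg⟩
    refine ⟨-t, fun h => by rw [map_neg, ht (hfix.mp h)], ?_⟩
    have := hconj (-t)
    rw [neg_neg] at this
    rw [hg, ← this]
    group

variable (cw₀ : List ℕ) (hcw₀ : ∀ c ∈ cw₀, c < cfg.classes.length)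
  (hlong1 : ∀ t : K, (cfg.g.rho s' = s' → φ t = t) → ∃ t' : K, (cfg.g.rho s = s → φ t' = t') ∧
    nW hD C (cfg.wordOf cw₀) * xcls hD cfg φ s' t * (nW hD C (cfg.wordOf cw₀))⁻¹ = xcls hD cfg φ s t')
  (hlong2 : ∀ t' : K, (cfg.g.rho s = s → φ t' = t') → ∃ t : K, (cfg.g.rho s' = s' → φ t = t) ∧
    nW hD C (cfg.wordOf cw₀) * xcls hD cfg φ s' t * (nW hD C (cfg.wordOf cw₀))⁻¹ = xcls hD cfg φ s t')

include hcfg hφm hlist hcell hk hs hkw hneg hfix hconj hcw₀ hlong1 hlong2 in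
/-- `X_k = n₀ Y_k n₀⁻¹`. -/
theorem mem_XTw_iff_long (g : ↥(Gtw hD C cfg φ)) :
    g ∈ XTw hD C cfg φ hcfg k ↔
      (nTw hD C cfg φ hcfg cw₀)⁻¹ * g * nTw hD C cfg φ hcfg cw₀ ∈ YTw hD C cfg φ hcfg k := by
  rw [mem_XTw_iff hD C cfg φ hcfg hφm wl hlist hcell k hk s hs hkw hneg,
    mem_YTw_iff hD C cfg φ hcfg hφm wl hlist hcell k hk s s' hs hkw hneg hfix hconj]
  have e2 : (((nTw hD C cfg φ hcfg cw₀)⁻¹ * g * nTw hD C cfg φ hcfg cw₀ : ↥(Gtw hD C cfg φ)) : GL D.Idx K)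
      = (nW hD C (cfg.wordOf cw₀))⁻¹ * (g : GL D.Idx K) * nW hD C (cfg.wordOf cw₀) := by
    rw [Subgroup.coe_mul, Subgroup.coe_mul, Subgroup.coe_inv, coe_nTw hD C cfg φ hcfg cw₀ hcw₀]
  rw [e2]
  constructor
  · rintro ⟨t', ht', hg⟩
    obtain ⟨t, ht, e⟩ := hlong2 t' ht'
    refine ⟨t, ht, ?_⟩
    rw [hg, ← e]
    group
  · rintro ⟨t, ht, hg⟩
    obtain ⟨t', ht', e⟩ := hlong1 t ht
    refine ⟨t', ht', ?_⟩
    rw [← e, ← hg]
    group

include hcfg hneg in
/-- The root elements of the class made negative by `n_k` are parametrised injectively. -/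
theorem xcls_injective (t t' : K) (h : xcls hD cfg φ s t = xcls hD cfg φ s t') (hslt : s < D.nroots) : t = t' := by
  have hTw := cfg_twOK C cfg hcfg
  have hm := cfg_m C cfg hcfg
  have hself : s ∈ cfg.g.orb cfg.m s := self_mem_orb C cfg.g cfg.m hTw hm s hslt
  have h6 := prodL_orb_injective hD C cfg hcfg [k] s hneg _ _ h s hself
  have e1 : orbVal cfg.g φ s t s = t := by unfold orbVal; rw [if_pos rfl]
  have e2 : orbVal cfg.g φ s t' s = t' := by unfold orbVal; rw [if_pos rfl]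
  rw [← e1, ← e2]
  exact h6

include hcfg hφm hlist hcell hk hs hkw hneg in
/-- The order of the positive root subgroup of the class. -/
theorem card_XTw : Nat.card ↥(XTw hD C cfg φ hcfg k) = Nat.card {t : K // cfg.g.rho s = s → φ t = t} := by
  symm
  apply Nat.card_congr
  have hslt : s < D.nroots := genRoots_lt C cfg hcfg s hs
  refine Equiv.ofBijective (fun t => ⟨⟨xcls hD cfg φ s t.1, xcls_mem hD C cfg φ hcfg hφm s hs t.1 t.2⟩,
    (mem_XTw_iff hD C cfg φ hcfg hφm wl hlist hcell k hk s hs hkw hneg _).mpr ⟨t.1, t.2, rfl⟩⟩) ⟨?_, ?_⟩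
  · intro a b h
    apply Subtype.ext
    have h1 := congrArg (fun z : ↥(XTw hD C cfg φ hcfg k) => ((z : ↥(Gtw hD C cfg φ)) : GL D.Idx K)) h
    exact xcls_injective hD C cfg φ hcfg k s hneg _ _ h1 hslt
  · rintro ⟨g, hg⟩
    obtain ⟨t, ht, e⟩ := (mem_XTw_iff hD C cfg φ hcfg hφm wl hlist hcell k hk s hs hkw hneg g).mp hg
    exact ⟨⟨t, ht⟩, Subtype.ext (Subtype.ext e.symm)⟩

end OneClass

end Cfsg.Agent.Lib.Helper69.TwOut
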