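/-
helper69: project TWOUT, the twisted group `²E₆` of helper18's machine: the root elements of the four classes of
fundamental roots (classes `[1], [3], [0,5], [2,4]` with positive roots `46, 39, 56/36, 42/37` and negative roots
`25, 32, 15/35, 29/34`), first facts.
-/
import Cfsg.Agent.Lib.Helper69.TwOut.TwClsInst
import Cfsg.Agent.Lib.Helper18.TwOrdE6
import Cfsg.Agent.Lib.Helper18.TwE6
import Cfsg.Agent.Lib.Helper18.TwBnE6
import Cfsg.Agent.Lib.Helper18.TwCore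

set_option autoImplicit false
set_option linter.unusedSectionVars false

namespace Cfsg.Agent.Lib.Helper69.TwOut

open Cfsg Cfsg.Lie Cfsg.Agent.Lib.Helper18 Cfsg.Agent.Lib.Helper17 Cfsg.Agent.Lib.Helper91.TwOut

universe u

variable {K : Type u} [Field K] (φ : K ≃+* K)

/-- The twisted group `²E₆` of helper18's machine. -/
abbrev GE6 : Subgroup (GL chevE6.Idx K) := Gtw hE6 chevData_E6.{u} twCfg_E6 φ

/-- The word of the longest element in the classes. -/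
def cw0E6 : List ℕ := [0, 1, 3, 2, 0, 1, 3, 2, 0, 1, 3, 2, 0, 1, 3, 2, 0, 1, 3, 2, 0, 1, 3, 2]

theorem wordOf_cw0E6 : twCfg_E6.wordOf cw0E6 =
    [1, 3, 2, 4, 0, 5, 1, 3, 2, 4, 0, 5, 1, 3, 2, 4, 0, 5, 1, 3, 2, 4, 0, 5, 1, 3, 2, 4, 0, 5, 1, 3, 2, 4, 0, 5] := by
  decide

theorem cw0E6_lt : ∀ c ∈ cw0E6, c < twCfg_E6.classes.length := by decide

theorem twCfg_E6_longOK' : twCfg_E6.longOK chevData_E6.{u}.T chevData_E6.{u}.tabs cw0E6 = true :=
  twCfg_E6_longOK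

theorem twCfg_E6_listOK' :
    twCfg_E6.listOK chevData_E6.{u}.tabs chevData_E6.{u}.simples chevE6.nroots twCoxList_E6 = true :=
  twCfg_E6_listOK

theorem twCfg_E6_cellOK' : twCfg_E6.cellOK chevData_E6.{u}.tabs chevE6.nroots twCoxList_E6 = true :=
  twCfg_E6_cellOK

theorem genRoots_E6 : twCfg_E6.genRoots chevData_E6.{u}.T = [46, 39, 56, 42, 25, 32, 15, 29] := by decide

theorem hφm_E6 (hφ2 : ∀ a : K, φ (φ a) = a) : ∀ a : K, φ^[twCfg_E6.m] a = a := fun a => hφ2 a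

/-- The root elements of a class of two roots. -/
theorem xcls_pair_E6 (s : ℕ) (hne : twCfg_E6.g.rho s ≠ s) (h1 : twCfg_E6.g.gam s = 1) (t : K) :
    xcls hE6 twCfg_E6 φ s t = xG hE6 s t * xG hE6 (twCfg_E6.g.rho s) (φ t) :=
  prodL_orbVal_two hE6 twCfg_E6.g φ s hne h1 t

/-- The root elements of a class of one root. -/
theorem xcls_fixed_E6 (s : ℕ) (hfx : twCfg_E6.g.rho s = s) (t : K) :
    xcls hE6 twCfg_E6 φ s t = xG hE6 s t :=
  prodL_orbVal_fixed hE6 twCfg_E6.g φ 2 s hfx t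

theorem xcls_56 (t : K) : xcls hE6 twCfg_E6 φ 56 t = xG hE6 56 t * xG hE6 36 (φ t) :=
  xcls_pair_E6 φ 56 (by decide) (by decide) t

theorem xcls_42 (t : K) : xcls hE6 twCfg_E6 φ 42 t = xG hE6 42 t * xG hE6 37 (φ t) :=
  xcls_pair_E6 φ 42 (by decide) (by decide) t

theorem xcls_15 (t : K) : xcls hE6 twCfg_E6 φ 15 t = xG hE6 15 t * xG hE6 35 (φ t) :=
  xcls_pair_E6 φ 15 (by decide) (by decide) t

theorem xcls_29 (t : K) : xcls hE6 twCfg_E6 φ 29 t = xG hE6 29 t * xG hE6 34 (φ t) :=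
  xcls_pair_E6 φ 29 (by decide) (by decide) t

theorem xcls_39 (t : K) : xcls hE6 twCfg_E6 φ 39 t = xG hE6 39 t := xcls_fixed_E6 φ 39 (by decide) t

theorem xcls_46 (t : K) : xcls hE6 twCfg_E6 φ 46 t = xG hE6 46 t := xcls_fixed_E6 φ 46 (by decide) t

theorem xcls_32 (t : K) : xcls hE6 twCfg_E6 φ 32 t = xG hE6 32 t := xcls_fixed_E6 φ 32 (by decide) t

theorem xcls_25 (t : K) : xcls hE6 twCfg_E6 φ 25 t = xG hE6 25 t := xcls_fixed_E6 φ 25 (by decide) t

theorem mem_genRoots_E6 (s : ℕ) (hs : s ∈ [46, 39, 56, 42, 25, 32, 15, 29]) :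
    s ∈ twCfg_E6.genRoots chevData_E6.{u}.T := by
  rw [genRoots_E6]; exact hs

theorem negReps_E6_0 : twCfg_E6.negReps chevData_E6.{u}.tabs chevE6.nroots [0] = [46] := by decide
theorem negReps_E6_1 : twCfg_E6.negReps chevData_E6.{u}.tabs chevE6.nroots [1] = [39] := by decide
theorem negReps_E6_2 : twCfg_E6.negReps chevData_E6.{u}.tabs chevE6.nroots [2] = [56] := by decide
theorem negReps_E6_3 : twCfg_E6.negReps chevData_E6.{u}.tabs chevE6.nroots [3] = [42] := by decide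

set_option maxRecDepth 1000000 in
theorem mem_twCoxList_E6 : [0] ∈ twCoxList_E6 ∧ [1] ∈ twCoxList_E6 ∧ [2] ∈ twCoxList_E6 ∧ [3] ∈ twCoxList_E6 := by
  decide +kernel

end Cfsg.Agent.Lib.Helper69.TwOut
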