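/-
helper69: project TWOUT, `²E₆`: the action of the generators `n_k` and of the longest element on the root elements
of the four classes; the identification of the fundamental root subgroups of the `SplitBN` instance.
-/
import Cfsg.Agent.Lib.Helper69.TwOut.E6Defs

set_option autoImplicit false
set_option linter.unusedSectionVars false
set_option maxRecDepth 1000000
set_option exponentiation.threshold 100000

namespace Cfsg.Agent.Lib.Helper69.TwOut

open Cfsg Cfsg.Lie Cfsg.Agent.Lib.Helper18 Cfsg.Agent.Lib.Helper17 Cfsg.Agent.Lib.Helper91.TwOut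

universe u

variable {K : Type u} [Field K]

section Gen

variable {D : ChevalleyDatum} (hD : D ∈ [chevG2, chevB2, chevD4, chevF4, chevE6, chevE7, chevE8])
  (C : ChevData.{u} D)

theorem nW_conj_single (ws : List ℕ) (hws : ∀ i ∈ ws, i < D.rank) (r q : ℕ) (hr : r < D.nroots)
    (e1 : wordRootF C.tabs ws r = q) (s1 : wordSignF C.tabs ws r = -1) (a : K) :
    nW hD C ws * xG hD r a * (nW hD C ws)⁻¹ = xG hD q (-a) := by
  rw [nW_conj_xG hD C ws hws r hr, e1, s1]
  simp only [Int.cast_neg, Int.cast_one, neg_mul, one_mul]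

theorem nW_conj_pair (ws : List ℕ) (hws : ∀ i ∈ ws, i < D.rank) (r r' q q' : ℕ) (hr : r < D.nroots)
    (hr' : r' < D.nroots) (e1 : wordRootF C.tabs ws r = q) (e2 : wordRootF C.tabs ws r' = q')
    (s1 : wordSignF C.tabs ws r = -1) (s2 : wordSignF C.tabs ws r' = -1) (a b : K) :
    nW hD C ws * (xG hD r a * xG hD r' b) * (nW hD C ws)⁻¹ = xG hD q (-a) * xG hD q' (-b) := by
  rw [← nW_conj_single hD C ws hws r q hr e1 s1 a, ← nW_conj_single hD C ws hws r' q' hr' e2 s2 b]
  group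

end Gen

variable (φ : K ≃+* K)

theorem cls_E6_0 : twCfg_E6.classes.getD 0 [] = [1] := rfl
theorem cls_E6_1 : twCfg_E6.classes.getD 1 [] = [3] := rfl
theorem cls_E6_2 : twCfg_E6.classes.getD 2 [] = [0, 5] := rfl
theorem cls_E6_3 : twCfg_E6.classes.getD 3 [] = [2, 4] := rfl

/-- `n_k x_k(t) n_k⁻¹ = y_k(-t)` for the class `[0,5]`. -/
theorem nk_conj_56 (t : K) :
    nW hE6 chevData_E6.{u} (twCfg_E6.classes.getD 2 []) * xcls hE6 twCfg_E6 φ 56 t *
      (nW hE6 chevData_E6.{u} (twCfg_E6.classes.getD 2 []))⁻¹ = xcls hE6 twCfg_E6 φ 15 (-t) := by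
  rw [cls_E6_2, xcls_56, xcls_15, map_neg]
  exact nW_conj_pair hE6 chevData_E6.{u} [0, 5] (by decide) 56 36 15 35 (by decide) (by decide) (by decide)
    (by decide) (by decide) (by decide) _ _

/-- `n_k x_k(t) n_k⁻¹ = y_k(-t)` for the class `[2,4]`. -/
theorem nk_conj_42 (t : K) :
    nW hE6 chevData_E6.{u} (twCfg_E6.classes.getD 3 []) * xcls hE6 twCfg_E6 φ 42 t *
      (nW hE6 chevData_E6.{u} (twCfg_E6.classes.getD 3 []))⁻¹ = xcls hE6 twCfg_E6 φ 29 (-t) := by
  rw [cls_E6_3, xcls_42, xcls_29, map_neg]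
  exact nW_conj_pair hE6 chevData_E6.{u} [2, 4] (by decide) 42 37 29 34 (by decide) (by decide) (by decide)
    (by decide) (by decide) (by decide) _ _

/-- `n_k x_k(t) n_k⁻¹ = y_k(-t)` for the class `[3]`. -/
theorem nk_conj_39 (t : K) :
    nW hE6 chevData_E6.{u} (twCfg_E6.classes.getD 1 []) * xcls hE6 twCfg_E6 φ 39 t *
      (nW hE6 chevData_E6.{u} (twCfg_E6.classes.getD 1 []))⁻¹ = xcls hE6 twCfg_E6 φ 32 (-t) := by
  rw [cls_E6_1, xcls_39, xcls_32]
  exact nW_conj_single hE6 chevData_E6.{u} [3] (by decide) 39 32 (by decide) (by decide) (by decide) _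

/-- `n_k x_k(t) n_k⁻¹ = y_k(-t)` for the class `[1]`. -/
theorem nk_conj_46 (t : K) :
    nW hE6 chevData_E6.{u} (twCfg_E6.classes.getD 0 []) * xcls hE6 twCfg_E6 φ 46 t *
      (nW hE6 chevData_E6.{u} (twCfg_E6.classes.getD 0 []))⁻¹ = xcls hE6 twCfg_E6 φ 25 (-t) := by
  rw [cls_E6_0, xcls_46, xcls_25]
  exact nW_conj_single hE6 chevData_E6.{u} [1] (by decide) 46 25 (by decide) (by decide) (by decide) _

theorem comm_56_36 (a b : K) : Commute (xG hE6 56 a) (xG hE6 36 b) :=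
  commE_commute hE6 chevData_E6.{u} 56 36 (by decide) a b

theorem comm_42_37 (a b : K) : Commute (xG hE6 42 a) (xG hE6 37 b) :=
  commE_commute hE6 chevData_E6.{u} 42 37 (by decide) a b

theorem comm_15_35 (a b : K) : Commute (xG hE6 15 a) (xG hE6 35 b) :=
  commE_commute hE6 chevData_E6.{u} 15 35 (by decide) a b

theorem comm_29_34 (a b : K) : Commute (xG hE6 29 a) (xG hE6 34 b) :=
  commE_commute hE6 chevData_E6.{u} 29 34 (by decide) a b

theorem wordOf_cw0E6_lt : ∀ i ∈ twCfg_E6.wordOf cw0E6, i < chevE6.rank := by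
  rw [wordOf_cw0E6]; decide

variable (hφ2 : ∀ a : K, φ (φ a) = a)

include hφ2 in
/-- The longest element on the negative root elements of the class `[0,5]`. -/
theorem nL_conj_15 (t : K) :
    nW hE6 chevData_E6.{u} (twCfg_E6.wordOf cw0E6) * xcls hE6 twCfg_E6 φ 15 t *
      (nW hE6 chevData_E6.{u} (twCfg_E6.wordOf cw0E6))⁻¹ = xcls hE6 twCfg_E6 φ 56 (-φ t) := by
  rw [xcls_15, xcls_56, map_neg, hφ2,
    nW_conj_pair hE6 chevData_E6.{u} _ wordOf_cw0E6_lt 15 35 36 56 (by decide) (by decide)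
      (by rw [wordOf_cw0E6]; decide) (by rw [wordOf_cw0E6]; decide) (by rw [wordOf_cw0E6]; decide)
      (by rw [wordOf_cw0E6]; decide)]
  exact ((comm_56_36 _ _).eq).symm

include hφ2 in
/-- The longest element on the negative root elements of the class `[2,4]`. -/
theorem nL_conj_29 (t : K) :
    nW hE6 chevData_E6.{u} (twCfg_E6.wordOf cw0E6) * xcls hE6 twCfg_E6 φ 29 t *
      (nW hE6 chevData_E6.{u} (twCfg_E6.wordOf cw0E6))⁻¹ = xcls hE6 twCfg_E6 φ 42 (-φ t) := by
  rw [xcls_29, xcls_42, map_neg, hφ2,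
    nW_conj_pair hE6 chevData_E6.{u} _ wordOf_cw0E6_lt 29 34 37 42 (by decide) (by decide)
      (by rw [wordOf_cw0E6]; decide) (by rw [wordOf_cw0E6]; decide) (by rw [wordOf_cw0E6]; decide)
      (by rw [wordOf_cw0E6]; decide)]
  exact ((comm_42_37 _ _).eq).symm

/-- The longest element on the negative root elements of the class `[3]`. -/
theorem nL_conj_32 (t : K) :
    nW hE6 chevData_E6.{u} (twCfg_E6.wordOf cw0E6) * xcls hE6 twCfg_E6 φ 32 t *
      (nW hE6 chevData_E6.{u} (twCfg_E6.wordOf cw0E6))⁻¹ = xcls hE6 twCfg_E6 φ 39 (-t) := by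
  rw [xcls_32, xcls_39]
  exact nW_conj_single hE6 chevData_E6.{u} _ wordOf_cw0E6_lt 32 39 (by decide)
    (by rw [wordOf_cw0E6]; decide) (by rw [wordOf_cw0E6]; decide) _

/-- The longest element on the negative root elements of the class `[1]`. -/
theorem nL_conj_25 (t : K) :
    nW hE6 chevData_E6.{u} (twCfg_E6.wordOf cw0E6) * xcls hE6 twCfg_E6 φ 25 t *
      (nW hE6 chevData_E6.{u} (twCfg_E6.wordOf cw0E6))⁻¹ = xcls hE6 twCfg_E6 φ 46 (-t) := by
  rw [xcls_25, xcls_46]
  exact nW_conj_single hE6 chevData_E6.{u} _ wordOf_cw0E6_lt 25 46 (by decide)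
    (by rw [wordOf_cw0E6]; decide) (by rw [wordOf_cw0E6]; decide) _

end Cfsg.Agent.Lib.Helper69.TwOut
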