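/-
helper69: project TWOUT, the twisted group `²E₆` as an instance of `SplitBN` (nodes `Fin 4`: `0 ↦` class `[0,5]`,
`1 ↦` class `[2,4]` (over `K`), `2 ↦` class `[3]`, `3 ↦` class `[1]` (over the fixed field)).
-/
import Cfsg.Agent.Lib.Helper69.TwOut.E6Conj
import Cfsg.Agent.Lib.Helper18.TwFrob

set_option autoImplicit false
set_option linter.unusedSectionVars false
set_option maxRecDepth 1000000

namespace Cfsg.Agent.Lib.Helper69.TwOut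

open Cfsg Cfsg.Lie Cfsg.Agent.Lib.Helper18 Cfsg.Agent.Lib.Helper17 Cfsg.Agent.Lib.Helper91.TwOut

universe u

variable {K : Type u} [Field K] [Fintype K] (φ : K ≃+* K)

/-- The class of a node. -/
def idxE6 (i : Fin 4) : ℕ := [2, 3, 1, 0].getD i.val 0

theorem idxE6_lt (i : Fin 4) : idxE6 i < twCfg_E6.classes.length := by
  fin_cases i <;> decide

theorem idxE6_surj : ∀ k < twCfg_E6.classes.length, ∃ i : Fin 4, idxE6 i = k := by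
  intro k hk
  have hk4 : k < 4 := hk
  interval_cases k
  · exact ⟨3, rfl⟩
  · exact ⟨2, rfl⟩
  · exact ⟨0, rfl⟩
  · exact ⟨1, rfl⟩

section Classes

variable (hφ2 : ∀ a : K, φ (φ a) = a)

include hφ2 in
theorem mem_XE6_0 (g : ↥(GE6 φ)) : g ∈ XTw hE6 chevData_E6.{u} twCfg_E6 φ twCfg_E6_ok' 2 ↔
    ∃ t : K, (g : GL chevE6.Idx K) = xcls hE6 twCfg_E6 φ 56 t := by
  rw [mem_XTw_iff hE6 chevData_E6.{u} twCfg_E6 φ twCfg_E6_ok' (hφm_E6 φ hφ2) twCoxList_E6 twCfg_E6_listOK'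
    twCfg_E6_cellOK' 2 (by decide) 56 (mem_genRoots_E6 56 (by simp)) mem_twCoxList_E6.2.2.1 negReps_E6_2]
  exact ⟨fun ⟨t, _, h⟩ => ⟨t, h⟩, fun ⟨t, h⟩ => ⟨t, fun h' => absurd h' (by decide), h⟩⟩

include hφ2 in
theorem mem_XE6_1 (g : ↥(GE6 φ)) : g ∈ XTw hE6 chevData_E6.{u} twCfg_E6 φ twCfg_E6_ok' 3 ↔
    ∃ t : K, (g : GL chevE6.Idx K) = xcls hE6 twCfg_E6 φ 42 t := by
  rw [mem_XTw_iff hE6 chevData_E6.{u} twCfg_E6 φ twCfg_E6_ok' (hφm_E6 φ hφ2) twCoxList_E6 twCfg_E6_listOK'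
    twCfg_E6_cellOK' 3 (by decide) 42 (mem_genRoots_E6 42 (by simp)) mem_twCoxList_E6.2.2.2 negReps_E6_3]
  exact ⟨fun ⟨t, _, h⟩ => ⟨t, h⟩, fun ⟨t, h⟩ => ⟨t, fun h' => absurd h' (by decide), h⟩⟩

include hφ2 in
theorem mem_XE6_2 (g : ↥(GE6 φ)) : g ∈ XTw hE6 chevData_E6.{u} twCfg_E6 φ twCfg_E6_ok' 1 ↔
    ∃ t : K, φ t = t ∧ (g : GL chevE6.Idx K) = xcls hE6 twCfg_E6 φ 39 t := by
  rw [mem_XTw_iff hE6 chevData_E6.{u} twCfg_E6 φ twCfg_E6_ok' (hφm_E6 φ hφ2) twCoxList_E6 twCfg_E6_listOK'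
    twCfg_E6_cellOK' 1 (by decide) 39 (mem_genRoots_E6 39 (by simp)) mem_twCoxList_E6.2.1 negReps_E6_1]
  exact ⟨fun ⟨t, ht, h⟩ => ⟨t, ht (by decide), h⟩, fun ⟨t, ht, h⟩ => ⟨t, fun _ => ht, h⟩⟩

include hφ2 in
theorem mem_XE6_3 (g : ↥(GE6 φ)) : g ∈ XTw hE6 chevData_E6.{u} twCfg_E6 φ twCfg_E6_ok' 0 ↔
    ∃ t : K, φ t = t ∧ (g : GL chevE6.Idx K) = xcls hE6 twCfg_E6 φ 46 t := by
  rw [mem_XTw_iff hE6 chevData_E6.{u} twCfg_E6 φ twCfg_E6_ok' (hφm_E6 φ hφ2) twCoxList_E6 twCfg_E6_listOK'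
    twCfg_E6_cellOK' 0 (by decide) 46 (mem_genRoots_E6 46 (by simp)) mem_twCoxList_E6.1 negReps_E6_0]
  exact ⟨fun ⟨t, ht, h⟩ => ⟨t, ht (by decide), h⟩, fun ⟨t, ht, h⟩ => ⟨t, fun _ => ht, h⟩⟩

include hφ2 in
theorem mem_YE6_0 (g : ↥(GE6 φ)) : g ∈ YTw hE6 chevData_E6.{u} twCfg_E6 φ twCfg_E6_ok' 2 ↔
    ∃ t : K, (g : GL chevE6.Idx K) = xcls hE6 twCfg_E6 φ 15 t := by
  rw [mem_YTw_iff hE6 chevData_E6.{u} twCfg_E6 φ twCfg_E6_ok' (hφm_E6 φ hφ2) twCoxList_E6 twCfg_E6_listOK'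
    twCfg_E6_cellOK' 2 (by decide) 56 15 (mem_genRoots_E6 56 (by simp)) mem_twCoxList_E6.2.2.1 negReps_E6_2
    (by decide) (nk_conj_56 φ)]
  exact ⟨fun ⟨t, _, h⟩ => ⟨t, h⟩, fun ⟨t, h⟩ => ⟨t, fun h' => absurd h' (by decide), h⟩⟩

include hφ2 in
theorem mem_YE6_1 (g : ↥(GE6 φ)) : g ∈ YTw hE6 chevData_E6.{u} twCfg_E6 φ twCfg_E6_ok' 3 ↔
    ∃ t : K, (g : GL chevE6.Idx K) = xcls hE6 twCfg_E6 φ 29 t := by
  rw [mem_YTw_iff hE6 chevData_E6.{u} twCfg_E6 φ twCfg_E6_ok' (hφm_E6 φ hφ2) twCoxList_E6 twCfg_E6_listOK'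
    twCfg_E6_cellOK' 3 (by decide) 42 29 (mem_genRoots_E6 42 (by simp)) mem_twCoxList_E6.2.2.2 negReps_E6_3
    (by decide) (nk_conj_42 φ)]
  exact ⟨fun ⟨t, _, h⟩ => ⟨t, h⟩, fun ⟨t, h⟩ => ⟨t, fun h' => absurd h' (by decide), h⟩⟩

include hφ2 in
theorem mem_YE6_2 (g : ↥(GE6 φ)) : g ∈ YTw hE6 chevData_E6.{u} twCfg_E6 φ twCfg_E6_ok' 1 ↔
    ∃ t : K, φ t = t ∧ (g : GL chevE6.Idx K) = xcls hE6 twCfg_E6 φ 32 t := by
  rw [mem_YTw_iff hE6 chevData_E6.{u} twCfg_E6 φ twCfg_E6_ok' (hφm_E6 φ hφ2) twCoxList_E6 twCfg_E6_listOK'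
    twCfg_E6_cellOK' 1 (by decide) 39 32 (mem_genRoots_E6 39 (by simp)) mem_twCoxList_E6.2.1 negReps_E6_1
    (by decide) (nk_conj_39 φ)]
  exact ⟨fun ⟨t, ht, h⟩ => ⟨t, ht (by decide), h⟩, fun ⟨t, ht, h⟩ => ⟨t, fun _ => ht, h⟩⟩

include hφ2 in
theorem mem_YE6_3 (g : ↥(GE6 φ)) : g ∈ YTw hE6 chevData_E6.{u} twCfg_E6 φ twCfg_E6_ok' 0 ↔
    ∃ t : K, φ t = t ∧ (g : GL chevE6.Idx K) = xcls hE6 twCfg_E6 φ 25 t := by
  rw [mem_YTw_iff hE6 chevData_E6.{u} twCfg_E6 φ twCfg_E6_ok' (hφm_E6 φ hφ2) twCoxList_E6 twCfg_E6_listOK'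
    twCfg_E6_cellOK' 0 (by decide) 46 25 (mem_genRoots_E6 46 (by simp)) mem_twCoxList_E6.1 negReps_E6_0
    (by decide) (nk_conj_46 φ)]
  exact ⟨fun ⟨t, ht, h⟩ => ⟨t, ht (by decide), h⟩, fun ⟨t, ht, h⟩ => ⟨t, fun _ => ht, h⟩⟩

include hφ2 in
/-- `X_i = n₀ Y_i n₀⁻¹`. -/
theorem mem_XE6_iff_long (i : Fin 4) (g : ↥(GE6 φ)) :
    g ∈ XTw hE6 chevData_E6.{u} twCfg_E6 φ twCfg_E6_ok' (idxE6 i) ↔
      (nTw hE6 chevData_E6.{u} twCfg_E6 φ twCfg_E6_ok' cw0E6)⁻¹ * g *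
        nTw hE6 chevData_E6.{u} twCfg_E6 φ twCfg_E6_ok' cw0E6 ∈
      YTw hE6 chevData_E6.{u} twCfg_E6 φ twCfg_E6_ok' (idxE6 ((1 : Equiv.Perm (Fin 4)) i)) := by
  have hφm := hφm_E6 φ hφ2
  fin_cases i
  · exact mem_XTw_iff_long hE6 chevData_E6.{u} twCfg_E6 φ twCfg_E6_ok' hφm twCoxList_E6 twCfg_E6_listOK'
      twCfg_E6_cellOK' 2 (by decide) 56 15 (mem_genRoots_E6 56 (by simp)) mem_twCoxList_E6.2.2.1 negReps_E6_2
      (by decide) (nk_conj_56 φ) cw0E6 cw0E6_lt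
      (fun t _ => ⟨-φ t, fun h' => absurd h' (by decide), nL_conj_15 φ hφ2 t⟩)
      (fun t' _ => ⟨-φ t', fun h' => absurd h' (by decide), by
        rw [nL_conj_15 φ hφ2, map_neg, hφ2, neg_neg]⟩) g
  · exact mem_XTw_iff_long hE6 chevData_E6.{u} twCfg_E6 φ twCfg_E6_ok' hφm twCoxList_E6 twCfg_E6_listOK'
      twCfg_E6_cellOK' 3 (by decide) 42 29 (mem_genRoots_E6 42 (by simp)) mem_twCoxList_E6.2.2.2 negReps_E6_3
      (by decide) (nk_conj_42 φ) cw0E6 cw0E6_lt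
      (fun t _ => ⟨-φ t, fun h' => absurd h' (by decide), nL_conj_29 φ hφ2 t⟩)
      (fun t' _ => ⟨-φ t', fun h' => absurd h' (by decide), by
        rw [nL_conj_29 φ hφ2, map_neg, hφ2, neg_neg]⟩) g
  · exact mem_XTw_iff_long hE6 chevData_E6.{u} twCfg_E6 φ twCfg_E6_ok' hφm twCoxList_E6 twCfg_E6_listOK'
      twCfg_E6_cellOK' 1 (by decide) 39 32 (mem_genRoots_E6 39 (by simp)) mem_twCoxList_E6.2.1 negReps_E6_1
      (by decide) (nk_conj_39 φ) cw0E6 cw0E6_lt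
      (fun t ht => ⟨-t, fun _ => by rw [map_neg, ht (by decide)], nL_conj_32 φ t⟩)
      (fun t' ht' => ⟨-t', fun _ => by rw [map_neg, ht' (by decide)], by
        rw [nL_conj_32 φ, neg_neg]⟩) g
  · exact mem_XTw_iff_long hE6 chevData_E6.{u} twCfg_E6 φ twCfg_E6_ok' hφm twCoxList_E6 twCfg_E6_listOK'
      twCfg_E6_cellOK' 0 (by decide) 46 25 (mem_genRoots_E6 46 (by simp)) mem_twCoxList_E6.1 negReps_E6_0
      (by decide) (nk_conj_46 φ) cw0E6 cw0E6_lt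
      (fun t ht => ⟨-t, fun _ => by rw [map_neg, ht (by decide)], nL_conj_25 φ t⟩)
      (fun t' ht' => ⟨-t', fun _ => by rw [map_neg, ht' (by decide)], by
        rw [nL_conj_25 φ, neg_neg]⟩) g

end Classes

section Split

variable (p f : ℕ) (P : Cfsg.BNPair ↥(GE6 φ))
  (hPB : P.B = (chevE6.borelSubgroup K ⊓ GE6 φ).subgroupOf (GE6 φ))
  (hPN : P.N = (chevE6.monomialSubgroup K ⊓ GE6 φ).subgroupOf (GE6 φ))
  (hPS : P.S = {s : ↥(GE6 φ) | ∃ k < twCfg_E6.classes.length,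
    (s : GL chevE6.Idx K) = nW hE6 chevData_E6.{u} (twCfg_E6.classes.getD k [])})
  (hsyl : IsPGroup p ↥(UTw hE6 chevData_E6.{u} twCfg_E6 φ) ∧ ¬ p ∣ (UTw hE6 chevData_E6.{u} twCfg_E6 φ).index)
  (hφ : ∀ t : K, φ t = t ^ (p ^ f)) (hK : Fintype.card K = (p ^ f) ^ 2) (hf : 1 ≤ f) (hp : 2 ≤ p)

include hφ hK in
theorem phi_sq (a : K) : φ (φ a) = a := by
  rw [hφ, hφ, ← pow_mul]
  have := pow_card_pow_eq hK a
  have e : p ^ f * p ^ f = (p ^ f) ^ 2 := by ring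
  rw [e]
  exact this

/-- The exponents of the orders of the fundamental root subgroups. -/
def eE6v (f : ℕ) (i : Fin 4) : ℕ := [2 * f, 2 * f, f, f].getD i.val 0

include hφ hK hf hp in
theorem card_XE6 (i : Fin 4) :
    Nat.card ↥(XTw hE6 chevData_E6.{u} twCfg_E6 φ twCfg_E6_ok' (idxE6 i)) = p ^ eE6v f i := by
  have hφ2 := phi_sq φ p f hφ hK
  have hφm := hφm_E6 φ hφ2
  have hq : 2 ≤ p ^ f := by
    calc 2 ≤ p := hp
      _ = p ^ 1 := (pow_one p).symm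
      _ ≤ p ^ f := Nat.pow_le_pow_right (by omega) hf
  have hfree : ∀ s : ℕ, twCfg_E6.g.rho s ≠ s → Nat.card {t : K // twCfg_E6.g.rho s = s → φ t = t} = p ^ (2 * f) := by
    intro s hs
    have e : {t : K // twCfg_E6.g.rho s = s → φ t = t} ≃ K :=
      { toFun := fun t => t.1
        invFun := fun t => ⟨t, fun h => absurd h hs⟩
        left_inv := fun t => rfl
        right_inv := fun t => rfl }
    rw [Nat.card_congr e, Nat.card_eq_fintype_card, hK, ← pow_mul, mul_comm]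
  have hfixd : ∀ s : ℕ, twCfg_E6.g.rho s = s → Nat.card {t : K // twCfg_E6.g.rho s = s → φ t = t} = p ^ f := by
    intro s hs
    have e : {t : K // twCfg_E6.g.rho s = s → φ t = t} ≃ {a : K // a ^ (p ^ f) = a} :=
      { toFun := fun t => ⟨t.1, by rw [← hφ]; exact t.2 hs⟩
        invFun := fun t => ⟨t.1, fun _ => by rw [hφ]; exact t.2⟩
        left_inv := fun t => rfl
        right_inv := fun t => rfl }
    rw [Nat.card_congr e, card_fixed_pow hq hK]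
  fin_cases i
  · show Nat.card ↥(XTw hE6 chevData_E6.{u} twCfg_E6 φ twCfg_E6_ok' 2) = p ^ (2 * f)
    rw [card_XTw hE6 chevData_E6.{u} twCfg_E6 φ twCfg_E6_ok' hφm twCoxList_E6 twCfg_E6_listOK'
      twCfg_E6_cellOK' 2 (by decide) 56 (mem_genRoots_E6 56 (by simp)) mem_twCoxList_E6.2.2.1 negReps_E6_2]
    exact hfree 56 (by decide)
  · show Nat.card ↥(XTw hE6 chevData_E6.{u} twCfg_E6 φ twCfg_E6_ok' 3) = p ^ (2 * f)
    rw [card_XTw hE6 chevData_E6.{u} twCfg_E6 φ twCfg_E6_ok' hφm twCoxList_E6 twCfg_E6_listOK'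
      twCfg_E6_cellOK' 3 (by decide) 42 (mem_genRoots_E6 42 (by simp)) mem_twCoxList_E6.2.2.2 negReps_E6_3]
    exact hfree 42 (by decide)
  · show Nat.card ↥(XTw hE6 chevData_E6.{u} twCfg_E6 φ twCfg_E6_ok' 1) = p ^ f
    rw [card_XTw hE6 chevData_E6.{u} twCfg_E6 φ twCfg_E6_ok' hφm twCoxList_E6 twCfg_E6_listOK'
      twCfg_E6_cellOK' 1 (by decide) 39 (mem_genRoots_E6 39 (by simp)) mem_twCoxList_E6.2.1 negReps_E6_1]
    exact hfixd 39 (by decide)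
  · show Nat.card ↥(XTw hE6 chevData_E6.{u} twCfg_E6 φ twCfg_E6_ok' 0) = p ^ f
    rw [card_XTw hE6 chevData_E6.{u} twCfg_E6 φ twCfg_E6_ok' hφm twCoxList_E6 twCfg_E6_listOK'
      twCfg_E6_cellOK' 0 (by decide) 46 (mem_genRoots_E6 46 (by simp)) mem_twCoxList_E6.1 negReps_E6_0]
    exact hfixd 46 (by decide)

theorem eE6v_pos (hf : 1 ≤ f) (i : Fin 4) : 0 < eE6v f i := by
  fin_cases i <;> simp [eE6v] <;> omega

include hPB hPN hPS hsyl hφ hK hf hp in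
/-- The twisted group `²E₆` as a split (B,N)-pair with root subgroups. -/
noncomputable def splitE6 : SplitBN ↥(GE6 φ) (Fin 4) p :=
  splitTw hE6 chevData_E6.{u} twCfg_E6 φ twCfg_E6_ok' p P hPB hPN hPS idxE6 idxE6_lt idxE6_surj hsyl cw0E6
    twCfg_E6_longOK' cw0E6_lt (eE6v f) (eE6v_pos f hf) 1
    (mem_XE6_iff_long φ (phi_sq φ p f hφ hK)) (card_XE6 φ p f hφ hK hf hp)

end Split

end Cfsg.Agent.Lib.Helper69.TwOut
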