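/-
helper69: project TWOUT (helper91), modules [A-PAR], [A-PERM], [A-PART1]: an automorphism of a group with a split
(B,N)-pair fixing `U` permutes the minimal parabolic subgroups; one fixing `U` and `V` permutes the fundamental root
subgroups `Y i` and `X i`; every automorphism is inner times one fixing `U` and `V`.
-/
import Cfsg.Agent.Lib.Helper91.TwOut.Defs
import Cfsg.Agent.Lib.Helper69.Aut.ParAbs
import Cfsg.Agent.Lib.Helper49.TwOutNorm
import Cfsg.Agent.Lib.Helper44.TwOutVPar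
import Cfsg.Agent.Lib.Helper44.TwOutOpp
import Cfsg.Agent.Lib.Helper1.TwOutSyl

set_option autoImplicit false

namespace Cfsg.Agent.Lib.Helper69.TwOut

open Cfsg Cfsg.Agent.Lib.Helper91.TwOut

variable {Γ : Type*} [Group Γ] {ι : Type*} {p : ℕ}

/-- The elements of `B` normalise `U`. -/
theorem map_conj_U_of_mem_B (S : SplitBN Γ ι p) (b : Γ) (hb : b ∈ S.P.B) :
    S.U.map (MulAut.conj b).toMonoidHom = S.U := by
  ext x
  rw [Subgroup.mem_map]
  constructor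
  · rintro ⟨u, hu, rfl⟩
    exact S.U_norm b hb u hu
  · intro hx
    refine ⟨b⁻¹ * x * b, ?_, by simp [MulAut.conj_apply, mul_assoc]⟩
    have := S.U_norm b⁻¹ (inv_mem hb) x hx
    simpa using this

/-- `B` is the normaliser of `U`. -/
theorem mem_B_iff (S : SplitBN Γ ι p) (g : Γ) :
    g ∈ S.P.B ↔ S.U.map (MulAut.conj g).toMonoidHom = S.U :=
  ⟨map_conj_U_of_mem_B S g, Cfsg.Agent.Lib.Helper49.TwOut.mem_B_of_map_conj_eq S g⟩

/-- The image of a conjugate. -/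
theorem map_map_conj (θ : Γ ≃* Γ) (W : Subgroup Γ) (g : Γ) :
    (W.map (MulAut.conj g).toMonoidHom).map θ.toMonoidHom =
      (W.map θ.toMonoidHom).map (MulAut.conj (θ g)).toMonoidHom := by
  rw [Subgroup.map_map, Subgroup.map_map]
  congr 1
  ext x
  simp [MulAut.conj_apply]

theorem map_symm_of_map_eq (θ : Γ ≃* Γ) (W : Subgroup Γ) (h : W.map θ.toMonoidHom = W) :
    W.map θ.symm.toMonoidHom = W := by
  conv_lhs => rw [← h]
  rw [Subgroup.map_map]
  have : θ.symm.toMonoidHom.comp θ.toMonoidHom = MonoidHom.id Γ := by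
    ext x
    simp
  rw [this, Subgroup.map_id]

/-- An automorphism fixing `U` fixes `B`. -/
theorem map_B_eq (S : SplitBN Γ ι p) (θ : Γ ≃* Γ) (hU : S.U.map θ.toMonoidHom = S.U) :
    S.P.B.map θ.toMonoidHom = S.P.B := by
  have key : ∀ θ' : Γ ≃* Γ, S.U.map θ'.toMonoidHom = S.U → ∀ b ∈ S.P.B, θ' b ∈ S.P.B := by
    intro θ' hU' b hb
    rw [mem_B_iff]
    have h1 := map_map_conj θ' S.U b
    rw [map_conj_U_of_mem_B S b hb, hU'] at h1
    exact h1.symm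
  apply le_antisymm
  · rintro x ⟨b, hb, rfl⟩
    exact key θ hU b hb
  · intro x hx
    refine ⟨θ.symm x, key θ.symm (map_symm_of_map_eq θ S.U hU) x hx, ?_⟩
    simp

/-- [A-PAR] -/
theorem map_parabolic (S : SplitBN Γ ι p) (θ : Γ ≃* Γ) (hU : S.U.map θ.toMonoidHom = S.U) (i : ι) :
    ∃ j, (S.P.parabolic {S.s i}).map θ.toMonoidHom = S.P.parabolic {S.s j} := by
  have hs : S.s i ∈ S.P.S := by
    rw [S.S_eq]
    exact ⟨i, rfl⟩
  obtain ⟨s', hs', h⟩ := Cfsg.Agent.Lib.Helper69.Aut.bn_map_parabolic S.P θ (map_B_eq S θ hU) (S.s i) hs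
  rw [S.S_eq] at hs'
  obtain ⟨j, rfl⟩ := hs'
  exact ⟨j, h⟩

theorem V_eq_map (S : SplitBN Γ ι p) : S.V = S.U.map (MulAut.conj S.n₀).toMonoidHom := by
  ext g
  rw [S.V_eq, Subgroup.mem_map]
  constructor
  · intro h
    exact ⟨_, h, by simp [MulAut.conj_apply, mul_assoc]⟩
  · rintro ⟨u, hu, rfl⟩
    simpa [MulAut.conj_apply, mul_assoc] using hu

theorem U_eq_map (S : SplitBN Γ ι p) : S.U = S.V.map (MulAut.conj S.n₀).toMonoidHom := by
  ext g
  rw [S.U_eq, Subgroup.mem_map]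
  constructor
  · intro h
    exact ⟨_, h, by simp [MulAut.conj_apply, mul_assoc]⟩
  · rintro ⟨u, hu, rfl⟩
    simpa [MulAut.conj_apply, mul_assoc] using hu

theorem X_eq_map (S : SplitBN Γ ι p) (i : ι) : S.X i = (S.Y (S.op i)).map (MulAut.conj S.n₀).toMonoidHom := by
  ext g
  rw [S.X_eq, Subgroup.mem_map]
  constructor
  · intro h
    exact ⟨_, h, by simp [MulAut.conj_apply, mul_assoc]⟩
  · rintro ⟨u, hu, rfl⟩
    simpa [MulAut.conj_apply, mul_assoc] using hu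

theorem map_conj_inv_map_conj (W : Subgroup Γ) (a : Γ) :
    (W.map (MulAut.conj a).toMonoidHom).map (MulAut.conj a⁻¹).toMonoidHom = W := by
  rw [Subgroup.map_map]
  have : (MulAut.conj a⁻¹).toMonoidHom.comp (MulAut.conj a).toMonoidHom = MonoidHom.id Γ := by
    ext x
    simp [MulAut.conj_apply, mul_assoc]
  rw [this, Subgroup.map_id]

theorem map_conj_map_conj_inv (W : Subgroup Γ) (a : Γ) :
    (W.map (MulAut.conj a⁻¹).toMonoidHom).map (MulAut.conj a).toMonoidHom = W := by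
  have := map_conj_inv_map_conj W a⁻¹
  rwa [inv_inv] at this

/-- The negative fundamental root subgroups are permuted. -/
theorem map_Y [Finite Γ] [Fact p.Prime] (S : SplitBN Γ ι p) (θ : Γ ≃* Γ)
    (hU : S.U.map θ.toMonoidHom = S.U) (hV : S.V.map θ.toMonoidHom = S.V) (i : ι) :
    ∃ j, (S.Y i).map θ.toMonoidHom = S.Y j := by
  obtain ⟨j, hj⟩ := map_parabolic S θ hU i
  refine ⟨j, ?_⟩
  rw [← Cfsg.Agent.Lib.Helper44.TwOut.V_inf_parabolic S i, ← Cfsg.Agent.Lib.Helper44.TwOut.V_inf_parabolic S j, Subgroup.map_inf _ _ _ θ.injective, hV, hj]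

/-- [A-PERM] -/
theorem map_root_subgroups [Finite Γ] [Fact p.Prime] (S : SplitBN Γ ι p) (θ : Γ ≃* Γ)
    (hU : S.U.map θ.toMonoidHom = S.U) (hV : S.V.map θ.toMonoidHom = S.V) :
    (∀ i, ∃ j, (S.Y i).map θ.toMonoidHom = S.Y j) ∧ (∀ i, ∃ j, (S.X i).map θ.toMonoidHom = S.X j) := by
  refine ⟨map_Y S θ hU hV, ?_⟩
  intro i
  -- the automorphism `x ↦ n₀⁻¹ θ(n₀ x n₀⁻¹) n₀`
  set θ'' : Γ ≃* Γ := ((MulAut.conj S.n₀ : Γ ≃* Γ).trans θ).trans (MulAut.conj S.n₀⁻¹ : Γ ≃* Γ) with hθ''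
  have hmap : ∀ W : Subgroup Γ, W.map θ''.toMonoidHom =
      ((W.map (MulAut.conj S.n₀).toMonoidHom).map θ.toMonoidHom).map (MulAut.conj S.n₀⁻¹).toMonoidHom := by
    intro W
    rw [Subgroup.map_map, Subgroup.map_map]
    rfl
  have hU'' : S.U.map θ''.toMonoidHom = S.U := by
    rw [hmap, ← V_eq_map S, hV, V_eq_map S, map_conj_inv_map_conj]
  have hV'' : S.V.map θ''.toMonoidHom = S.V := by
    rw [hmap, ← U_eq_map S, hU, U_eq_map S, map_conj_inv_map_conj]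
  obtain ⟨j, hj⟩ := map_Y S θ'' hU'' hV'' (S.op i)
  refine ⟨S.op.symm j, ?_⟩
  rw [hmap, ← X_eq_map S i] at hj
  have h2 : ((((S.X i).map θ.toMonoidHom).map (MulAut.conj S.n₀⁻¹).toMonoidHom).map
      (MulAut.conj S.n₀).toMonoidHom) = (S.Y j).map (MulAut.conj S.n₀).toMonoidHom := by rw [hj]
  rw [map_conj_map_conj_inv] at h2
  rw [h2, X_eq_map S (S.op.symm j), Equiv.apply_symm_apply]

/-- [A-PART1] -/
theorem part_one [Finite Γ] [Fact p.Prime] (S : SplitBN Γ ι p) (θ : MulAut Γ) :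
    ∃ a ∈ Inn Γ, ∃ k ∈ Nrm S.U S.V, θ = a * k := by
  obtain ⟨g, hg⟩ := Cfsg.Agent.Lib.Helper1.TwOut.exists_conj_U S θ
  -- `θ₁ = conj g⁻¹ * θ` fixes `U`
  set θ₁ : MulAut Γ := MulAut.conj g⁻¹ * θ with hθ₁
  have hmul : ∀ (a b : MulAut Γ) (W : Subgroup Γ),
      W.map (a * b : MulAut Γ).toMonoidHom = (W.map b.toMonoidHom).map a.toMonoidHom := by
    intro a b W
    rw [Subgroup.map_map]
    rfl
  have hU₁ : S.U.map θ₁.toMonoidHom = S.U := by
    rw [hθ₁, hmul, hg]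
    exact map_conj_inv_map_conj S.U g
  obtain ⟨u, hu, huV⟩ := Cfsg.Agent.Lib.Helper44.TwOut.exists_conj_V S θ₁ hU₁
  set k : MulAut Γ := MulAut.conj u⁻¹ * θ₁ with hk
  have hUk : S.U.map k.toMonoidHom = S.U := by
    rw [hk, hmul, hU₁]
    exact map_conj_U_of_mem_B S u⁻¹ (S.U_le (inv_mem hu))
  have hVk : S.V.map k.toMonoidHom = S.V := by
    rw [hk, hmul, huV]
    exact map_conj_inv_map_conj S.V u
  refine ⟨MulAut.conj (g * u), ⟨g * u, rfl⟩, k, ⟨hUk, hVk⟩, ?_⟩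
  rw [hk, hθ₁, map_mul, map_inv, map_inv]
  group

end Cfsg.Agent.Lib.Helper69.TwOut
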