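/-
helper69: project TWOUT (helper91), module [A-COUNT]: the order of the outer automorphism group of a group with a
split (B,N)-pair of rank 2 whose two fundamental root subgroups are parametrised by a field `K` and a subfield `K₀`
and have different orders: `|Out Γ| = |Aut K|`.
-/
import Cfsg.Agent.Lib.Helper91.TwOut.Defs
import Cfsg.Agent.Lib.Helper69.TwOut.TwOutPar
import Cfsg.Agent.Lib.Helper85.TwOutPsi
import Cfsg.Agent.Lib.Helper93.OutQuot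
import Cfsg.Agent.Lib.Helper23.TwOutRank1
import Cfsg.Agent.Lib.Helper1.TwOutCross
import Cfsg.Agent.Lib.Helper49.TwOutInn

set_option autoImplicit false

namespace Cfsg.Agent.Lib.Helper69.TwOut

open Cfsg Cfsg.Agent.Lib.Helper91.TwOut

variable {Γ : Type*} [Group Γ] {ι : Type*} {p : ℕ}

theorem finite_mulAut [Finite Γ] : Finite (MulAut Γ) :=
  Finite.of_injective (fun a : MulAut Γ => (a : Γ → Γ)) (fun a b h => MulEquiv.ext (congrFun h))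

theorem X_le_U (S : SplitBN Γ ι p) (i : ι) : S.X i ≤ S.U := by
  rw [← S.Um_s i]
  exact S.Um_le _

theorem Y_le_V (S : SplitBN Γ ι p) (i : ι) : S.Y i ≤ S.V := by
  intro g hg
  have h1 := (S.Y_eq i g).mp hg
  rw [← S.Um_s i] at h1
  have h2 := S.Um_conj (S.s i) _ h1
  have e : S.s i * ((S.s i)⁻¹ * g * S.s i) * (S.s i)⁻¹ = g := by group
  rwa [e] at h2

theorem U_inf_V (S : SplitBN Γ ι p) : S.U ⊓ S.V = ⊥ := by
  apply le_antisymm _ bot_le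
  rw [← S.V_inf_B]
  intro g hg
  exact ⟨hg.2, S.U_le hg.1⟩

theorem Y_eq_map (S : SplitBN Γ ι p) (i : ι) : S.Y i = (S.X i).map (MulAut.conj (S.s i)).toMonoidHom := by
  ext g
  rw [S.Y_eq, Subgroup.mem_map]
  constructor
  · intro h
    exact ⟨_, h, by simp [MulAut.conj_apply, mul_assoc]⟩
  · rintro ⟨u, hu, rfl⟩
    simpa [MulAut.conj_apply, mul_assoc] using hu

theorem card_Y (S : SplitBN Γ ι p) (i : ι) : Nat.card ↥(S.Y i) = p ^ S.e i := by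
  rw [Y_eq_map, Subgroup.card_map_of_injective (MulAut.conj (S.s i)).injective, S.card_X]

/-- With root subgroups of different orders, a normalised automorphism fixes each of them. -/
theorem map_root_eq [Finite Γ] [Fact p.Prime] (S : SplitBN Γ (Fin 2) p) (he : S.e 0 ≠ S.e 1) (θ : Γ ≃* Γ)
    (hU : S.U.map θ.toMonoidHom = S.U) (hV : S.V.map θ.toMonoidHom = S.V) (i : Fin 2) :
    (S.X i).map θ.toMonoidHom = S.X i ∧ (S.Y i).map θ.toMonoidHom = S.Y i := by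
  have hp : 1 < p := (Fact.out : p.Prime).one_lt
  have hij : ∀ i j : Fin 2, S.e j = S.e i → j = i := by
    intro i j h
    fin_cases i <;> fin_cases j <;> first | rfl | (exfalso; first | exact he h | exact he h.symm)
  obtain ⟨hY, hX⟩ := map_root_subgroups S θ hU hV
  constructor
  · obtain ⟨j, hj⟩ := hX i
    have h1 : Nat.card ↥((S.X i).map θ.toMonoidHom) = Nat.card ↥(S.X i) :=
      Subgroup.card_map_of_injective θ.injective
    rw [hj, S.card_X, S.card_X] at h1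
    rw [hj, hij i j (Nat.pow_right_injective hp h1)]
  · obtain ⟨j, hj⟩ := hY i
    have h1 : Nat.card ↥((S.Y i).map θ.toMonoidHom) = Nat.card ↥(S.Y i) :=
      Subgroup.card_map_of_injective θ.injective
    rw [hj, card_Y, card_Y] at h1
    rw [hj, hij i j (Nat.pow_right_injective hp h1)]

section Count

variable {K K₀ : Type*} [Field K] [Fintype K] [Field K₀] [Fintype K₀]

/-- The normal form of a normalised automorphism. -/
theorem exists_nf [Finite Γ] [Fact p.Prime] (S : SplitBN Γ (Fin 2) p) (he : S.e 0 ≠ S.e 1) (emb : K₀ →+* K)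
    (Φa : Matrix.SpecialLinearGroup (Fin 2) K →* Γ) (Φb : Matrix.SpecialLinearGroup (Fin 2) K₀ →* Γ)
    (hXa : ∀ g, g ∈ S.X 0 ↔ ∃ t, g = Φa (sx t)) (hYa : ∀ g, g ∈ S.Y 0 ↔ ∃ t, g = Φa (sy t))
    (hXb : ∀ g, g ∈ S.X 1 ↔ ∃ t, g = Φb (sx t)) (hYb : ∀ g, g ∈ S.Y 1 ↔ ∃ t, g = Φb (sy t))
    (hinja : Function.Injective fun t : K => Φa (sx t)) (hinjya : Function.Injective fun t : K => Φa (sy t))
    (hinjb : Function.Injective fun t : K₀ => Φb (sx t)) (hinjyb : Function.Injective fun t : K₀ => Φb (sy t))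
    (hcross : ∀ (u : K₀ˣ) (s : K), Φb (hd u) * Φa (sx s) * (Φb (hd u))⁻¹ = Φa (sx ((emb (u : K₀))⁻¹ * s)))
    (θ : Γ ≃* Γ) (hU : S.U.map θ.toMonoidHom = S.U) (hV : S.V.map θ.toMonoidHom = S.V) :
    ∃ (ca : Kˣ) (τ : K ≃+* K) (cb : K₀ˣ) (τ₀ : K₀ ≃+* K₀), (∀ u, emb (τ₀ u) = τ (emb u)) ∧
      (∀ t, θ (Φa (sx t)) = Φa (sx ((ca : K) * τ t))) ∧
      (∀ t, θ (Φa (sy t)) = Φa (sy (((ca⁻¹ : Kˣ) : K) * τ t))) ∧
      (∀ u, θ (Φb (sx u)) = Φb (sx ((cb : K₀) * τ₀ u))) ∧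
      (∀ u, θ (Φb (sy u)) = Φb (sy (((cb⁻¹ : K₀ˣ) : K₀) * τ₀ u))) := by
  have hUV := U_inf_V S
  -- `x(t) ≠ y(u)` for `t ≠ 0`
  have hxya : ∀ t u : K, t ≠ 0 → Φa (sx t) ≠ Φa (sy u) := by
    intro t u ht h
    have h1 : Φa (sx t) ∈ S.U ⊓ S.V :=
      ⟨X_le_U S 0 ((hXa _).mpr ⟨t, rfl⟩), by rw [h]; exact Y_le_V S 0 ((hYa _).mpr ⟨u, rfl⟩)⟩
    rw [hUV, Subgroup.mem_bot] at h1
    have h0 : Φa (sx (0 : K)) = 1 := by
      have : Φa (sx (0 : K)) ∈ S.U ⊓ S.V := by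
        have e : (sx (0 : K)) = 1 := by
          ext i j
          fin_cases i <;> fin_cases j <;> simp [coe_sx]
        rw [e, map_one]
        exact one_mem _
      rwa [hUV, Subgroup.mem_bot] at this
    exact ht (hinja (h1.trans h0.symm))
  have hxyb : ∀ t u : K₀, t ≠ 0 → Φb (sx t) ≠ Φb (sy u) := by
    intro t u ht h
    have h1 : Φb (sx t) ∈ S.U ⊓ S.V :=
      ⟨X_le_U S 1 ((hXb _).mpr ⟨t, rfl⟩), by rw [h]; exact Y_le_V S 1 ((hYb _).mpr ⟨u, rfl⟩)⟩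
    rw [hUV, Subgroup.mem_bot] at h1
    have h0 : Φb (sx (0 : K₀)) = 1 := by
      have e : (sx (0 : K₀)) = 1 := by
        ext i j
        fin_cases i <;> fin_cases j <;> simp [coe_sx]
      rw [e, map_one]
    exact ht (hinjb (h1.trans h0.symm))
  obtain ⟨hX0, hY0⟩ := map_root_eq S he θ hU hV 0
  obtain ⟨hX1, hY1⟩ := map_root_eq S he θ hU hV 1
  have hXa' : ∀ t, ∃ t', θ (Φa (sx t)) = Φa (sx t') := by
    intro t
    have : θ (Φa (sx t)) ∈ (S.X 0).map θ.toMonoidHom := ⟨_, (hXa _).mpr ⟨t, rfl⟩, rfl⟩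
    rw [hX0] at this
    exact (hXa _).mp this
  have hYa' : ∀ t, ∃ t', θ (Φa (sy t)) = Φa (sy t') := by
    intro t
    have : θ (Φa (sy t)) ∈ (S.Y 0).map θ.toMonoidHom := ⟨_, (hYa _).mpr ⟨t, rfl⟩, rfl⟩
    rw [hY0] at this
    exact (hYa _).mp this
  have hXb' : ∀ t, ∃ t', θ (Φb (sx t)) = Φb (sx t') := by
    intro t
    have : θ (Φb (sx t)) ∈ (S.X 1).map θ.toMonoidHom := ⟨_, (hXb _).mpr ⟨t, rfl⟩, rfl⟩
    rw [hX1] at this
    exact (hXb _).mp this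
  have hYb' : ∀ t, ∃ t', θ (Φb (sy t)) = Φb (sy t') := by
    intro t
    have : θ (Φb (sy t)) ∈ (S.Y 1).map θ.toMonoidHom := ⟨_, (hYb _).mpr ⟨t, rfl⟩, rfl⟩
    rw [hY1] at this
    exact (hYb _).mp this
  obtain ⟨ca, τ, a1, a2, -⟩ := Cfsg.Agent.Lib.Helper23.TwOut.pair_nf Φa hinja hinjya hxya θ hXa' hYa'
  obtain ⟨cb, τ₀, b1, b2, b3⟩ := Cfsg.Agent.Lib.Helper23.TwOut.pair_nf Φb hinjb hinjyb hxyb θ hXb' hYb'
  exact ⟨ca, τ, cb, τ₀, Cfsg.Agent.Lib.Helper1.TwOut.cross_compat emb Φa Φb hinja hcross θ ca τ a1 τ₀ b3, a1, a2, b1, b2⟩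

/-- [A-COUNT] -/
theorem card_out_rank2 [Finite Γ] [Fact p.Prime]
    (S : SplitBN Γ (Fin 2) p) (he : S.e 0 ≠ S.e 1) (emb : K₀ →+* K)
    (Φa : Matrix.SpecialLinearGroup (Fin 2) K →* Γ) (Φb : Matrix.SpecialLinearGroup (Fin 2) K₀ →* Γ)
    (hXa : ∀ g, g ∈ S.X 0 ↔ ∃ t, g = Φa (sx t)) (hYa : ∀ g, g ∈ S.Y 0 ↔ ∃ t, g = Φa (sy t))
    (hXb : ∀ g, g ∈ S.X 1 ↔ ∃ t, g = Φb (sx t)) (hYb : ∀ g, g ∈ S.Y 1 ↔ ∃ t, g = Φb (sy t))
    (hinja : Function.Injective fun t : K => Φa (sx t)) (hinjya : Function.Injective fun t : K => Φa (sy t))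
    (hinjb : Function.Injective fun t : K₀ => Φb (sx t)) (hinjyb : Function.Injective fun t : K₀ => Φb (sy t))
    (hcross : ∀ (u : K₀ˣ) (s : K), Φb (hd u) * Φa (sx s) * (Φb (hd u))⁻¹ = Φa (sx ((emb (u : K₀))⁻¹ * s)))
    (hgen : Subgroup.closure (Set.range (fun t : K => Φa (sx t)) ∪ Set.range (fun t : K => Φa (sy t)) ∪
      Set.range (fun t : K₀ => Φb (sx t)) ∪ Set.range (fun t : K₀ => Φb (sy t))) = ⊤)
    (hcore : S.P.B.normalCore = ⊥)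
    (hH : Nat.card ↥(S.P.B ⊓ S.P.N) = (Fintype.card K - 1) * (Fintype.card K₀ - 1))
    (htorus : ∀ h ∈ S.P.B ⊓ S.P.N, ∃ c : K, ∀ t, h * Φa (sx t) * h⁻¹ = Φa (sx (c * t)))
    (hfield : ∀ τ : K ≃+* K, ∃ θ : Γ ≃* Γ, S.U.map θ.toMonoidHom = S.U ∧ S.V.map θ.toMonoidHom = S.V ∧
      ∀ t, θ (Φa (sx t)) = Φa (sx (τ t))) :
    Nat.card (Out Γ) = Nat.card (K ≃+* K) := by
  have : Finite (MulAut Γ) := finite_mulAut
  set A : Subgroup (MulAut Γ) := Nrm S.U S.V with hA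
  have hnfA : ∀ θ ∈ A, ∃ (ca : Kˣ) (τ : K ≃+* K) (cb : K₀ˣ) (τ₀ : K₀ ≃+* K₀), (∀ u, emb (τ₀ u) = τ (emb u)) ∧
      (∀ t, θ (Φa (sx t)) = Φa (sx ((ca : K) * τ t))) ∧
      (∀ t, θ (Φa (sy t)) = Φa (sy (((ca⁻¹ : Kˣ) : K) * τ t))) ∧
      (∀ u, θ (Φb (sx u)) = Φb (sx ((cb : K₀) * τ₀ u))) ∧
      (∀ u, θ (Φb (sy u)) = Φb (sy (((cb⁻¹ : K₀ˣ) : K₀) * τ₀ u))) := by
    intro θ hθ
    exact exists_nf S he emb Φa Φb hXa hYa hXb hYb hinja hinjya hinjb hinjyb hcross θ hθ.1 hθ.2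
  obtain ⟨Ψ, hΨ⟩ := Cfsg.Agent.Lib.Helper85.TwOut.exists_psi Φa hinja A (by
    intro θ hθ
    obtain ⟨ca, τ, -, -, -, a1, -⟩ := hnfA θ hθ
    exact ⟨ca, τ, a1⟩)
  -- `Ψ θ` is the field automorphism of any normal form of `θ`
  have hΨuniq : ∀ (θ : ↥A) (c : Kˣ) (τ : K ≃+* K),
      (∀ t, (θ : MulAut Γ) (Φa (sx t)) = Φa (sx ((c : K) * τ t))) → Ψ θ = τ := by
    intro θ c τ h
    obtain ⟨c', hc'⟩ := hΨ θ
    have h2 : ∀ t : K, (c' : K) * (Ψ θ) t = (c : K) * τ t := by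
      intro t
      apply hinja
      show Φa (sx ((c' : K) * (Ψ θ) t)) = Φa (sx ((c : K) * τ t))
      rw [← hc' t, h t]
    exact (Cfsg.Agent.Lib.Helper85.TwOut.nf_unique c' c (Ψ θ) τ h2).2
  -- `Ψ` is onto
  have hsurj : Function.Surjective Ψ := by
    intro τ
    obtain ⟨θ, hθU, hθV, hθ⟩ := hfield τ
    refine ⟨⟨θ, hθU, hθV⟩, ?_⟩
    apply hΨuniq _ 1 τ
    intro t
    rw [Units.val_one, one_mul]
    exact hθ t
  -- the bound on the kernel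
  have hker : Nat.card ↥Ψ.ker ≤ (Fintype.card K - 1) * (Fintype.card K₀ - 1) := by
    apply Cfsg.Agent.Lib.Helper85.TwOut.card_ker_le emb Φa Φb hinja hinjb hgen A Ψ
    intro θ
    obtain ⟨ca, τ, cb, τ₀, h0, a1, a2, b1, b2⟩ := hnfA θ θ.2
    have e := hΨuniq θ ca τ a1
    refine ⟨ca, cb, τ₀, ?_, ?_, ?_, b1, b2⟩
    · intro u; rw [e]; exact h0 u
    · intro t; rw [e]; exact a1 t
    · intro t; rw [e]; exact a2 t
  -- the inner automorphisms in `A` lie in the kernel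
  have hinn : ∀ x : ↥(A ⊓ Inn Γ), (⟨(x : MulAut Γ), x.2.1⟩ : ↥A) ∈ Ψ.ker := by
    intro x
    have hx : (x : MulAut Γ) ∈ (S.P.B ⊓ S.P.N).map (MulAut.conj : Γ →* MulAut Γ) := by
      rw [← Cfsg.Agent.Lib.Helper49.TwOut.Nrm_inf_Inn S]
      exact x.2
    obtain ⟨h, hh, hhx⟩ := hx
    obtain ⟨c, hc⟩ := htorus h hh
    rw [MonoidHom.mem_ker]
    have hc0 : c ≠ 0 := by
      intro h0
      have h1 := hc 1
      have h2 := hc 0
      rw [h0, zero_mul] at h1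
      rw [h0, zero_mul] at h2
      have h3 : h * Φa (sx 1) * h⁻¹ = h * Φa (sx 0) * h⁻¹ := h1.trans h2.symm
      have h4 : Φa (sx (1 : K)) = Φa (sx 0) := by
        have := congrArg (fun y => h⁻¹ * y * h) h3
        simpa [mul_assoc] using this
      exact one_ne_zero (hinja h4)
    have e := hΨuniq ⟨(x : MulAut Γ), x.2.1⟩ (Units.mk0 c hc0) (RingEquiv.refl K) (by
      intro t
      show (x : MulAut Γ) (Φa (sx t)) = _
      rw [← hhx]
      simp only [MulAut.conj_apply, Units.val_mk0, RingEquiv.refl_apply]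
      exact hc t)
    rw [e]
    rfl
  have hle : Nat.card ↥(A ⊓ Inn Γ) ≤ Nat.card ↥Ψ.ker := by
    apply Nat.card_le_card_of_injective (fun x : ↥(A ⊓ Inn Γ) => (⟨⟨(x : MulAut Γ), x.2.1⟩, hinn x⟩ : ↥Ψ.ker))
    intro x y hxy
    apply Subtype.ext
    have := congrArg (fun z : ↥Ψ.ker => ((z : ↥A) : MulAut Γ)) hxy
    exact this
  have hcardInn : Nat.card ↥(A ⊓ Inn Γ) = (Fintype.card K - 1) * (Fintype.card K₀ - 1) := by
    rw [hA, Cfsg.Agent.Lib.Helper49.TwOut.card_Nrm_inf_Inn S hcore, hH]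
  have hkereq : Nat.card ↥Ψ.ker = Nat.card ↥(A ⊓ Inn Γ) := le_antisymm (hcardInn ▸ hker) hle
  -- `|A| = |ker Ψ| |Aut K|`
  have hcardA : Nat.card ↥A = Nat.card ↥Ψ.ker * Nat.card (RingAut K) := by
    rw [← Nat.card_congr (QuotientGroup.quotientKerEquivOfSurjective Ψ hsurj).toEquiv, mul_comm]
    exact Subgroup.card_eq_card_quotient_mul_card_subgroup Ψ.ker
  have hquot := Cfsg.Agent.Lib.Helper93.Aut.card_quot_mul_card_inf (Inn Γ) A (fun θ => part_one S θ)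
  rw [hcardA, ← hkereq, mul_comm] at hquot
  have hpos : 0 < Nat.card ↥Ψ.ker := Nat.card_pos
  exact Nat.eq_of_mul_eq_mul_left hpos hquot

end Count

end Cfsg.Agent.Lib.Helper69.TwOut
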