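/-
helper69: project TWOUT (helper91), module [A-COUNT4] (for S2130, type ²E₆): the order of the outer automorphism group
of a group with a split (B,N)-pair of rank 4 with diagram `0 - 1 = 2 - 3`, the root subgroups of the nodes `0, 1`
parametrised by a field `K`, those of the nodes `2, 3` by a subfield `K₀`:
`|Out Γ| · |H| = ((|K| - 1)(|K₀| - 1))² · |Aut K|`.
-/
import Cfsg.Agent.Lib.Helper69.TwOut.TwOutCount

set_option autoImplicit false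

namespace Cfsg.Agent.Lib.Helper69.TwOut

open Cfsg Cfsg.Agent.Lib.Helper91.TwOut

variable {Γ : Type*} [Group Γ] {p : ℕ}

/-- Two subgroups commute elementwise. -/
def Comm2 (A B : Subgroup Γ) : Prop := ∀ x ∈ A, ∀ y ∈ B, x * y = y * x

theorem comm2_map (θ : Γ ≃* Γ) (A B : Subgroup Γ) :
    Comm2 (A.map θ.toMonoidHom) (B.map θ.toMonoidHom) ↔ Comm2 A B := by
  constructor
  · intro h x hx y hy
    apply θ.injective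
    rw [map_mul, map_mul]
    exact h _ ⟨x, hx, rfl⟩ _ ⟨y, hy, rfl⟩
  · rintro h _ ⟨x, hx, rfl⟩ _ ⟨y, hy, rfl⟩
    show θ x * θ y = θ y * θ x
    rw [← map_mul, ← map_mul, h x hx y hy]

/-- Four subgroups of orders `p^e`, `e 0 = e 1 ≠ e 2 = e 3`, with the commuting relations of the diagram
`0 - 1 = 2 - 3`, permuted by an automorphism, are each fixed. -/
theorem pin_four [Finite Γ] (hp : 1 < p) (Z : Fin 4 → Subgroup Γ) (e : Fin 4 → ℕ)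
    (hcard : ∀ i, Nat.card ↥(Z i) = p ^ e i)
    (he01 : e 0 = e 1) (he23 : e 2 = e 3) (he : e 0 ≠ e 2)
    (hc02 : Comm2 (Z 0) (Z 2)) (hc03 : Comm2 (Z 0) (Z 3)) (hc13 : Comm2 (Z 1) (Z 3))
    (hn12 : ¬ Comm2 (Z 1) (Z 2))
    (θ : Γ ≃* Γ) (hZ : ∀ i, ∃ j, (Z i).map θ.toMonoidHom = Z j) (i : Fin 4) :
    (Z i).map θ.toMonoidHom = Z i := by
  choose π hπ using hZ
  have heX : ∀ i, e (π i) = e i := by
    intro i
    have h1 : Nat.card ↥((Z i).map θ.toMonoidHom) = Nat.card ↥(Z i) :=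
      Subgroup.card_map_of_injective θ.injective
    rw [hπ i, hcard, hcard] at h1
    exact Nat.pow_right_injective hp h1
  have hcomm : ∀ i j, Comm2 (Z (π i)) (Z (π j)) ↔ Comm2 (Z i) (Z j) := by
    intro i j
    rw [← hπ i, ← hπ j]
    exact comm2_map θ _ _
  have hcls : ∀ i : Fin 4, (e i = e 0 ↔ (i = 0 ∨ i = 1)) := by
    intro i
    fin_cases i
    · simp
    · simp [he01]
    · constructor
      · intro h; exact absurd h.symm he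
      · intro h; rcases h with h | h <;> simp at h
    · constructor
      · intro h; exact absurd (he23.trans h).symm he
      · intro h; rcases h with h | h <;> simp at h
  have hπ01 : ∀ i : Fin 4, (i = 0 ∨ i = 1) → (π i = 0 ∨ π i = 1) := by
    intro i hi
    rw [← hcls] at hi ⊢
    rw [heX, hi]
  have hπ23 : ∀ i : Fin 4, (i = 2 ∨ i = 3) → (π i = 2 ∨ π i = 3) := by
    intro i hi
    have h1 : ¬ (π i = 0 ∨ π i = 1) := by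
      rw [← hcls, heX, hcls]
      rcases hi with rfl | rfl <;> simp
    have : ∀ k : Fin 4, ¬ (k = 0 ∨ k = 1) → (k = 2 ∨ k = 3) := by
      intro k hk
      fin_cases k <;> simp at hk ⊢
    exact this _ h1
  have hπ1 : π 1 = 1 ∧ π 2 = 2 := by
    rcases hπ01 1 (Or.inr rfl) with h1 | h1 <;> rcases hπ23 2 (Or.inl rfl) with h2 | h2
    · exact absurd ((hcomm 1 2).mp (by rw [h1, h2]; exact hc02)) hn12
    · exact absurd ((hcomm 1 2).mp (by rw [h1, h2]; exact hc03)) hn12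
    · exact ⟨h1, h2⟩
    · exact absurd ((hcomm 1 2).mp (by rw [h1, h2]; exact hc13)) hn12
  have hπ0 : π 0 = 0 := by
    rcases hπ01 0 (Or.inl rfl) with h | h
    · exact h
    · exact absurd (by rw [← h, ← hπ1.2]; exact (hcomm 0 2).mpr hc02) hn12
  have hπ3 : π 3 = 3 := by
    rcases hπ23 3 (Or.inr rfl) with h | h
    · exact absurd (by rw [← h, ← hπ1.1]; exact (hcomm 1 3).mpr hc13) hn12
    · exact h
  rw [hπ i]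
  fin_cases i
  · exact congrArg Z hπ0
  · exact congrArg Z hπ1.1
  · exact congrArg Z hπ1.2
  · exact congrArg Z hπ3

/-- With the diagram `0 - 1 = 2 - 3` a normalised automorphism fixes each fundamental root subgroup. -/
theorem map_root_eq4 [Finite Γ] [Fact p.Prime] (S : SplitBN Γ (Fin 4) p)
    (he01 : S.e 0 = S.e 1) (he23 : S.e 2 = S.e 3) (he : S.e 0 ≠ S.e 2)
    (hc02 : Comm2 (S.X 0) (S.X 2)) (hc03 : Comm2 (S.X 0) (S.X 3)) (hc13 : Comm2 (S.X 1) (S.X 3))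
    (hn12 : ¬ Comm2 (S.X 1) (S.X 2))
    (hc02' : Comm2 (S.Y 0) (S.Y 2)) (hc03' : Comm2 (S.Y 0) (S.Y 3)) (hc13' : Comm2 (S.Y 1) (S.Y 3))
    (hn12' : ¬ Comm2 (S.Y 1) (S.Y 2))
    (θ : Γ ≃* Γ) (hU : S.U.map θ.toMonoidHom = S.U) (hV : S.V.map θ.toMonoidHom = S.V) (i : Fin 4) :
    (S.X i).map θ.toMonoidHom = S.X i ∧ (S.Y i).map θ.toMonoidHom = S.Y i := by
  have hp : 1 < p := (Fact.out : p.Prime).one_lt
  obtain ⟨hY, hX⟩ := map_root_subgroups S θ hU hV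
  exact ⟨pin_four hp S.X S.e S.card_X he01 he23 he hc02 hc03 hc13 hn12 θ hX i,
    pin_four hp S.Y S.e (card_Y S) he01 he23 he hc02' hc03' hc13' hn12' θ hY i⟩

/-- The normal form of an automorphism on the rank one subgroup of a node whose two root subgroups it fixes. -/
theorem node_nf {ι : Type*} {F : Type*} [Field F] [Finite F] (S : SplitBN Γ ι p) (i : ι)
    (Φ : Matrix.SpecialLinearGroup (Fin 2) F →* Γ)
    (hX : ∀ g, g ∈ S.X i ↔ ∃ t, g = Φ (sx t)) (hY : ∀ g, g ∈ S.Y i ↔ ∃ t, g = Φ (sy t))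
    (hinj : Function.Injective fun t : F => Φ (sx t)) (hinjy : Function.Injective fun t : F => Φ (sy t))
    (θ : Γ ≃* Γ) (hθX : (S.X i).map θ.toMonoidHom = S.X i) (hθY : (S.Y i).map θ.toMonoidHom = S.Y i) :
    ∃ (c : Fˣ) (τ : F ≃+* F), (∀ t, θ (Φ (sx t)) = Φ (sx ((c : F) * τ t))) ∧
      (∀ t, θ (Φ (sy t)) = Φ (sy (((c⁻¹ : Fˣ) : F) * τ t))) ∧
      ∀ t : Fˣ, θ (Φ (hd t)) = Φ (hd (Units.map (τ : F →* F) t)) := by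
  have hUV := U_inf_V S
  have hxy : ∀ t u : F, t ≠ 0 → Φ (sx t) ≠ Φ (sy u) := by
    intro t u ht h
    have h1 : Φ (sx t) ∈ S.U ⊓ S.V :=
      ⟨X_le_U S i ((hX _).mpr ⟨t, rfl⟩), by rw [h]; exact Y_le_V S i ((hY _).mpr ⟨u, rfl⟩)⟩
    rw [hUV, Subgroup.mem_bot] at h1
    have h0 : Φ (sx (0 : F)) = 1 := by
      have e : (sx (0 : F)) = 1 := by
        ext i j
        fin_cases i <;> fin_cases j <;> simp [coe_sx]
      rw [e, map_one]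
    exact ht (hinj (h1.trans h0.symm))
  have hX' : ∀ t, ∃ t', θ (Φ (sx t)) = Φ (sx t') := by
    intro t
    have : θ (Φ (sx t)) ∈ (S.X i).map θ.toMonoidHom := ⟨_, (hX _).mpr ⟨t, rfl⟩, rfl⟩
    rw [hθX] at this
    exact (hX _).mp this
  have hY' : ∀ t, ∃ t', θ (Φ (sy t)) = Φ (sy t') := by
    intro t
    have : θ (Φ (sy t)) ∈ (S.Y i).map θ.toMonoidHom := ⟨_, (hY _).mpr ⟨t, rfl⟩, rfl⟩
    rw [hθY] at this
    exact (hY _).mp this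
  exact Cfsg.Agent.Lib.Helper23.TwOut.pair_nf Φ hinj hinjy hxy θ hX' hY'

section Count4

variable {K K₀ : Type*} [Field K] [Fintype K] [Field K₀] [Fintype K₀]

/-- [A-COUNT4] -/
theorem card_out_rank4 [Finite Γ] [Fact p.Prime] (S : SplitBN Γ (Fin 4) p)
    (he01 : S.e 0 = S.e 1) (he23 : S.e 2 = S.e 3) (he : S.e 0 ≠ S.e 2)
    (hc02 : Comm2 (S.X 0) (S.X 2)) (hc03 : Comm2 (S.X 0) (S.X 3)) (hc13 : Comm2 (S.X 1) (S.X 3))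
    (hn12 : ¬ Comm2 (S.X 1) (S.X 2))
    (hc02' : Comm2 (S.Y 0) (S.Y 2)) (hc03' : Comm2 (S.Y 0) (S.Y 3)) (hc13' : Comm2 (S.Y 1) (S.Y 3))
    (hn12' : ¬ Comm2 (S.Y 1) (S.Y 2))
    (emb : K₀ →+* K)
    (Φ0 Φ1 : Matrix.SpecialLinearGroup (Fin 2) K →* Γ) (Φ2 Φ3 : Matrix.SpecialLinearGroup (Fin 2) K₀ →* Γ)
    (hX0 : ∀ g, g ∈ S.X 0 ↔ ∃ t, g = Φ0 (sx t)) (hY0 : ∀ g, g ∈ S.Y 0 ↔ ∃ t, g = Φ0 (sy t))
    (hX1 : ∀ g, g ∈ S.X 1 ↔ ∃ t, g = Φ1 (sx t)) (hY1 : ∀ g, g ∈ S.Y 1 ↔ ∃ t, g = Φ1 (sy t))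
    (hX2 : ∀ g, g ∈ S.X 2 ↔ ∃ t, g = Φ2 (sx t)) (hY2 : ∀ g, g ∈ S.Y 2 ↔ ∃ t, g = Φ2 (sy t))
    (hX3 : ∀ g, g ∈ S.X 3 ↔ ∃ t, g = Φ3 (sx t)) (hY3 : ∀ g, g ∈ S.Y 3 ↔ ∃ t, g = Φ3 (sy t))
    (hi0 : Function.Injective fun t : K => Φ0 (sx t)) (hiy0 : Function.Injective fun t : K => Φ0 (sy t))
    (hi1 : Function.Injective fun t : K => Φ1 (sx t)) (hiy1 : Function.Injective fun t : K => Φ1 (sy t))
    (hi2 : Function.Injective fun t : K₀ => Φ2 (sx t)) (hiy2 : Function.Injective fun t : K₀ => Φ2 (sy t))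
    (hi3 : Function.Injective fun t : K₀ => Φ3 (sx t)) (hiy3 : Function.Injective fun t : K₀ => Φ3 (sy t))
    (hcross10 : ∀ (u : Kˣ) (s : K), Φ0 (hd u) * Φ1 (sx s) * (Φ0 (hd u))⁻¹ = Φ1 (sx ((u : K)⁻¹ * s)))
    (hcross12 : ∀ (u : K₀ˣ) (s : K), Φ2 (hd u) * Φ1 (sx s) * (Φ2 (hd u))⁻¹ = Φ1 (sx ((emb (u : K₀))⁻¹ * s)))
    (hcross23 : ∀ (u : K₀ˣ) (s : K₀), Φ3 (hd u) * Φ2 (sx s) * (Φ3 (hd u))⁻¹ = Φ2 (sx ((u : K₀)⁻¹ * s)))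
    (hgen : Subgroup.closure (Set.range (fun t : K => Φ0 (sx t)) ∪ Set.range (fun t : K => Φ0 (sy t)) ∪
      Set.range (fun t : K => Φ1 (sx t)) ∪ Set.range (fun t : K => Φ1 (sy t)) ∪
      Set.range (fun t : K₀ => Φ2 (sx t)) ∪ Set.range (fun t : K₀ => Φ2 (sy t)) ∪
      Set.range (fun t : K₀ => Φ3 (sx t)) ∪ Set.range (fun t : K₀ => Φ3 (sy t))) = ⊤)
    (hcore : S.P.B.normalCore = ⊥)
    (hfield : ∀ τ : K ≃+* K, ∃ θ : Γ ≃* Γ, S.U.map θ.toMonoidHom = S.U ∧ S.V.map θ.toMonoidHom = S.V ∧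
      ∀ t, θ (Φ1 (sx t)) = Φ1 (sx (τ t)))
    (hdiag : ∀ (c0 c1 : Kˣ) (c2 c3 : K₀ˣ), ∃ θ : Γ ≃* Γ, S.U.map θ.toMonoidHom = S.U ∧
      S.V.map θ.toMonoidHom = S.V ∧ (∀ t, θ (Φ0 (sx t)) = Φ0 (sx ((c0 : K) * t))) ∧
      (∀ t, θ (Φ1 (sx t)) = Φ1 (sx ((c1 : K) * t))) ∧ (∀ t, θ (Φ2 (sx t)) = Φ2 (sx ((c2 : K₀) * t))) ∧
      (∀ t, θ (Φ3 (sx t)) = Φ3 (sx ((c3 : K₀) * t)))) :
    Nat.card (Out Γ) * Nat.card ↥(S.P.B ⊓ S.P.N) =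
      ((Fintype.card K - 1) * (Fintype.card K₀ - 1)) ^ 2 * Nat.card (K ≃+* K) := by
  classical
  have : Finite (MulAut Γ) := finite_mulAut
  set A : Subgroup (MulAut Γ) := Nrm S.U S.V with hA
  -- the normal form of the elements of `A`
  have hnfA : ∀ θ ∈ A, ∃ (c0 c1 : Kˣ) (τ : K ≃+* K) (c2 c3 : K₀ˣ) (τ₀ : K₀ ≃+* K₀),
      (∀ u, emb (τ₀ u) = τ (emb u)) ∧
      (∀ t, θ (Φ0 (sx t)) = Φ0 (sx ((c0 : K) * τ t))) ∧
      (∀ t, θ (Φ0 (sy t)) = Φ0 (sy (((c0⁻¹ : Kˣ) : K) * τ t))) ∧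
      (∀ t, θ (Φ1 (sx t)) = Φ1 (sx ((c1 : K) * τ t))) ∧
      (∀ t, θ (Φ1 (sy t)) = Φ1 (sy (((c1⁻¹ : Kˣ) : K) * τ t))) ∧
      (∀ u, θ (Φ2 (sx u)) = Φ2 (sx ((c2 : K₀) * τ₀ u))) ∧
      (∀ u, θ (Φ2 (sy u)) = Φ2 (sy (((c2⁻¹ : K₀ˣ) : K₀) * τ₀ u))) ∧
      (∀ u, θ (Φ3 (sx u)) = Φ3 (sx ((c3 : K₀) * τ₀ u))) ∧
      (∀ u, θ (Φ3 (sy u)) = Φ3 (sy (((c3⁻¹ : K₀ˣ) : K₀) * τ₀ u))) := by
    intro θ hθ
    have hfix := map_root_eq4 S he01 he23 he hc02 hc03 hc13 hn12 hc02' hc03' hc13' hn12' θ hθ.1 hθ.2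
    obtain ⟨c0, τ0, a1, a2, a3⟩ := node_nf S 0 Φ0 hX0 hY0 hi0 hiy0 θ (hfix 0).1 (hfix 0).2
    obtain ⟨c1, τ1, b1, b2, b3⟩ := node_nf S 1 Φ1 hX1 hY1 hi1 hiy1 θ (hfix 1).1 (hfix 1).2
    obtain ⟨c2, τ2, d1, d2, d3⟩ := node_nf S 2 Φ2 hX2 hY2 hi2 hiy2 θ (hfix 2).1 (hfix 2).2
    obtain ⟨c3, τ3, e1, e2, e3⟩ := node_nf S 3 Φ3 hX3 hY3 hi3 hiy3 θ (hfix 3).1 (hfix 3).2
    have h01 : ∀ u : K, τ0 u = τ1 u :=
      Cfsg.Agent.Lib.Helper1.TwOut.cross_compat (RingHom.id K) Φ1 Φ0 hi1 hcross10 θ c1 τ1 b1 τ0 a3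
    have h12 : ∀ u : K₀, emb (τ2 u) = τ1 (emb u) :=
      Cfsg.Agent.Lib.Helper1.TwOut.cross_compat emb Φ1 Φ2 hi1 hcross12 θ c1 τ1 b1 τ2 d3
    have h23 : ∀ u : K₀, τ3 u = τ2 u :=
      Cfsg.Agent.Lib.Helper1.TwOut.cross_compat (RingHom.id K₀) Φ2 Φ3 hi2 hcross23 θ c2 τ2 d1 τ3 e3
    refine ⟨c0, c1, τ1, c2, c3, τ2, h12, ?_, ?_, b1, b2, d1, d2, ?_, ?_⟩
    · intro t; rw [a1, h01]
    · intro t; rw [a2, h01]
    · intro u; rw [e1, h23]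
    · intro u; rw [e2, h23]
  obtain ⟨Ψ, hΨ⟩ := Cfsg.Agent.Lib.Helper85.TwOut.exists_psi Φ1 hi1 A (by
    intro θ hθ
    obtain ⟨c0, c1, τ, c2, c3, τ₀, -, -, -, b1, -⟩ := hnfA θ hθ
    exact ⟨c1, τ, b1⟩)
  have hΨuniq : ∀ (θ : ↥A) (c : Kˣ) (τ : K ≃+* K),
      (∀ t, (θ : MulAut Γ) (Φ1 (sx t)) = Φ1 (sx ((c : K) * τ t))) → Ψ θ = τ := by
    intro θ c τ h
    obtain ⟨c', hc'⟩ := hΨ θ
    have h2 : ∀ t : K, (c' : K) * (Ψ θ) t = (c : K) * τ t := by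
      intro t
      apply hi1
      show Φ1 (sx ((c' : K) * (Ψ θ) t)) = Φ1 (sx ((c : K) * τ t))
      rw [← hc' t, h t]
    exact (Cfsg.Agent.Lib.Helper85.TwOut.nf_unique c' c (Ψ θ) τ h2).2
  have hsurj : Function.Surjective Ψ := by
    intro τ
    obtain ⟨θ, hθU, hθV, hθ⟩ := hfield τ
    refine ⟨⟨θ, hθU, hθV⟩, ?_⟩
    apply hΨuniq _ 1 τ
    intro t
    rw [Units.val_one, one_mul]
    exact hθ t
  -- the kernel: the diagonal automorphisms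
  have hker : ∀ θ : ↥Ψ.ker, ∃ x : (Kˣ × Kˣ) × (K₀ˣ × K₀ˣ),
      (∀ t, ((θ : ↥A) : MulAut Γ) (Φ0 (sx t)) = Φ0 (sx ((x.1.1 : K) * t))) ∧
      (∀ t, ((θ : ↥A) : MulAut Γ) (Φ0 (sy t)) = Φ0 (sy (((x.1.1⁻¹ : Kˣ) : K) * t))) ∧
      (∀ t, ((θ : ↥A) : MulAut Γ) (Φ1 (sx t)) = Φ1 (sx ((x.1.2 : K) * t))) ∧
      (∀ t, ((θ : ↥A) : MulAut Γ) (Φ1 (sy t)) = Φ1 (sy (((x.1.2⁻¹ : Kˣ) : K) * t))) ∧
      (∀ u, ((θ : ↥A) : MulAut Γ) (Φ2 (sx u)) = Φ2 (sx ((x.2.1 : K₀) * u))) ∧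
      (∀ u, ((θ : ↥A) : MulAut Γ) (Φ2 (sy u)) = Φ2 (sy (((x.2.1⁻¹ : K₀ˣ) : K₀) * u))) ∧
      (∀ u, ((θ : ↥A) : MulAut Γ) (Φ3 (sx u)) = Φ3 (sx ((x.2.2 : K₀) * u))) ∧
      (∀ u, ((θ : ↥A) : MulAut Γ) (Φ3 (sy u)) = Φ3 (sy (((x.2.2⁻¹ : K₀ˣ) : K₀) * u))) := by
    intro θ
    obtain ⟨c0, c1, τ, c2, c3, τ₀, h0, a1, a2, b1, b2, d1, d2, e1, e2⟩ := hnfA (θ : ↥A) (θ : ↥A).2
    have hΨ1 : Ψ (θ : ↥A) = 1 := θ.2
    have hτ1 : τ = 1 := (hΨuniq (θ : ↥A) c1 τ b1).symm.trans hΨ1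
    have hτ : ∀ t, τ t = t := by
      intro t; rw [hτ1]; rfl
    have hτ₀ : ∀ u, τ₀ u = u := by
      intro u
      have := h0 u
      rw [hτ] at this
      exact emb.injective this
    refine ⟨((c0, c1), (c2, c3)), ?_, ?_, ?_, ?_, ?_, ?_, ?_, ?_⟩
    · intro t; rw [a1, hτ]
    · intro t; rw [a2, hτ]
    · intro t; rw [b1, hτ]
    · intro t; rw [b2, hτ]
    · intro u; rw [d1, hτ₀]
    · intro u; rw [d2, hτ₀]
    · intro u; rw [e1, hτ₀]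
    · intro u; rw [e2, hτ₀]
  let f : ↥Ψ.ker → (Kˣ × Kˣ) × (K₀ˣ × K₀ˣ) := fun θ => Classical.choose (hker θ)
  have hf := fun θ => Classical.choose_spec (hker θ)
  have hinj : Function.Injective f := by
    intro θ θ' hθ
    apply Subtype.ext
    apply Subtype.ext
    obtain ⟨a1, a2, a3, a4, a5, a6, a7, a8⟩ := hf θ
    obtain ⟨b1, b2, b3, b4, b5, b6, b7, b8⟩ := hf θ'
    have hfe : f θ = f θ' := hθ
    have key : (((θ : ↥A) : MulAut Γ) : Γ ≃* Γ).toMonoidHom = (((θ' : ↥A) : MulAut Γ) : Γ ≃* Γ).toMonoidHom := by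
      apply MonoidHom.eq_of_eqOn_dense hgen
      intro g hg
      rcases hg with ((((((⟨t, rfl⟩ | ⟨t, rfl⟩) | ⟨t, rfl⟩) | ⟨t, rfl⟩) | ⟨t, rfl⟩) | ⟨t, rfl⟩) | ⟨t, rfl⟩) | ⟨t, rfl⟩
      · show ((θ : ↥A) : MulAut Γ) (Φ0 (sx t)) = ((θ' : ↥A) : MulAut Γ) (Φ0 (sx t))
        rw [a1, b1]
        show Φ0 (sx (((f θ).1.1 : K) * t)) = Φ0 (sx (((f θ').1.1 : K) * t))
        rw [hfe]
      · show ((θ : ↥A) : MulAut Γ) (Φ0 (sy t)) = ((θ' : ↥A) : MulAut Γ) (Φ0 (sy t))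
        rw [a2, b2]
        show Φ0 (sy ((((f θ).1.1⁻¹ : Kˣ) : K) * t)) = Φ0 (sy ((((f θ').1.1⁻¹ : Kˣ) : K) * t))
        rw [hfe]
      · show ((θ : ↥A) : MulAut Γ) (Φ1 (sx t)) = ((θ' : ↥A) : MulAut Γ) (Φ1 (sx t))
        rw [a3, b3]
        show Φ1 (sx (((f θ).1.2 : K) * t)) = Φ1 (sx (((f θ').1.2 : K) * t))
        rw [hfe]
      · show ((θ : ↥A) : MulAut Γ) (Φ1 (sy t)) = ((θ' : ↥A) : MulAut Γ) (Φ1 (sy t))
        rw [a4, b4]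
        show Φ1 (sy ((((f θ).1.2⁻¹ : Kˣ) : K) * t)) = Φ1 (sy ((((f θ').1.2⁻¹ : Kˣ) : K) * t))
        rw [hfe]
      · show ((θ : ↥A) : MulAut Γ) (Φ2 (sx t)) = ((θ' : ↥A) : MulAut Γ) (Φ2 (sx t))
        rw [a5, b5]
        show Φ2 (sx (((f θ).2.1 : K₀) * t)) = Φ2 (sx (((f θ').2.1 : K₀) * t))
        rw [hfe]
      · show ((θ : ↥A) : MulAut Γ) (Φ2 (sy t)) = ((θ' : ↥A) : MulAut Γ) (Φ2 (sy t))
        rw [a6, b6]
        show Φ2 (sy ((((f θ).2.1⁻¹ : K₀ˣ) : K₀) * t)) = Φ2 (sy ((((f θ').2.1⁻¹ : K₀ˣ) : K₀) * t))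
        rw [hfe]
      · show ((θ : ↥A) : MulAut Γ) (Φ3 (sx t)) = ((θ' : ↥A) : MulAut Γ) (Φ3 (sx t))
        rw [a7, b7]
        show Φ3 (sx (((f θ).2.2 : K₀) * t)) = Φ3 (sx (((f θ').2.2 : K₀) * t))
        rw [hfe]
      · show ((θ : ↥A) : MulAut Γ) (Φ3 (sy t)) = ((θ' : ↥A) : MulAut Γ) (Φ3 (sy t))
        rw [a8, b8]
        show Φ3 (sy ((((f θ).2.2⁻¹ : K₀ˣ) : K₀) * t)) = Φ3 (sy ((((f θ').2.2⁻¹ : K₀ˣ) : K₀) * t))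
        rw [hfe]
    apply MulEquiv.ext
    intro g
    exact DFunLike.congr_fun key g
  have hsurjf : Function.Surjective f := by
    rintro ⟨⟨c0, c1⟩, ⟨c2, c3⟩⟩
    obtain ⟨θ, hθU, hθV, g0, g1, g2, g3⟩ := hdiag c0 c1 c2 c3
    have hker1 : (⟨θ, hθU, hθV⟩ : ↥A) ∈ Ψ.ker := by
      rw [MonoidHom.mem_ker]
      have := hΨuniq ⟨θ, hθU, hθV⟩ c1 (RingEquiv.refl K) (fun t => g1 t)
      rw [this]
      rfl
    set θ0 : ↥Ψ.ker := ⟨⟨θ, hθU, hθV⟩, hker1⟩ with hθ0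
    refine ⟨θ0, ?_⟩
    obtain ⟨a1, -, a3, -, a5, -, a7, -⟩ := hf θ0
    have k0 : ((f θ0).1.1 : K) = c0 := by
      have e : Φ0 (sx (((f θ0).1.1 : K) * 1)) = Φ0 (sx ((c0 : K) * 1)) := (a1 1).symm.trans (g0 1)
      have := hi0 e
      simpa using this
    have k1 : ((f θ0).1.2 : K) = c1 := by
      have e : Φ1 (sx (((f θ0).1.2 : K) * 1)) = Φ1 (sx ((c1 : K) * 1)) := (a3 1).symm.trans (g1 1)
      have := hi1 e
      simpa using this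
    have k2 : ((f θ0).2.1 : K₀) = c2 := by
      have e : Φ2 (sx (((f θ0).2.1 : K₀) * 1)) = Φ2 (sx ((c2 : K₀) * 1)) := (a5 1).symm.trans (g2 1)
      have := hi2 e
      simpa using this
    have k3 : ((f θ0).2.2 : K₀) = c3 := by
      have e : Φ3 (sx (((f θ0).2.2 : K₀) * 1)) = Φ3 (sx ((c3 : K₀) * 1)) := (a7 1).symm.trans (g3 1)
      have := hi3 e
      simpa using this
    exact Prod.ext (Prod.ext (Units.ext k0) (Units.ext k1)) (Prod.ext (Units.ext k2) (Units.ext k3))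
  have hcardker : Nat.card ↥Ψ.ker = ((Fintype.card K - 1) * (Fintype.card K₀ - 1)) ^ 2 := by
    rw [Nat.card_congr (Equiv.ofBijective f ⟨hinj, hsurjf⟩), Nat.card_prod, Nat.card_prod, Nat.card_prod,
      Nat.card_eq_fintype_card, Nat.card_eq_fintype_card, Fintype.card_units, Fintype.card_units]
    ring
  have hcardInn : Nat.card ↥(A ⊓ Inn Γ) = Nat.card ↥(S.P.B ⊓ S.P.N) := by
    rw [hA, Cfsg.Agent.Lib.Helper49.TwOut.card_Nrm_inf_Inn S hcore]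
  have hcardA : Nat.card ↥A = Nat.card ↥Ψ.ker * Nat.card (RingAut K) := by
    rw [← Nat.card_congr (QuotientGroup.quotientKerEquivOfSurjective Ψ hsurj).toEquiv, mul_comm]
    exact Subgroup.card_eq_card_quotient_mul_card_subgroup Ψ.ker
  have hquot := Cfsg.Agent.Lib.Helper93.Aut.card_quot_mul_card_inf (Inn Γ) A (fun θ => part_one S θ)
  rw [hcardA, hcardInn, hcardker] at hquot
  exact hquot

end Count4

end Cfsg.Agent.Lib.Helper69.TwOut
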