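/-
helper69: project TWOUT, `²E₆`: the commuting relations between the fundamental root subgroups of the `SplitBN`
instance (diagram `0 - 1 = 2 - 3`): `X₀/X₂`, `X₀/X₃`, `X₁/X₃` commute, `X₁/X₂` do not; the same for the `Y_i`.
-/
import Cfsg.Agent.Lib.Helper69.TwOut.E6Split
import Cfsg.Agent.Lib.Helper69.TwOut.TwOutCount4
import Cfsg.Agent.Lib.Helper18.UFactTabs

set_option autoImplicit false
set_option linter.unusedSectionVars false
set_option maxRecDepth 1000000
set_option exponentiation.threshold 100000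

namespace Cfsg.Agent.Lib.Helper69.TwOut

open Cfsg Cfsg.Lie Cfsg.Agent.Lib.Helper18 Cfsg.Agent.Lib.Helper17 Cfsg.Agent.Lib.Helper91.TwOut

universe u

/-- Commuting relations are transported by conjugation. -/
theorem comm2_conj {Γ : Type*} [Group Γ] (n : Γ) (A B A' B' : Subgroup Γ)
    (hA : ∀ g, g ∈ A ↔ n⁻¹ * g * n ∈ A') (hB : ∀ g, g ∈ B ↔ n⁻¹ * g * n ∈ B') :
    Comm2 A' B' ↔ Comm2 A B := by
  constructor
  · intro h x hx y hy
    have := h _ ((hA x).mp hx) _ ((hB y).mp hy)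
    have e : n⁻¹ * (x * y) * n = n⁻¹ * (y * x) * n := by
      calc n⁻¹ * (x * y) * n = (n⁻¹ * x * n) * (n⁻¹ * y * n) := by group
        _ = (n⁻¹ * y * n) * (n⁻¹ * x * n) := this
        _ = n⁻¹ * (y * x) * n := by group
    have e2 := congrArg (fun z => n * z * n⁻¹) e
    simpa [mul_assoc] using e2
  · intro h x' hx' y' hy'
    have hx : n * x' * n⁻¹ ∈ A := by
      rw [hA]
      have : n⁻¹ * (n * x' * n⁻¹) * n = x' := by group
      rwa [this]
    have hy : n * y' * n⁻¹ ∈ B := by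
      rw [hB]
      have : n⁻¹ * (n * y' * n⁻¹) * n = y' := by group
      rwa [this]
    have := h _ hx _ hy
    have e2 := congrArg (fun z => n⁻¹ * z * n) this
    simpa [mul_assoc] using e2

theorem conj_mul2E {G : Type*} [Group G] (n a b : G) :
    n * (a * b) * n⁻¹ = (n * a * n⁻¹) * (n * b * n⁻¹) := by group

variable {K : Type u} [Field K] [Fintype K] (φ : K ≃+* K) (hφ2 : ∀ a : K, φ (φ a) = a)

theorem comm_pair_single (r r' s : ℕ) (h1 : TwCfg.commE chevData_E6.{u}.T r s = true)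
    (h2 : TwCfg.commE chevData_E6.{u}.T r' s = true) (a b c : K) :
    (xG hE6 r a * xG hE6 r' b) * xG hE6 s c = xG hE6 s c * (xG hE6 r a * xG hE6 r' b) := by
  have c1 := commE_commute hE6 chevData_E6.{u} r s h1 a c
  have c2 := commE_commute hE6 chevData_E6.{u} r' s h2 b c
  exact (c1.mul_left c2).eq

include hφ2 in
/-- `X₀` (class `[0,5]`) and `X₂` (class `[3]`) commute. -/
theorem comm2_X02 : Comm2 (XTw hE6 chevData_E6.{u} twCfg_E6 φ twCfg_E6_ok' 2)
    (XTw hE6 chevData_E6.{u} twCfg_E6 φ twCfg_E6_ok' 1) := by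
  intro x hx y hy
  obtain ⟨t, ht⟩ := (mem_XE6_0 φ hφ2 x).mp hx
  obtain ⟨v, -, hv⟩ := (mem_XE6_2 φ hφ2 y).mp hy
  apply Subtype.ext
  rw [Subgroup.coe_mul, Subgroup.coe_mul, ht, hv, xcls_56, xcls_39]
  exact comm_pair_single 56 36 39 (by decide) (by decide) _ _ _

include hφ2 in
/-- `X₀` (class `[0,5]`) and `X₃` (class `[1]`) commute. -/
theorem comm2_X03 : Comm2 (XTw hE6 chevData_E6.{u} twCfg_E6 φ twCfg_E6_ok' 2)
    (XTw hE6 chevData_E6.{u} twCfg_E6 φ twCfg_E6_ok' 0) := by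
  intro x hx y hy
  obtain ⟨t, ht⟩ := (mem_XE6_0 φ hφ2 x).mp hx
  obtain ⟨v, -, hv⟩ := (mem_XE6_3 φ hφ2 y).mp hy
  apply Subtype.ext
  rw [Subgroup.coe_mul, Subgroup.coe_mul, ht, hv, xcls_56, xcls_46]
  exact comm_pair_single 56 36 46 (by decide) (by decide) _ _ _

include hφ2 in
/-- `X₁` (class `[2,4]`) and `X₃` (class `[1]`) commute. -/
theorem comm2_X13 : Comm2 (XTw hE6 chevData_E6.{u} twCfg_E6 φ twCfg_E6_ok' 3)
    (XTw hE6 chevData_E6.{u} twCfg_E6 φ twCfg_E6_ok' 0) := by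
  intro x hx y hy
  obtain ⟨t, ht⟩ := (mem_XE6_1 φ hφ2 x).mp hx
  obtain ⟨v, -, hv⟩ := (mem_XE6_3 φ hφ2 y).mp hy
  apply Subtype.ext
  rw [Subgroup.coe_mul, Subgroup.coe_mul, ht, hv, xcls_42, xcls_46]
  exact comm_pair_single 42 37 46 (by decide) (by decide) _ _ _

/-- The elements `x₄₂(1) x₃₇(1)` and `x₃₉(1)` do not commute. -/
theorem not_comm_42_39 :
    (xG hE6 42 (1 : K) * xG hE6 37 1) * xG hE6 39 1 ≠ xG hE6 39 1 * (xG hE6 42 (1 : K) * xG hE6 37 1) := by
  intro h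
  -- `x_{-39}(-1)` commutes with `y = x₄₂(1) x₃₇(1)`
  have h32 : (xG hE6 42 (1 : K) * xG hE6 37 1) * xG hE6 32 (-1) = xG hE6 32 (-1) * (xG hE6 42 (1 : K) * xG hE6 37 1) :=
    comm_pair_single 42 37 32 (by decide) (by decide) _ _ _
  -- hence `n = x₃₉(1) x₃₂(-1) x₃₉(1)` commutes with `y`
  have hn : nW hE6 chevData_E6.{u} [3] = xG hE6 39 (1 : K) * xG hE6 32 (-1) * xG hE6 39 1 := by
    rw [nW_cons, nW_nil, mul_one, sG_eq hE6 chevData_E6.{u} 3 (by decide)]
    have e1 : chevE6.simple 3 = 39 := by decide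
    have e2 : chevE6.neg 39 = 32 := by decide
    rw [e1, e2]
  have hcomm : nW hE6 chevData_E6.{u} [3] * (xG hE6 42 (1 : K) * xG hE6 37 1) * (nW hE6 chevData_E6.{u} [3])⁻¹
      = xG hE6 42 (1 : K) * xG hE6 37 1 := by
    rw [hn]
    set y := xG hE6 42 (1 : K) * xG hE6 37 1 with hy
    set a := xG hE6 39 (1 : K) with ha
    set b := xG hE6 32 (-1 : K) with hb
    have c1 : a * y = y * a := h.symm
    have c2 : b * y = y * b := h32.symm
    calc a * b * a * y * (a * b * a)⁻¹ = a * b * (a * y) * (a * b * a)⁻¹ := by group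
      _ = a * b * (y * a) * (a * b * a)⁻¹ := by rw [c1]
      _ = a * (b * y) * a * (a * b * a)⁻¹ := by group
      _ = a * (y * b) * a * (a * b * a)⁻¹ := by rw [c2]
      _ = (a * y) * b * a * (a * b * a)⁻¹ := by group
      _ = (y * a) * b * a * (a * b * a)⁻¹ := by rw [c1]
      _ = y := by group
  -- but `n y n⁻¹ = x₄₃(1) x₄₀(-1)`
  have hconj : nW hE6 chevData_E6.{u} [3] * (xG hE6 42 (1 : K) * xG hE6 37 1) * (nW hE6 chevData_E6.{u} [3])⁻¹
      = xG hE6 43 1 * xG hE6 40 (-1) := by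
    have hws : ∀ i ∈ [3], i < chevE6.rank := by decide
    rw [conj_mul2E, nW_conj_xG hE6 chevData_E6.{u} [3] hws 42 (by decide),
      nW_conj_xG hE6 chevData_E6.{u} [3] hws 37 (by decide)]
    have r1 : wordRootF chevData_E6.{u}.tabs [3] 42 = 43 := by decide
    have r2 : wordRootF chevData_E6.{u}.tabs [3] 37 = 40 := by decide
    have s1 : wordSignF chevData_E6.{u}.tabs [3] 42 = 1 := by decide
    have s2 : wordSignF chevData_E6.{u}.tabs [3] 37 = -1 := by decide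
    rw [r1, r2, s1, s2]
    simp
  rw [hconj] at hcomm
  -- compare coefficients on the increasing list `[37, 40, 42, 43]`
  let c : ℕ → K := fun r => if r = 37 then 1 else if r = 42 then 1 else 0
  let c' : ℕ → K := fun r => if r = 40 then -1 else if r = 43 then 1 else 0
  have hl : ∀ r ∈ [37, 40, 42, 43], chevE6.IsPosRoot r := by
    intro r hr
    rw [isPosRoot_iff hE6]
    simp only [List.mem_cons, List.not_mem_nil, or_false] at hr
    rcases hr with rfl | rfl | rfl | rfl <;> decide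
  have e1 : prodL hE6 [37, 40, 42, 43] c = xG hE6 42 (1 : K) * xG hE6 37 1 := by
    rw [prodL_cons, prodL_cons, prodL_cons, prodL_cons, prodL_nil, mul_one]
    have a1 : c 37 = 1 := by simp [c]
    have a2 : c 40 = 0 := by simp [c]
    have a3 : c 42 = 1 := by simp [c]
    have a4 : c 43 = 0 := by simp [c]
    rw [a1, a2, a3, a4, xG_zero, xG_zero, one_mul, mul_one]
    exact (commE_commute hE6 chevData_E6.{u} 37 42 (by decide) 1 1).eq
  have e2 : prodL hE6 [37, 40, 42, 43] c' = xG hE6 43 (1 : K) * xG hE6 40 (-1) := by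
    rw [prodL_cons, prodL_cons, prodL_cons, prodL_cons, prodL_nil, mul_one]
    have a1 : c' 37 = 0 := by simp [c']
    have a2 : c' 40 = -1 := by simp [c']
    have a3 : c' 42 = 0 := by simp [c']
    have a4 : c' 43 = 1 := by simp [c']
    rw [a1, a2, a3, a4, xG_zero, xG_zero, one_mul, one_mul]
    exact (commE_commute hE6 chevData_E6.{u} 40 43 (by decide) (-1) 1).eq
  have e3 : prodL hE6 [37, 40, 42, 43] c = prodL hE6 [37, 40, 42, 43] c' := by
    rw [e1, e2, hcomm]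
  have := prodL_injective hE6 (lexOK_of_mem chevE6 hE6) (bezOK_of_mem chevE6 hE6) [37, 40, 42, 43] hl
    (by decide) c c' e3 42 (by simp)
  simp [c, c'] at this

include hφ2 in
/-- `X₁` (class `[2,4]`) and `X₂` (class `[3]`) do not commute. -/
theorem not_comm2_X12 : ¬ Comm2 (XTw hE6 chevData_E6.{u} twCfg_E6 φ twCfg_E6_ok' 3)
    (XTw hE6 chevData_E6.{u} twCfg_E6 φ twCfg_E6_ok' 1) := by
  intro h
  have hφm := hφm_E6 φ hφ2
  have hx : xcls hE6 twCfg_E6 φ 42 (1 : K) ∈ GE6 φ :=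
    xcls_mem hE6 chevData_E6.{u} twCfg_E6 φ twCfg_E6_ok' hφm 42 (mem_genRoots_E6 42 (by simp)) 1
      (fun h' => absurd h' (by decide))
  have hy : xcls hE6 twCfg_E6 φ 39 (1 : K) ∈ GE6 φ :=
    xcls_mem hE6 chevData_E6.{u} twCfg_E6 φ twCfg_E6_ok' hφm 39 (mem_genRoots_E6 39 (by simp)) 1
      (fun _ => map_one φ)
  have h1 := h ⟨_, hx⟩ ((mem_XE6_1 φ hφ2 _).mpr ⟨1, rfl⟩) ⟨_, hy⟩ ((mem_XE6_2 φ hφ2 _).mpr ⟨1, map_one φ, rfl⟩)
  have h2 := congrArg (fun z : ↥(GE6 φ) => (z : GL chevE6.Idx K)) h1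
  simp only [Subgroup.coe_mul] at h2
  rw [xcls_42, xcls_39, map_one] at h2
  exact not_comm_42_39 h2

end Cfsg.Agent.Lib.Helper69.TwOut
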