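/-
helper69: project TWOUT, `²E₆`: the cross relations between adjacent classes (the torus elements of one class acting
on the root elements of the next).
-/
import Cfsg.Agent.Lib.Helper69.TwOut.E6Defs
import Cfsg.Agent.Lib.Helper18.Tw16

set_option autoImplicit false
set_option linter.unusedSectionVars false
set_option maxRecDepth 1000000

namespace Cfsg.Agent.Lib.Helper69.TwOut

open Cfsg Cfsg.Lie Cfsg.Agent.Lib.Helper18 Cfsg.Agent.Lib.Helper17 Cfsg.Agent.Lib.Helper91.TwOut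

universe u

variable {K : Type u} [Field K] (φ : K ≃+* K)

theorem conj_mul2 {G : Type*} [Group G] (n a b : G) :
    n * (a * b) * n⁻¹ = (n * a * n⁻¹) * (n * b * n⁻¹) := by group

theorem conj_conj {G : Type*} [Group G] (h k a : G) :
    (h * k) * a * (h * k)⁻¹ = h * (k * a * k⁻¹) * h⁻¹ := by group

/-- `h_{[0,5]}(u)` acts on `x_{[2,4]}(s)` by `u⁻¹`. -/
theorem cross_E6_10 (u : K) (hu0 : u ≠ 0) (s : K) :
    (hPt hE6 chevData_E6.{u} 0 u * hPt hE6 chevData_E6.{u} 5 (φ u)) * xcls hE6 twCfg_E6 φ 42 s *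
      (hPt hE6 chevData_E6.{u} 0 u * hPt hE6 chevData_E6.{u} 5 (φ u))⁻¹ = xcls hE6 twCfg_E6 φ 42 (u⁻¹ * s) := by
  have hφu0 : φ u ≠ 0 := by
    intro h
    exact hu0 (by simpa using h)
  have c1 : chevE6.cartan 0 42 = -1 := by decide
  have c2 : chevE6.cartan 0 37 = 0 := by decide
  have c3 : chevE6.cartan 5 42 = 0 := by decide
  have c4 : chevE6.cartan 5 37 = -1 := by decide
  have e1 : hPt hE6 chevData_E6.{u} 5 (φ u) * (xG hE6 42 s * xG hE6 37 (φ s)) * (hPt hE6 chevData_E6.{u} 5 (φ u))⁻¹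
      = xG hE6 42 s * xG hE6 37 (φ (u⁻¹ * s)) := by
    rw [conj_mul2 (hPt hE6 chevData_E6.{u} 5 (φ u)),
      hPt_conj_xG hE6 chevData_E6.{u} 5 (by decide) (φ u) hφu0 42 (by decide),
      hPt_conj_xG hE6 chevData_E6.{u} 5 (by decide) (φ u) hφu0 37 (by decide), c3, c4]
    simp only [zpow_neg, zpow_one, zpow_zero, one_mul, map_mul, map_inv₀]
  have e2 : hPt hE6 chevData_E6.{u} 0 u * (xG hE6 42 s * xG hE6 37 (φ (u⁻¹ * s))) * (hPt hE6 chevData_E6.{u} 0 u)⁻¹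
      = xG hE6 42 (u⁻¹ * s) * xG hE6 37 (φ (u⁻¹ * s)) := by
    rw [conj_mul2 (hPt hE6 chevData_E6.{u} 0 u),
      hPt_conj_xG hE6 chevData_E6.{u} 0 (by decide) u hu0 42 (by decide),
      hPt_conj_xG hE6 chevData_E6.{u} 0 (by decide) u hu0 37 (by decide), c1, c2]
    simp only [zpow_neg, zpow_one, zpow_zero, one_mul]
  rw [xcls_42, xcls_42, conj_conj, e1, e2]

/-- `h_{[3]}(u)` (`u` fixed) acts on `x_{[2,4]}(s)` by `u⁻¹`. -/
theorem cross_E6_12 (u : K) (hu : φ u = u) (hu0 : u ≠ 0) (s : K) :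
    hPt hE6 chevData_E6.{u} 3 u * xcls hE6 twCfg_E6 φ 42 s * (hPt hE6 chevData_E6.{u} 3 u)⁻¹
      = xcls hE6 twCfg_E6 φ 42 (u⁻¹ * s) := by
  rw [xcls_42, xcls_42, conj_mul2,
    hPt_conj_xG hE6 chevData_E6.{u} 3 (by decide) u hu0 42 (by decide),
    hPt_conj_xG hE6 chevData_E6.{u} 3 (by decide) u hu0 37 (by decide)]
  have c1 : chevE6.cartan 3 42 = -1 := by decide
  have c2 : chevE6.cartan 3 37 = -1 := by decide
  rw [c1, c2]
  simp only [zpow_neg, zpow_one, map_mul, map_inv₀, hu]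

/-- `h_{[1]}(u)` acts on `x_{[3]}(s)` by `u⁻¹`. -/
theorem cross_E6_23 (u : K) (hu0 : u ≠ 0) (s : K) :
    hPt hE6 chevData_E6.{u} 1 u * xcls hE6 twCfg_E6 φ 39 s * (hPt hE6 chevData_E6.{u} 1 u)⁻¹
      = xcls hE6 twCfg_E6 φ 39 (u⁻¹ * s) := by
  rw [xcls_39, xcls_39, hPt_conj_xG hE6 chevData_E6.{u} 1 (by decide) u hu0 39 (by decide)]
  have c1 : chevE6.cartan 1 39 = -1 := by decide
  rw [c1]
  simp only [zpow_neg, zpow_one]

end Cfsg.Agent.Lib.Helper69.TwOut
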