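/-
helper69: project TWOUT: automorphisms of a twisted group of helper18's machine induced by automorphisms of `GL`
(entrywise field automorphisms, conjugation by the diagonal matrix of a character compatible with the twisting),
generically in the configuration.
-/
import Cfsg.Agent.Lib.Helper69.TwOut.D4Field
import Cfsg.Agent.Lib.Helper69.TwOut.TwSplit
import Cfsg.Agent.Lib.Helper69.Aut.Diag

set_option autoImplicit false
set_option linter.unusedSectionVars false

namespace Cfsg.Agent.Lib.Helper69.TwOut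

open Cfsg Cfsg.Lie Cfsg.Agent.Lib.Helper18 Cfsg.Agent.Lib.Helper17 Cfsg.Agent.Lib.Helper91.TwOut
open Cfsg.Agent.Lib.Helper69.Aut

universe u

/-- An automorphism of a group fixing a subgroup restricts to it, and the restriction fixes the traces of the fixed
subgroups. -/
theorem exists_restrict {Γ : Type*} [Group Γ] (Θ : Γ ≃* Γ) (G : Subgroup Γ)
    (hG : G.map Θ.toMonoidHom = G) :
    ∃ θ : ↥G ≃* ↥G, (∀ g : ↥G, ((θ g : ↥G) : Γ) = Θ g) ∧
      ∀ W : Subgroup Γ, W.map Θ.toMonoidHom = W → (W.subgroupOf G).map θ.toMonoidHom = W.subgroupOf G := by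
  let θ : ↥G ≃* ↥G := (Θ.subgroupMap G).trans (MulEquiv.subgroupCongr hG)
  have hθ : ∀ g : ↥G, ((θ g : ↥G) : Γ) = Θ g := fun g => rfl
  refine ⟨θ, hθ, ?_⟩
  intro W hW
  ext g
  rw [Subgroup.mem_map, Subgroup.mem_subgroupOf]
  constructor
  · rintro ⟨x, hx, rfl⟩
    show ((θ x : ↥G) : Γ) ∈ W
    rw [hθ, ← hW]
    exact Subgroup.mem_map_of_mem _ (Subgroup.mem_subgroupOf.mp hx)
  · intro hg
    rw [← hW] at hg
    obtain ⟨y, hy, hyg⟩ := hg
    refine ⟨θ.symm g, ?_, θ.apply_symm_apply g⟩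
    rw [Subgroup.mem_subgroupOf]
    have h1 : Θ ((θ.symm g : ↥G) : Γ) = (g : Γ) := by
      rw [← hθ, θ.apply_symm_apply]
    have h2 : ((θ.symm g : ↥G) : Γ) = y := Θ.injective (h1.trans hyg.symm)
    rw [h2]
    exact hy

variable {K : Type u} [Field K] {D : ChevalleyDatum}
  (hD : D ∈ [chevG2, chevB2, chevD4, chevF4, chevE6, chevE7, chevE8]) (C : ChevData.{u} D)
  (cfg : TwCfg) (φ : K ≃+* K)

include hD in
/-- The field automorphisms commuting with the twisting induce automorphisms of the twisted group fixing `U¹`, `V¹`. -/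
theorem exists_fieldAut_gen (τ : K ≃+* K) (hcomm : ∀ a : K, τ (φ a) = φ (τ a)) :
    ∃ θ : ↥(Gtw hD C cfg φ) ≃* ↥(Gtw hD C cfg φ),
      (∀ g : ↥(Gtw hD C cfg φ), ((θ g : ↥(Gtw hD C cfg φ)) : GL D.Idx K) =
        Cfsg.Agent.S1080.glMap D τ (g : GL D.Idx K)) ∧
      (UTw hD C cfg φ).map θ.toMonoidHom = UTw hD C cfg φ ∧
      (VTw hD C cfg φ).map θ.toMonoidHom = VTw hD C cfg φ := by
  obtain ⟨θ, h1, h2⟩ := exists_restrict (Cfsg.Agent.S1080.glMap D τ) (Gtw hD C cfg φ)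
    (glMap_Gtw hD C cfg φ τ hcomm)
  exact ⟨θ, h1, h2 _ (glMap_posUnipotent hD τ), h2 _ (glMap_negUnipotent hD τ)⟩

section Diag

variable (χ : ℕ → Kˣ) (hχ : D.IsRootCharacter χ)

include hD hχ in
/-- Conjugation by the diagonal matrix of a character fixes the subgroups generated by root subgroups. -/
theorem conj_charUnit_closure_roots (P : ℕ → Prop) (hP : ∀ r, P r → r < D.nroots) :
    (Subgroup.closure {g : GL D.Idx K | ∃ (r : ℕ) (t : K), P r ∧ (g : Matrix D.Idx D.Idx K) = D.x K r t}).map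
      (MulAut.conj (charUnit D χ)).toMonoidHom =
    Subgroup.closure {g : GL D.Idx K | ∃ (r : ℕ) (t : K), P r ∧ (g : Matrix D.Idx D.Idx K) = D.x K r t} := by
  rw [MonoidHom.map_closure]
  congr 1
  ext g
  simp only [Set.mem_image, Set.mem_ofPred_eq]
  constructor
  · rintro ⟨g', ⟨r, t, hr, hg'⟩, rfl⟩
    refine ⟨r, (χ r : K) * t, hr, ?_⟩
    have : g' = xG hD r t := eq_xG hD g' r t hg'
    rw [this]
    show ((charUnit D χ * xG hD r t * (charUnit D χ)⁻¹ : GL D.Idx K) : Matrix D.Idx D.Idx K) = _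
    rw [conj_charUnit_xG hD χ hχ r (hP r hr) t, coe_xG]
  · rintro ⟨r, t, hr, hg⟩
    have : g = xG hD r t := eq_xG hD g r t hg
    refine ⟨xG hD r (((χ r)⁻¹ : Kˣ) * t), ⟨r, _, hr, coe_xG hD r _⟩, ?_⟩
    show charUnit D χ * xG hD r (((χ r)⁻¹ : Kˣ) * t) * (charUnit D χ)⁻¹ = g
    rw [conj_charUnit_xG hD χ hχ r (hP r hr), this, ← mul_assoc]
    congr 1
    rw [← Units.val_mul, mul_inv_cancel, Units.val_one, one_mul]

include hD hχ in
theorem conj_charUnit_posUnipotent :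
    (D.posUnipotent K).map (MulAut.conj (charUnit D χ)).toMonoidHom = D.posUnipotent K :=
  conj_charUnit_closure_roots hD χ hχ D.IsPosRoot (fun _ h => h.1)

include hD hχ in
theorem conj_charUnit_negUnipotent :
    (D.negUnipotent K).map (MulAut.conj (charUnit D χ)).toMonoidHom = D.negUnipotent K :=
  conj_charUnit_closure_roots hD χ hχ D.IsNegRoot (fun _ h => h.1)

include hD hχ in
theorem conj_charUnit_prodL (l : List ℕ) (hl : ∀ r ∈ l, r < D.nroots) (c : ℕ → K) :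
    charUnit D χ * prodL hD l c * (charUnit D χ)⁻¹ = prodL hD l (fun r => (χ r : K) * c r) := by
  induction l with
  | nil => simp [prodL_nil]
  | cons a l ih =>
    rw [prodL_cons, prodL_cons, ← ih fun r hr => hl r (List.mem_cons_of_mem _ hr),
      ← conj_charUnit_xG hD χ hχ a (hl a List.mem_cons_self)]
    group

variable (hcfg : cfg.ok C.T C.tabs C.simples = true)

include hD hχ hcfg in
theorem conj_charUnit_twGenSet_subset
    (hχtw : ∀ s ∈ cfg.genRoots C.T, ∀ r ∈ cfg.g.orb cfg.m s, (χ r : K) = φ (χ (cfg.g.rho^[cfg.m - 1] r) : K))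
    (x : GL D.Idx K) (hx : x ∈ twGenSet hD C cfg φ) :
    charUnit D χ * x * (charUnit D χ)⁻¹ ∈ twGenSet hD C cfg φ := by
  obtain ⟨s, hs, c, hc, rfl⟩ := hx
  have hTw := cfg_twOK C cfg hcfg
  have hm := cfg_m C cfg hcfg
  have hslt : s < D.nroots := genRoots_lt C cfg hcfg s hs
  have horb_lt : ∀ r ∈ cfg.g.orb cfg.m s, r < D.nroots := by
    intro r hr
    obtain ⟨j, rfl⟩ := (mem_orb_iff C cfg.g cfg.m hTw hm s hslt r).mp hr
    exact rho_iterate_lt C cfg.g cfg.m hTw s hslt j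
  refine ⟨s, hs, fun r => (χ r : K) * c r, ?_, conj_charUnit_prodL hD χ hχ _ horb_lt c⟩
  intro r hr
  show (χ r : K) * c r = twT cfg.g φ cfg.m (fun r => (χ r : K) * c r) r
  rw [hc r hr]
  unfold twT
  rw [map_mul, ← hχtw s hs r hr]
  ring

include hD hχ hcfg in
/-- Conjugation by the diagonal matrix of a character compatible with the twisting fixes the twisted group. -/
theorem conj_charUnit_Gtw
    (hχtw : ∀ s ∈ cfg.genRoots C.T, ∀ r ∈ cfg.g.orb cfg.m s, (χ r : K) = φ (χ (cfg.g.rho^[cfg.m - 1] r) : K)) :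
    (Gtw hD C cfg φ).map (MulAut.conj (charUnit D χ)).toMonoidHom = Gtw hD C cfg φ := by
  have hχ' := isRootCharacter_inv χ hχ
  have hχtw' : ∀ s ∈ cfg.genRoots C.T, ∀ r ∈ cfg.g.orb cfg.m s,
      (((χ r)⁻¹ : Kˣ) : K) = φ (((χ (cfg.g.rho^[cfg.m - 1] r))⁻¹ : Kˣ) : K) := by
    intro s hs r hr
    rw [Units.val_inv_eq_inv_val, Units.val_inv_eq_inv_val, map_inv₀, ← hχtw s hs r hr]
  unfold Gtw
  rw [MonoidHom.map_closure]
  congr 1
  ext g
  simp only [Set.mem_image]
  constructor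
  · rintro ⟨g', hg', rfl⟩
    exact conj_charUnit_twGenSet_subset hD C cfg φ χ hχ hcfg hχtw g' hg'
  · intro hg
    refine ⟨(charUnit D χ)⁻¹ * g * charUnit D χ, ?_, ?_⟩
    · have := conj_charUnit_twGenSet_subset hD C cfg φ _ hχ' hcfg hχtw' g hg
      rw [← charUnit_inv, inv_inv] at this
      exact this
    · show charUnit D χ * ((charUnit D χ)⁻¹ * g * charUnit D χ) * (charUnit D χ)⁻¹ = g
      group

include hD hχ hcfg in
/-- The diagonal automorphism of the twisted group attached to a character compatible with the twisting. -/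
theorem exists_diagAut_gen
    (hχtw : ∀ s ∈ cfg.genRoots C.T, ∀ r ∈ cfg.g.orb cfg.m s, (χ r : K) = φ (χ (cfg.g.rho^[cfg.m - 1] r) : K)) :
    ∃ θ : ↥(Gtw hD C cfg φ) ≃* ↥(Gtw hD C cfg φ),
      (∀ g : ↥(Gtw hD C cfg φ), ((θ g : ↥(Gtw hD C cfg φ)) : GL D.Idx K) =
        charUnit D χ * (g : GL D.Idx K) * (charUnit D χ)⁻¹) ∧
      (UTw hD C cfg φ).map θ.toMonoidHom = UTw hD C cfg φ ∧
      (VTw hD C cfg φ).map θ.toMonoidHom = VTw hD C cfg φ := by
  obtain ⟨θ, h1, h2⟩ := exists_restrict (MulAut.conj (charUnit D χ)) (Gtw hD C cfg φ)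
    (conj_charUnit_Gtw hD C cfg φ χ hχ hcfg hχtw)
  exact ⟨θ, h1, h2 _ (conj_charUnit_posUnipotent hD χ hχ), h2 _ (conj_charUnit_negUnipotent hD χ hχ)⟩

end Diag

end Cfsg.Agent.Lib.Helper69.TwOut
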