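/-
helper69: project TWOUT, `²E₆`: the diagonal automorphisms: for all values `c₀, c₁ ∈ Kˣ`, `c₂, c₃ ∈ K₀ˣ` there is an
automorphism of `²E₆` fixing `U¹`, `V¹` and scaling the root elements of the four classes by `c₀, c₁, c₂, c₃`;
the field automorphisms.
-/
import Cfsg.Agent.Lib.Helper69.TwOut.E6Defs
import Cfsg.Agent.Lib.Helper69.TwOut.TwAutGen

set_option autoImplicit false
set_option linter.unusedSectionVars false
set_option maxRecDepth 1000000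

namespace Cfsg.Agent.Lib.Helper69.TwOut

open Cfsg Cfsg.Lie Cfsg.Agent.Lib.Helper18 Cfsg.Agent.Lib.Helper17 Cfsg.Agent.Lib.Helper91.TwOut
open Cfsg.Agent.Lib.Helper69.Aut

universe u

theorem conj_mul2G {G : Type*} [Group G] (n a b : G) :
    n * (a * b) * n⁻¹ = (n * a * n⁻¹) * (n * b * n⁻¹) := by group

variable {K : Type u} [Field K] (φ : K ≃+* K)

/-- The permutation of the fundamental roots of `E₆` induced by the graph automorphism. -/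
def sigE6 (i : Fin 6) : Fin 6 := ![5, 1, 4, 3, 2, 0] i

theorem rho_simple_E6 (i : Fin 6) :
    twCfg_E6.g.rho (chevE6.simple i) = chevE6.simple (sigE6 i) ∧
    twCfg_E6.g.rho (chevE6.neg (chevE6.simple i)) = chevE6.neg (chevE6.simple (sigE6 i)) := by
  fin_cases i <;> decide

theorem orb_genRoots_E6 : ∀ s ∈ twCfg_E6.genRoots chevData_E6.{u}.T, ∀ r ∈ twCfg_E6.g.orb twCfg_E6.m s,
    ∃ i : Fin 6, r = chevE6.simple i ∨ r = chevE6.neg (chevE6.simple i) := by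
  rw [genRoots_E6]
  decide

/-- The values of the character on the fundamental roots. -/
def cvecE6 (c0 c1 c2 c3 : Kˣ) (i : Fin 6) : Kˣ :=
  ![c0, c3, c1, c2, Units.map (φ : K →* K) c1, Units.map (φ : K →* K) c0] i

theorem cvecE6_tw (hφ2 : ∀ a : K, φ (φ a) = a) (c0 c1 c2 c3 : Kˣ) (h2 : φ (c2 : K) = c2) (h3 : φ (c3 : K) = c3)
    (i : Fin 6) : ((cvecE6 φ c0 c1 c2 c3 i : Kˣ) : K) = φ ((cvecE6 φ c0 c1 c2 c3 (sigE6 i) : Kˣ) : K) := by
  fin_cases i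
  · show (c0 : K) = φ (φ (c0 : K))
    rw [hφ2]
  · show (c3 : K) = φ (c3 : K)
    rw [h3]
  · show (c1 : K) = φ (φ (c1 : K))
    rw [hφ2]
  · show (c2 : K) = φ (c2 : K)
    rw [h2]
  · show φ (c1 : K) = φ (c1 : K)
    rfl
  · show φ (c0 : K) = φ (c0 : K)
    rfl

/-- The diagonal automorphisms of `²E₆`. -/
theorem exists_diag_E6 (hφ2 : ∀ a : K, φ (φ a) = a) (c0 c1 c2 c3 : Kˣ) (h2 : φ (c2 : K) = c2)
    (h3 : φ (c3 : K) = c3) :
    ∃ (z : GL chevE6.Idx K) (θ : ↥(GE6 φ) ≃* ↥(GE6 φ)),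
      (∀ g : ↥(GE6 φ), ((θ g : ↥(GE6 φ)) : GL chevE6.Idx K) = z * (g : GL chevE6.Idx K) * z⁻¹) ∧
      (UTw hE6 chevData_E6.{u} twCfg_E6 φ).map θ.toMonoidHom = UTw hE6 chevData_E6.{u} twCfg_E6 φ ∧
      (VTw hE6 chevData_E6.{u} twCfg_E6 φ).map θ.toMonoidHom = VTw hE6 chevData_E6.{u} twCfg_E6 φ ∧
      (∀ t : K, z * xcls hE6 twCfg_E6 φ 56 t * z⁻¹ = xcls hE6 twCfg_E6 φ 56 ((c0 : K) * t)) ∧
      (∀ t : K, z * xcls hE6 twCfg_E6 φ 42 t * z⁻¹ = xcls hE6 twCfg_E6 φ 42 ((c1 : K) * t)) ∧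
      (∀ t : K, z * xcls hE6 twCfg_E6 φ 39 t * z⁻¹ = xcls hE6 twCfg_E6 φ 39 ((c2 : K) * t)) ∧
      (∀ t : K, z * xcls hE6 twCfg_E6 φ 46 t * z⁻¹ = xcls hE6 twCfg_E6 φ 46 ((c3 : K) * t)) := by
  obtain ⟨m, hm⟩ := exists_rootCoords chevE6 hE6
  set cv : Fin chevE6.rank → Kˣ := cvecE6 φ c0 c1 c2 c3 with hcv
  set χ : ℕ → Kˣ := chiOf chevE6 m cv with hχdef
  have hχ : chevE6.IsRootCharacter χ := isRootCharacter_chiOf (F := K) m hm cv
  have hs : ∀ i : Fin 6, χ (chevE6.simple i) = cv i := fun i => chiOf_simple (F := K) m hm cv i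
  have hn : ∀ i : Fin 6, χ (chevE6.neg (chevE6.simple i)) = (cv i)⁻¹ := by
    intro i
    rw [hχ.1 _ (chevData_E6.{u}.simple_lt i i.isLt), hs]
  have hχtw : ∀ s ∈ twCfg_E6.genRoots chevData_E6.{u}.T, ∀ r ∈ twCfg_E6.g.orb twCfg_E6.m s,
      (χ r : K) = φ (χ (twCfg_E6.g.rho^[twCfg_E6.m - 1] r) : K) := by
    intro s hs' r hr
    have e : twCfg_E6.g.rho^[twCfg_E6.m - 1] r = twCfg_E6.g.rho r := rfl
    rw [e]
    obtain ⟨i, rfl | rfl⟩ := orb_genRoots_E6 s hs' r hr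
    · rw [(rho_simple_E6 i).1, hs, hs]
      exact cvecE6_tw φ hφ2 c0 c1 c2 c3 h2 h3 i
    · rw [(rho_simple_E6 i).2, hn, hn, Units.val_inv_eq_inv_val, Units.val_inv_eq_inv_val, map_inv₀]
      congr 1
      exact cvecE6_tw φ hφ2 c0 c1 c2 c3 h2 h3 i
  obtain ⟨θ, hθ, hU, hV⟩ := exists_diagAut_gen hE6 chevData_E6.{u} twCfg_E6 φ χ hχ twCfg_E6_ok' hχtw
  have hconj := conj_charUnit_xG (F := K) hE6 χ hχ
  have v56 : χ 56 = c0 := hs 0
  have v36 : χ 36 = Units.map (φ : K →* K) c0 := hs 5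
  have v42 : χ 42 = c1 := hs 2
  have v37 : χ 37 = Units.map (φ : K →* K) c1 := hs 4
  have v39 : χ 39 = c2 := hs 3
  have v46 : χ 46 = c3 := hs 1
  refine ⟨charUnit chevE6 χ, θ, hθ, hU, hV, fun t => ?_, fun t => ?_, fun t => ?_, fun t => ?_⟩
  · rw [xcls_56, xcls_56, conj_mul2G, hconj 56 (by decide), hconj 36 (by decide), v56, v36, map_mul]
    rfl
  · rw [xcls_42, xcls_42, conj_mul2G, hconj 42 (by decide), hconj 37 (by decide), v42, v37, map_mul]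
    rfl
  · rw [xcls_39, xcls_39, hconj 39 (by decide), v39]
  · rw [xcls_46, xcls_46, hconj 46 (by decide), v46]

end Cfsg.Agent.Lib.Helper69.TwOut
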