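/-
helper69: project TWOUT, `²E₆`: the homomorphisms `SL₂(K) → ²E₆` (classes `[0,5]`, `[2,4]`) and
`SL₂(K₀) → ²E₆` (classes `[3]`, `[1]`; `K₀` the fixed field) of the four classes of fundamental roots.
-/
import Cfsg.Agent.Lib.Helper69.TwOut.E6Defs
import Cfsg.Agent.Lib.Helper69.TwOut.D4SL2A
import Cfsg.Agent.Lib.Helper1.TwOutSL2
import Cfsg.Agent.Lib.Helper18.Tw16

set_option autoImplicit false
set_option linter.unusedSectionVars false
set_option maxRecDepth 1000000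

namespace Cfsg.Agent.Lib.Helper69.TwOut

open Cfsg Cfsg.Lie Cfsg.Agent.Lib.Helper18 Cfsg.Agent.Lib.Helper17 Cfsg.Agent.Lib.Helper91.TwOut
open Cfsg.Agent.Lib.Helper17.SL2Pres Cfsg.Agent.Lib.Helper17.ChevSL2 Cfsg.Agent.Lib.Helper19.NatSL2

universe u

/-- The product of two homomorphisms with commuting images. -/
def prod2 {M P : Type*} [Monoid M] [Monoid P] (f₁ f₂ : M →* P) (h12 : ∀ a b, Commute (f₁ a) (f₂ b)) :
    M →* P where
  toFun a := f₁ a * f₂ a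
  map_one' := by simp
  map_mul' a b := by
    rw [map_mul, map_mul]
    exact (h12 b a).mul_mul_mul_comm (f₁ a) (f₂ b)

/-- The value of a homomorphism from `SL₂` on the torus element, from its values on the unipotent elements. -/
theorem map_hd_eq' {F : Type*} [Field F] {G : Type*} [Group G] (Φ : Matrix.SpecialLinearGroup (Fin 2) F →* G)
    (t : Fˣ) :
    Φ (hd t) = Φ (sx (t : F)) * Φ (sy (-((t⁻¹ : Fˣ) : F))) * Φ (sx (t : F)) *
      (Φ (sx 1) * Φ (sy (-1)) * Φ (sx 1))⁻¹ := by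
  obtain ⟨-, -, h3, h4, -, -⟩ := Cfsg.Agent.Lib.Helper1.TwOut.sl2_relations (F := F)
  rw [← h4 t, ← h3 t, map_mul, map_inv, map_mul, map_mul, ← h3 1, map_mul, map_mul]
  simp

theorem map_hd {F F' : Type*} [Field F] [Field F'] (f : F →+* F') (t : Fˣ) :
    Matrix.SpecialLinearGroup.map f (hd t) = hd (Units.map (f : F →* F') t) := by
  apply Subtype.ext
  ext i j
  show (f.mapMatrix !![(t : F), 0; 0, ((t⁻¹ : Fˣ) : F)]) i j =
    !![((Units.map (f : F →* F') t : F'ˣ) : F'), 0; 0, (((Units.map (f : F →* F') t)⁻¹ : F'ˣ) : F')] i j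
  fin_cases i <;> fin_cases j <;> simp [RingHom.mapMatrix_apply]

/-- The value of the homomorphism of a root on the torus element. -/
theorem hom_root_hd {K : Type u} [Field K] {D : ChevalleyDatum}
    (hD : D ∈ [chevG2, chevB2, chevD4, chevF4, chevE6, chevE7, chevE8]) (C : ChevData.{u} D)
    (ψ : Matrix.SpecialLinearGroup (Fin 2) K →* GL D.Idx K) (i : ℕ) (hi : i < D.rank)
    (hx : ∀ t, ψ (uu t) = xG hD (D.simple i) t) (hy : ∀ t, ψ (yy t) = xG hD (D.neg (D.simple i)) t) (u : Kˣ) :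
    ψ (hd u) = hPt hD C i (u : K) := by
  rw [map_hd_eq' ψ u]
  simp only [sx_eq_uu, sy_eq_yy, hx, hy]
  unfold hPt
  rw [sG_eq hD C i hi]
  unfold nPt
  simp

variable {K : Type u} [Field K] [Fintype K] (φ : K ≃+* K)

/-- The homomorphism of a class of two fundamental roots `p_i, p_j` (`ρ p_i = p_j`). -/
theorem exists_Phi_pair_E6 (hφ2 : ∀ a : K, φ (φ a) = a) (k i j : ℕ) (hk : k < twCfg_E6.classes.length)
    (hi : i ∈ twCfg_E6.classes.getD k []) (hj : j ∈ twCfg_E6.classes.getD k []) (hne : i ≠ j)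
    (hi6 : i < chevE6.rank) (hj6 : j < chevE6.rank)
    (hρ : twCfg_E6.g.rho (chevE6.simple i) = chevE6.simple j)
    (hρ' : twCfg_E6.g.rho (chevE6.neg (chevE6.simple i)) = chevE6.neg (chevE6.simple j))
    (hne1 : twCfg_E6.g.rho (chevE6.simple i) ≠ chevE6.simple i)
    (hne2 : twCfg_E6.g.rho (chevE6.neg (chevE6.simple i)) ≠ chevE6.neg (chevE6.simple i))
    (hg1 : twCfg_E6.g.gam (chevE6.simple i) = 1) (hg2 : twCfg_E6.g.gam (chevE6.neg (chevE6.simple i)) = 1)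
    (hm1 : chevE6.simple i ∈ twCfg_E6.genRoots chevData_E6.{u}.T)
    (hm2 : chevE6.neg (chevE6.simple i) ∈ twCfg_E6.genRoots chevData_E6.{u}.T) :
    ∃ Φ : Matrix.SpecialLinearGroup (Fin 2) K →* ↥(GE6 φ),
      (∀ t : K, ((Φ (sx t) : ↥(GE6 φ)) : GL chevE6.Idx K) = xcls hE6 twCfg_E6 φ (chevE6.simple i) t) ∧
      (∀ t : K, ((Φ (sy t) : ↥(GE6 φ)) : GL chevE6.Idx K) =
        xcls hE6 twCfg_E6 φ (chevE6.neg (chevE6.simple i)) t) ∧
      (∀ v : Kˣ, ((Φ (hd v) : ↥(GE6 φ)) : GL chevE6.Idx K) =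
        hPt hE6 chevData_E6.{u} i (v : K) * hPt hE6 chevData_E6.{u} j (φ (v : K))) := by
  obtain ⟨ψi, hix, hiy⟩ := exists_hom_root (F := K) chevE6 hE6 (chevE6.simple i)
    (chevData_E6.{u}.simple_lt i hi6)
  obtain ⟨ψj, hjx, hjy⟩ := exists_hom_root (F := K) chevE6 hE6 (chevE6.simple j)
    (chevData_E6.{u}.simple_lt j hj6)
  have cij : ∀ A B, Commute (ψi A) (ψj B) := fun A B =>
    class_commute hE6 chevData_E6.{u} twCfg_E6 twCfg_E6_ok' k hk i j hi hj hne _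
      (hom_mem_closure ψi _ _ hix hiy A) _ (hom_mem_closure ψj _ _ hjx hjy B)
  let f1 : K →+* K := (φ : K →+* K)
  let Ψ : Matrix.SpecialLinearGroup (Fin 2) K →* GL chevE6.Idx K :=
    prod2 ψi (ψj.comp (Matrix.SpecialLinearGroup.map f1)) (fun A B => cij A _)
  have hΨx : ∀ t : K, Ψ (sx t) = xcls hE6 twCfg_E6 φ (chevE6.simple i) t := by
    intro t
    show ψi (sx t) * ψj (Matrix.SpecialLinearGroup.map f1 (sx t)) = _
    rw [map_sx, sx_eq_uu, sx_eq_uu, hix, hjx, xcls_pair_E6 φ _ hne1 hg1, hρ]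
    rfl
  have hΨy : ∀ t : K, Ψ (sy t) = xcls hE6 twCfg_E6 φ (chevE6.neg (chevE6.simple i)) t := by
    intro t
    show ψi (sy t) * ψj (Matrix.SpecialLinearGroup.map f1 (sy t)) = _
    rw [map_sy, sy_eq_yy, sy_eq_yy, hiy, hjy, xcls_pair_E6 φ _ hne2 hg2, hρ']
    rfl
  have hmem : ∀ A, Ψ A ∈ GE6 φ := fun A =>
    hom_mem_of_gens Ψ (GE6 φ)
      (fun t => by
        rw [hΨx]
        exact xcls_mem hE6 chevData_E6.{u} twCfg_E6 φ twCfg_E6_ok' (hφm_E6 φ hφ2) _ hm1 t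
          (fun h => absurd h hne1))
      (fun t => by
        rw [hΨy]
        exact xcls_mem hE6 chevData_E6.{u} twCfg_E6 φ twCfg_E6_ok' (hφm_E6 φ hφ2) _ hm2 t
          (fun h => absurd h hne2)) A
  refine ⟨Ψ.codRestrict (GE6 φ) hmem, fun t => hΨx t, fun t => hΨy t, fun v => ?_⟩
  show ψi (hd v) * ψj (Matrix.SpecialLinearGroup.map f1 (hd v)) = _
  rw [map_hd, hom_root_hd hE6 chevData_E6.{u} ψi i hi6 hix hiy, hom_root_hd hE6 chevData_E6.{u} ψj j hj6 hjx hjy]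
  rfl

/-- The homomorphism of a class of one fundamental root `p_i` (`ρ p_i = p_i`). -/
theorem exists_Phi_fixed_E6 (hφ2 : ∀ a : K, φ (φ a) = a) (i : ℕ) (hi6 : i < chevE6.rank)
    (hρ : twCfg_E6.g.rho (chevE6.simple i) = chevE6.simple i)
    (hρ' : twCfg_E6.g.rho (chevE6.neg (chevE6.simple i)) = chevE6.neg (chevE6.simple i))
    (hm1 : chevE6.simple i ∈ twCfg_E6.genRoots chevData_E6.{u}.T)
    (hm2 : chevE6.neg (chevE6.simple i) ∈ twCfg_E6.genRoots chevData_E6.{u}.T) :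
    ∃ Φ : Matrix.SpecialLinearGroup (Fin 2) ↥(fixField φ) →* ↥(GE6 φ),
      (∀ v : ↥(fixField φ), ((Φ (sx v) : ↥(GE6 φ)) : GL chevE6.Idx K) =
        xcls hE6 twCfg_E6 φ (chevE6.simple i) (v : K)) ∧
      (∀ v : ↥(fixField φ), ((Φ (sy v) : ↥(GE6 φ)) : GL chevE6.Idx K) =
        xcls hE6 twCfg_E6 φ (chevE6.neg (chevE6.simple i)) (v : K)) ∧
      (∀ v : (↥(fixField φ))ˣ, ((Φ (hd v) : ↥(GE6 φ)) : GL chevE6.Idx K) =
        hPt hE6 chevData_E6.{u} i (((v : ↥(fixField φ)) : K))) := by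
  obtain ⟨ψ, hx, hy⟩ := exists_hom_root (F := K) chevE6 hE6 (chevE6.simple i)
    (chevData_E6.{u}.simple_lt i hi6)
  let Ψ : Matrix.SpecialLinearGroup (Fin 2) ↥(fixField φ) →* GL chevE6.Idx K :=
    ψ.comp (Matrix.SpecialLinearGroup.map (fixField φ).subtype)
  have hΨx : ∀ v : ↥(fixField φ), Ψ (sx v) = xcls hE6 twCfg_E6 φ (chevE6.simple i) (v : K) := by
    intro v
    show ψ (Matrix.SpecialLinearGroup.map (fixField φ).subtype (sx v)) = _
    rw [map_sx, sx_eq_uu, hx, xcls_fixed_E6 φ _ hρ]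
    rfl
  have hΨy : ∀ v : ↥(fixField φ), Ψ (sy v) = xcls hE6 twCfg_E6 φ (chevE6.neg (chevE6.simple i)) (v : K) := by
    intro v
    show ψ (Matrix.SpecialLinearGroup.map (fixField φ).subtype (sy v)) = _
    rw [map_sy, sy_eq_yy, hy, xcls_fixed_E6 φ _ hρ']
    rfl
  have hmem : ∀ A, Ψ A ∈ GE6 φ := fun A =>
    hom_mem_of_gens Ψ (GE6 φ)
      (fun v => by
        rw [hΨx]
        exact xcls_mem hE6 chevData_E6.{u} twCfg_E6 φ twCfg_E6_ok' (hφm_E6 φ hφ2) _ hm1 _ (fun _ => v.2))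
      (fun v => by
        rw [hΨy]
        exact xcls_mem hE6 chevData_E6.{u} twCfg_E6 φ twCfg_E6_ok' (hφm_E6 φ hφ2) _ hm2 _ (fun _ => v.2)) A
  refine ⟨Ψ.codRestrict (GE6 φ) hmem, fun v => hΨx v, fun v => hΨy v, fun v => ?_⟩
  show ψ (Matrix.SpecialLinearGroup.map (fixField φ).subtype (hd v)) = _
  rw [map_hd, hom_root_hd hE6 chevData_E6.{u} ψ i hi6 hx hy]
  rfl

theorem simple_E6 : chevE6.simple 0 = 56 ∧ chevE6.simple 5 = 36 ∧ chevE6.simple 2 = 42 ∧ chevE6.simple 4 = 37 ∧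
    chevE6.simple 3 = 39 ∧ chevE6.simple 1 = 46 := by decide

theorem neg_E6 : chevE6.neg 56 = 15 ∧ chevE6.neg 36 = 35 ∧ chevE6.neg 42 = 29 ∧ chevE6.neg 37 = 34 ∧
    chevE6.neg 39 = 32 ∧ chevE6.neg 46 = 25 := by decide

/-- The class `[0,5]`. -/
theorem exists_PhiE6_0 (hφ2 : ∀ a : K, φ (φ a) = a) :
    ∃ Φ : Matrix.SpecialLinearGroup (Fin 2) K →* ↥(GE6 φ),
      (∀ t : K, ((Φ (sx t) : ↥(GE6 φ)) : GL chevE6.Idx K) = xcls hE6 twCfg_E6 φ 56 t) ∧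
      (∀ t : K, ((Φ (sy t) : ↥(GE6 φ)) : GL chevE6.Idx K) = xcls hE6 twCfg_E6 φ 15 t) ∧
      (∀ v : Kˣ, ((Φ (hd v) : ↥(GE6 φ)) : GL chevE6.Idx K) =
        hPt hE6 chevData_E6.{u} 0 (v : K) * hPt hE6 chevData_E6.{u} 5 (φ (v : K))) := by
  have h := exists_Phi_pair_E6 φ hφ2 2 0 5 (by decide) (by decide) (by decide) (by decide) (by decide) (by decide)
    (by decide) (by decide) (by decide) (by decide) (by decide) (by decide)
    (by rw [simple_E6.1]; exact mem_genRoots_E6 56 (by simp))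
    (by rw [simple_E6.1, neg_E6.1]; exact mem_genRoots_E6 15 (by simp))
  rw [simple_E6.1, neg_E6.1] at h
  exact h

/-- The class `[2,4]`. -/
theorem exists_PhiE6_1 (hφ2 : ∀ a : K, φ (φ a) = a) :
    ∃ Φ : Matrix.SpecialLinearGroup (Fin 2) K →* ↥(GE6 φ),
      (∀ t : K, ((Φ (sx t) : ↥(GE6 φ)) : GL chevE6.Idx K) = xcls hE6 twCfg_E6 φ 42 t) ∧
      (∀ t : K, ((Φ (sy t) : ↥(GE6 φ)) : GL chevE6.Idx K) = xcls hE6 twCfg_E6 φ 29 t) ∧
      (∀ v : Kˣ, ((Φ (hd v) : ↥(GE6 φ)) : GL chevE6.Idx K) =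
        hPt hE6 chevData_E6.{u} 2 (v : K) * hPt hE6 chevData_E6.{u} 4 (φ (v : K))) := by
  have h := exists_Phi_pair_E6 φ hφ2 3 2 4 (by decide) (by decide) (by decide) (by decide) (by decide) (by decide)
    (by decide) (by decide) (by decide) (by decide) (by decide) (by decide)
    (by rw [simple_E6.2.2.1]; exact mem_genRoots_E6 42 (by simp))
    (by rw [simple_E6.2.2.1, neg_E6.2.2.1]; exact mem_genRoots_E6 29 (by simp))
  rw [simple_E6.2.2.1, neg_E6.2.2.1] at h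
  exact h

/-- The class `[3]`. -/
theorem exists_PhiE6_2 (hφ2 : ∀ a : K, φ (φ a) = a) :
    ∃ Φ : Matrix.SpecialLinearGroup (Fin 2) ↥(fixField φ) →* ↥(GE6 φ),
      (∀ v : ↥(fixField φ), ((Φ (sx v) : ↥(GE6 φ)) : GL chevE6.Idx K) = xcls hE6 twCfg_E6 φ 39 (v : K)) ∧
      (∀ v : ↥(fixField φ), ((Φ (sy v) : ↥(GE6 φ)) : GL chevE6.Idx K) = xcls hE6 twCfg_E6 φ 32 (v : K)) ∧
      (∀ v : (↥(fixField φ))ˣ, ((Φ (hd v) : ↥(GE6 φ)) : GL chevE6.Idx K) =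
        hPt hE6 chevData_E6.{u} 3 (((v : ↥(fixField φ)) : K))) := by
  have h := exists_Phi_fixed_E6 φ hφ2 3 (by decide) (by decide) (by decide)
    (by rw [simple_E6.2.2.2.2.1]; exact mem_genRoots_E6 39 (by simp))
    (by rw [simple_E6.2.2.2.2.1, neg_E6.2.2.2.2.1]; exact mem_genRoots_E6 32 (by simp))
  rw [simple_E6.2.2.2.2.1, neg_E6.2.2.2.2.1] at h
  exact h

/-- The class `[1]`. -/
theorem exists_PhiE6_3 (hφ2 : ∀ a : K, φ (φ a) = a) :
    ∃ Φ : Matrix.SpecialLinearGroup (Fin 2) ↥(fixField φ) →* ↥(GE6 φ),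
      (∀ v : ↥(fixField φ), ((Φ (sx v) : ↥(GE6 φ)) : GL chevE6.Idx K) = xcls hE6 twCfg_E6 φ 46 (v : K)) ∧
      (∀ v : ↥(fixField φ), ((Φ (sy v) : ↥(GE6 φ)) : GL chevE6.Idx K) = xcls hE6 twCfg_E6 φ 25 (v : K)) ∧
      (∀ v : (↥(fixField φ))ˣ, ((Φ (hd v) : ↥(GE6 φ)) : GL chevE6.Idx K) =
        hPt hE6 chevData_E6.{u} 1 (((v : ↥(fixField φ)) : K))) := by
  have h := exists_Phi_fixed_E6 φ hφ2 1 (by decide) (by decide) (by decide)
    (by rw [simple_E6.2.2.2.2.2]; exact mem_genRoots_E6 46 (by simp))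
    (by rw [simple_E6.2.2.2.2.2, neg_E6.2.2.2.2.2]; exact mem_genRoots_E6 25 (by simp))
  rw [simple_E6.2.2.2.2.2, neg_E6.2.2.2.2.2] at h
  exact h

end Cfsg.Agent.Lib.Helper69.TwOut
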