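/-
helper69: project TWOUT, `|Out(²E₆(q))| = 2 · gcd(3, q+1) · f`: assembly for the group `GE6 φ` of helper18's machine,
from the abstract count `card_out_rank4` and the concrete modules.
-/
import Cfsg.Agent.Lib.Helper69.TwOut.E6Split
import Cfsg.Agent.Lib.Helper69.TwOut.E6SL2
import Cfsg.Agent.Lib.Helper69.TwOut.E6Cross
import Cfsg.Agent.Lib.Helper69.TwOut.E6Comm
import Cfsg.Agent.Lib.Helper69.TwOut.E6Diag
import Cfsg.Agent.Lib.Helper69.TwOut.E6Syl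
import Cfsg.Agent.Lib.Helper69.TwOut.TwOutCount4
import Cfsg.Agent.Lib.Helper36.AutO.RingAutCard
import Cfsg.Agent.Lib.Helper18.TwTorE6

set_option autoImplicit false
set_option linter.unusedSectionVars false
set_option maxRecDepth 1000000

namespace Cfsg.Agent.Lib.Helper69.TwOut

open Cfsg Cfsg.Lie Cfsg.Agent.Lib.Helper18 Cfsg.Agent.Lib.Helper17 Cfsg.Agent.Lib.Helper91.TwOut

universe u

theorem closure_subtype_eq_top' {G : Type*} [Group G] (H : Subgroup G) (S : Set G) (hS : H = Subgroup.closure S)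
    (T : Set ↥H) (hT : ∀ g (hg : g ∈ H), g ∈ S → (⟨g, hg⟩ : ↥H) ∈ T) : Subgroup.closure T = ⊤ := by
  rw [eq_top_iff]
  rintro ⟨g, hg⟩ -
  have hg' : g ∈ Subgroup.closure S := hS ▸ hg
  have hSH : S ⊆ (H : Set G) := by
    rw [hS]
    exact Subgroup.subset_closure
  have key : ∀ x (hx : x ∈ Subgroup.closure S), ∃ hxH : x ∈ H, (⟨x, hxH⟩ : ↥H) ∈ Subgroup.closure T := by
    intro x hx
    induction hx using Subgroup.closure_induction with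
    | mem x hx => exact ⟨hSH hx, Subgroup.subset_closure (hT x (hSH hx) hx)⟩
    | one => exact ⟨one_mem _, one_mem _⟩
    | mul a b _ _ iha ihb =>
      obtain ⟨ha, ha'⟩ := iha
      obtain ⟨hb, hb'⟩ := ihb
      exact ⟨mul_mem ha hb, mul_mem ha' hb'⟩
    | inv a _ iha =>
      obtain ⟨ha, ha'⟩ := iha
      exact ⟨inv_mem ha, inv_mem ha'⟩
  obtain ⟨_, h⟩ := key g hg'
  exact h

variable {K : Type u} [Field K] [Fintype K] (φ : K ≃+* K)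

section Inj

variable (hφ2 : ∀ a : K, φ (φ a) = a)

/-- Injectivity of the positive root elements of the four classes. -/
theorem xcls_inj_E6 (k s : ℕ) (hneg : twCfg_E6.negReps chevData_E6.{u}.tabs chevE6.nroots [k] = [s])
    (hs : s ∈ [46, 39, 56, 42, 25, 32, 15, 29]) (t t' : K)
    (h : xcls hE6 twCfg_E6 φ s t = xcls hE6 twCfg_E6 φ s t') : t = t' :=
  xcls_injective hE6 chevData_E6.{u} twCfg_E6 φ twCfg_E6_ok' k s hneg t t' h
    (genRoots_lt chevData_E6.{u} twCfg_E6 twCfg_E6_ok' s (mem_genRoots_E6 s hs))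

/-- Injectivity of the negative root elements, from the conjugation formula. -/
theorem ycls_inj_E6 (k s s' : ℕ) (hneg : twCfg_E6.negReps chevData_E6.{u}.tabs chevE6.nroots [k] = [s])
    (hs : s ∈ [46, 39, 56, 42, 25, 32, 15, 29])
    (hconj : ∀ t : K, nW hE6 chevData_E6.{u} (twCfg_E6.classes.getD k []) * xcls hE6 twCfg_E6 φ s t *
      (nW hE6 chevData_E6.{u} (twCfg_E6.classes.getD k []))⁻¹ = xcls hE6 twCfg_E6 φ s' (-t))
    (t t' : K) (h : xcls hE6 twCfg_E6 φ s' t = xcls hE6 twCfg_E6 φ s' t') : t = t' := by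
  have h1 := hconj (-t)
  have h2 := hconj (-t')
  rw [neg_neg] at h1 h2
  rw [← h1, ← h2] at h
  have h3 : xcls hE6 twCfg_E6 φ s (-t) = xcls hE6 twCfg_E6 φ s (-t') := by
    have := congrArg (fun z => (nW hE6 chevData_E6.{u} (twCfg_E6.classes.getD k []))⁻¹ * z *
      nW hE6 chevData_E6.{u} (twCfg_E6.classes.getD k [])) h
    simpa [mul_assoc] using this
  exact neg_injective (xcls_inj_E6 φ k s hneg hs _ _ h3)

end Inj

section Main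

variable (p f : ℕ) [Fact p.Prime] [CharP K p]

theorem card_fixField_E6 (q : ℕ) (hq : 2 ≤ q) (hφ : ∀ t : K, φ t = t ^ q) (hK : Fintype.card K = q ^ 2) :
    Nat.card ↥(fixField φ) = q := by
  rw [← card_fixed_pow hq hK]
  apply Nat.card_congr
  exact
    { toFun := fun a => ⟨a.1, by rw [← hφ]; exact a.2⟩
      invFun := fun a => ⟨a.1, by show φ a.1 = a.1; rw [hφ]; exact a.2⟩
      left_inv := fun a => rfl
      right_inv := fun a => rfl }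

/-- `|Out(²E₆(q))| · |H¹| = ((q² - 1)(q - 1))² · 2f`. -/
theorem card_out_GE6_mul (hφ : ∀ t : K, φ t = t ^ (p ^ f)) (hK : Fintype.card K = (p ^ f) ^ 2) (hf : 1 ≤ f) :
    Nat.card (Out ↥(GE6 φ)) * Nat.card ↥(chevE6.diagonalSubgroup K ⊓ GE6 φ) =
      ((Fintype.card K - 1) * (p ^ f - 1)) ^ 2 * (2 * f) := by
  have hp : 2 ≤ p := (Fact.out : p.Prime).two_le
  have hq : 2 ≤ p ^ f := by
    calc 2 ≤ p := hp
      _ = p ^ 1 := (pow_one p).symm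
      _ ≤ p ^ f := Nat.pow_le_pow_right (by omega) hf
  have hφ2 := phi_sq φ p f hφ hK
  have hφm := hφm_E6 φ hφ2
  obtain ⟨P, hPB, hPN, hPS⟩ := exists_bnPair_Gtw hE6 chevData_E6.{u} twCfg_E6 φ twCfg_E6_ok' twCfg_E6_bnOK'
  have hsyl := sylow_E6 φ p f hφ hK hf
  obtain ⟨Φ0, h0x, h0y, h0h⟩ := exists_PhiE6_0 φ hφ2
  obtain ⟨Φ1, h1x, h1y, h1h⟩ := exists_PhiE6_1 φ hφ2
  obtain ⟨Φ2, h2x, h2y, h2h⟩ := exists_PhiE6_2 φ hφ2
  obtain ⟨Φ3, h3x, h3y, h3h⟩ := exists_PhiE6_3 φ hφ2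
  have : Fintype ↥(fixField φ) := Fintype.ofFinite _
  have hcardK : Nat.card (K ≃+* K) = 2 * f :=
    Cfsg.Agent.Lib.Helper36.AutO.card_ringAut_eq (p := p) (f := 2 * f) (by omega)
      (by rw [hK, ← pow_mul, mul_comm])
  have hcardK0 : Fintype.card ↥(fixField φ) = p ^ f := by
    rw [← Nat.card_eq_fintype_card, card_fixField_E6 φ (p ^ f) hq hφ hK]
  set S := splitE6 φ p f P hPB hPN hPS hsyl hφ hK hf hp with hS
  have hXeq : ∀ (i : Fin 4) g, g ∈ S.X i ↔ S.n₀⁻¹ * g * S.n₀ ∈ S.Y i := fun i g => S.X_eq i g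
  have hmain := card_out_rank4 (K := K) (K₀ := ↥(fixField φ)) S
    (by rfl) (by rfl)
    (by
      show 2 * f ≠ f
      omega)
    (comm2_X02 φ hφ2) (comm2_X03 φ hφ2) (comm2_X13 φ hφ2) (not_comm2_X12 φ hφ2)
    ((comm2_conj S.n₀ (S.X 0) (S.X 2) (S.Y 0) (S.Y 2) (hXeq 0) (hXeq 2)).mpr (comm2_X02 φ hφ2))
    ((comm2_conj S.n₀ (S.X 0) (S.X 3) (S.Y 0) (S.Y 3) (hXeq 0) (hXeq 3)).mpr (comm2_X03 φ hφ2))
    ((comm2_conj S.n₀ (S.X 1) (S.X 3) (S.Y 1) (S.Y 3) (hXeq 1) (hXeq 3)).mpr (comm2_X13 φ hφ2))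
    (fun h => not_comm2_X12 φ hφ2
      ((comm2_conj S.n₀ (S.X 1) (S.X 2) (S.Y 1) (S.Y 2) (hXeq 1) (hXeq 2)).mp h))
    (fixField φ).subtype Φ0 Φ1 Φ2 Φ3
    ?hX0 ?hY0 ?hX1 ?hY1 ?hX2 ?hY2 ?hX3 ?hY3 ?hi0 ?hiy0 ?hi1 ?hiy1 ?hi2 ?hiy2 ?hi3 ?hiy3
    ?hcross10 ?hcross12 ?hcross23 ?hgen ?hcore ?hfield ?hdiag
  case hX0 =>
    intro g
    show g ∈ XTw hE6 chevData_E6.{u} twCfg_E6 φ twCfg_E6_ok' 2 ↔ _
    rw [mem_XE6_0 φ hφ2]
    exact ⟨fun ⟨t, ht⟩ => ⟨t, Subtype.ext (ht.trans (h0x t).symm)⟩, fun ⟨t, ht⟩ => ⟨t, ht ▸ h0x t⟩⟩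
  case hY0 =>
    intro g
    show g ∈ YTw hE6 chevData_E6.{u} twCfg_E6 φ twCfg_E6_ok' 2 ↔ _
    rw [mem_YE6_0 φ hφ2]
    exact ⟨fun ⟨t, ht⟩ => ⟨t, Subtype.ext (ht.trans (h0y t).symm)⟩, fun ⟨t, ht⟩ => ⟨t, ht ▸ h0y t⟩⟩
  case hX1 =>
    intro g
    show g ∈ XTw hE6 chevData_E6.{u} twCfg_E6 φ twCfg_E6_ok' 3 ↔ _
    rw [mem_XE6_1 φ hφ2]
    exact ⟨fun ⟨t, ht⟩ => ⟨t, Subtype.ext (ht.trans (h1x t).symm)⟩, fun ⟨t, ht⟩ => ⟨t, ht ▸ h1x t⟩⟩
  case hY1 =>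
    intro g
    show g ∈ YTw hE6 chevData_E6.{u} twCfg_E6 φ twCfg_E6_ok' 3 ↔ _
    rw [mem_YE6_1 φ hφ2]
    exact ⟨fun ⟨t, ht⟩ => ⟨t, Subtype.ext (ht.trans (h1y t).symm)⟩, fun ⟨t, ht⟩ => ⟨t, ht ▸ h1y t⟩⟩
  case hX2 =>
    intro g
    show g ∈ XTw hE6 chevData_E6.{u} twCfg_E6 φ twCfg_E6_ok' 1 ↔ _
    rw [mem_XE6_2 φ hφ2]
    exact ⟨fun ⟨t, ht, hg⟩ => ⟨⟨t, ht⟩, Subtype.ext (hg.trans (h2x ⟨t, ht⟩).symm)⟩,
      fun ⟨v, hv⟩ => ⟨v.1, v.2, hv ▸ h2x v⟩⟩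
  case hY2 =>
    intro g
    show g ∈ YTw hE6 chevData_E6.{u} twCfg_E6 φ twCfg_E6_ok' 1 ↔ _
    rw [mem_YE6_2 φ hφ2]
    exact ⟨fun ⟨t, ht, hg⟩ => ⟨⟨t, ht⟩, Subtype.ext (hg.trans (h2y ⟨t, ht⟩).symm)⟩,
      fun ⟨v, hv⟩ => ⟨v.1, v.2, hv ▸ h2y v⟩⟩
  case hX3 =>
    intro g
    show g ∈ XTw hE6 chevData_E6.{u} twCfg_E6 φ twCfg_E6_ok' 0 ↔ _
    rw [mem_XE6_3 φ hφ2]
    exact ⟨fun ⟨t, ht, hg⟩ => ⟨⟨t, ht⟩, Subtype.ext (hg.trans (h3x ⟨t, ht⟩).symm)⟩,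
      fun ⟨v, hv⟩ => ⟨v.1, v.2, hv ▸ h3x v⟩⟩
  case hY3 =>
    intro g
    show g ∈ YTw hE6 chevData_E6.{u} twCfg_E6 φ twCfg_E6_ok' 0 ↔ _
    rw [mem_YE6_3 φ hφ2]
    exact ⟨fun ⟨t, ht, hg⟩ => ⟨⟨t, ht⟩, Subtype.ext (hg.trans (h3y ⟨t, ht⟩).symm)⟩,
      fun ⟨v, hv⟩ => ⟨v.1, v.2, hv ▸ h3y v⟩⟩
  case hi0 =>
    intro t t' h
    have := congrArg (fun z : ↥(GE6 φ) => (z : GL chevE6.Idx K)) h
    simp only [h0x] at this
    exact xcls_inj_E6 φ 2 56 negReps_E6_2 (by simp) _ _ this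
  case hiy0 =>
    intro t t' h
    have := congrArg (fun z : ↥(GE6 φ) => (z : GL chevE6.Idx K)) h
    simp only [h0y] at this
    exact ycls_inj_E6 φ 2 56 15 negReps_E6_2 (by simp) (nk_conj_56 φ) _ _ this
  case hi1 =>
    intro t t' h
    have := congrArg (fun z : ↥(GE6 φ) => (z : GL chevE6.Idx K)) h
    simp only [h1x] at this
    exact xcls_inj_E6 φ 3 42 negReps_E6_3 (by simp) _ _ this
  case hiy1 =>
    intro t t' h
    have := congrArg (fun z : ↥(GE6 φ) => (z : GL chevE6.Idx K)) h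
    simp only [h1y] at this
    exact ycls_inj_E6 φ 3 42 29 negReps_E6_3 (by simp) (nk_conj_42 φ) _ _ this
  case hi2 =>
    intro t t' h
    have := congrArg (fun z : ↥(GE6 φ) => (z : GL chevE6.Idx K)) h
    simp only [h2x] at this
    exact Subtype.ext (xcls_inj_E6 φ 1 39 negReps_E6_1 (by simp) _ _ this)
  case hiy2 =>
    intro t t' h
    have := congrArg (fun z : ↥(GE6 φ) => (z : GL chevE6.Idx K)) h
    simp only [h2y] at this
    exact Subtype.ext (ycls_inj_E6 φ 1 39 32 negReps_E6_1 (by simp) (nk_conj_39 φ) _ _ this)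
  case hi3 =>
    intro t t' h
    have := congrArg (fun z : ↥(GE6 φ) => (z : GL chevE6.Idx K)) h
    simp only [h3x] at this
    exact Subtype.ext (xcls_inj_E6 φ 0 46 negReps_E6_0 (by simp) _ _ this)
  case hiy3 =>
    intro t t' h
    have := congrArg (fun z : ↥(GE6 φ) => (z : GL chevE6.Idx K)) h
    simp only [h3y] at this
    exact Subtype.ext (ycls_inj_E6 φ 0 46 25 negReps_E6_0 (by simp) (nk_conj_46 φ) _ _ this)
  case hcross10 =>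
    intro v s
    apply Subtype.ext
    rw [Subgroup.coe_mul, Subgroup.coe_mul, Subgroup.coe_inv, h0h, h1x, h1x]
    exact cross_E6_10 φ (v : K) v.ne_zero s
  case hcross12 =>
    intro v s
    apply Subtype.ext
    have hv0 : ((v : ↥(fixField φ)) : K) ≠ 0 := by
      intro h0
      exact v.ne_zero (Subtype.ext h0)
    rw [Subgroup.coe_mul, Subgroup.coe_mul, Subgroup.coe_inv, h2h, h1x, h1x]
    exact cross_E6_12 φ _ (v : ↥(fixField φ)).2 hv0 s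
  case hcross23 =>
    intro v s
    apply Subtype.ext
    have hv0 : ((v : ↥(fixField φ)) : K) ≠ 0 := by
      intro h0
      exact v.ne_zero (Subtype.ext h0)
    rw [Subgroup.coe_mul, Subgroup.coe_mul, Subgroup.coe_inv, h3h, h2x, h2x]
    have := cross_E6_23 φ _ hv0 (s : K)
    rw [this]
    rfl
  case hgen =>
    apply closure_subtype_eq_top' (GE6 φ) _
      (Gtw_eq_closure_xcls hE6 chevData_E6.{u} twCfg_E6 φ twCfg_E6_ok' hφm)
    rintro g hg ⟨s, hs, t, ht, rfl⟩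
    rw [genRoots_E6] at hs
    simp only [List.mem_cons, List.not_mem_nil, or_false] at hs
    rcases hs with rfl | rfl | rfl | rfl | rfl | rfl | rfl | rfl
    · -- 46
      exact Or.inl (Or.inr ⟨⟨t, ht (by decide)⟩, Subtype.ext (h3x ⟨t, ht (by decide)⟩)⟩)
    · -- 39
      exact Or.inl (Or.inl (Or.inl (Or.inr ⟨⟨t, ht (by decide)⟩, Subtype.ext (h2x ⟨t, ht (by decide)⟩)⟩)))
    · -- 56
      exact Or.inl (Or.inl (Or.inl (Or.inl (Or.inl (Or.inl (Or.inl ⟨t, Subtype.ext (h0x t)⟩))))))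
    · -- 42
      exact Or.inl (Or.inl (Or.inl (Or.inl (Or.inl (Or.inr ⟨t, Subtype.ext (h1x t)⟩)))))
    · -- 25
      exact Or.inr ⟨⟨t, ht (by decide)⟩, Subtype.ext (h3y ⟨t, ht (by decide)⟩)⟩
    · -- 32
      exact Or.inl (Or.inl (Or.inr ⟨⟨t, ht (by decide)⟩, Subtype.ext (h2y ⟨t, ht (by decide)⟩)⟩))
    · -- 15
      exact Or.inl (Or.inl (Or.inl (Or.inl (Or.inl (Or.inl (Or.inr ⟨t, Subtype.ext (h0y t)⟩))))))
    · -- 29
      exact Or.inl (Or.inl (Or.inl (Or.inl (Or.inr ⟨t, Subtype.ext (h1y t)⟩))))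
  case hcore =>
    show P.B.normalCore = ⊥
    rw [hPB]
    exact tw_normalCore_eq_bot hE6 chevData_E6.{u} twCfg_E6 φ twCfg_E6_ok' cw0E6 twCfg_E6_longOK' hφm
  case hfield =>
    intro τ
    have hcomm : ∀ a : K, τ (φ a) = φ (τ a) := fun a => by rw [hφ, hφ, map_pow]
    obtain ⟨θ, hθ, hU, hV⟩ := exists_fieldAut_gen hE6 chevData_E6.{u} twCfg_E6 φ τ hcomm
    refine ⟨θ, hU, hV, fun t => Subtype.ext ?_⟩
    rw [hθ, h1x, h1x, xcls_42, xcls_42, map_mul, glMap_xG hE6, glMap_xG hE6, hcomm]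
  case hdiag =>
    intro c0 c1 c2 c3
    obtain ⟨z, θ, hθ, hU, hV, e0, e1, e2, e3⟩ := exists_diag_E6 φ hφ2 c0 c1
      (Units.map ((fixField φ).subtype : ↥(fixField φ) →* K) c2)
      (Units.map ((fixField φ).subtype : ↥(fixField φ) →* K) c3) (c2 : ↥(fixField φ)).2 (c3 : ↥(fixField φ)).2
    refine ⟨θ, hU, hV, fun t => Subtype.ext ?_, fun t => Subtype.ext ?_, fun t => Subtype.ext ?_,
      fun t => Subtype.ext ?_⟩
    · rw [hθ, h0x, h0x]; exact e0 t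
    · rw [hθ, h1x, h1x]; exact e1 t
    · rw [hθ, h2x, h2x]; exact e2 t
    · rw [hθ, h3x, h3x]; exact e3 t
  rw [hcardK, hcardK0] at hmain
  rw [← hmain]
  congr 1
  exact Nat.card_congr (equivPH hE6 chevData_E6.{u} twCfg_E6 φ P hPB hPN).symm

end Main

end Cfsg.Agent.Lib.Helper69.TwOut
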