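/-
helper69: project TWOUT, `²E₆`: `U ∩ G¹` is a Sylow `p`-subgroup of `²E₆(q)` (port of helper91's `D4Syl`).
-/
import Cfsg.Agent.Lib.Helper69.TwOut.E6Split
import Cfsg.Agent.Lib.Helper18.TwOrdE6

set_option autoImplicit false
set_option linter.unusedSectionVars false

namespace Cfsg.Agent.Lib.Helper69.TwOut

open Cfsg Cfsg.Lie Cfsg.Agent.Lib.Helper18 Cfsg.Agent.Lib.Helper17 Cfsg.Agent.Lib.Helper91.TwOut

universe u

variable {K : Type u} [Field K] [Fintype K] (φ : K ≃+* K)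

theorem card_UE6 (q : ℕ) (hq : 2 ≤ q) (hφ : ∀ t : K, φ t = t ^ q) (hK : Fintype.card K = q ^ 2) :
    Nat.card ↥(UTw hE6 chevData_E6.{u} twCfg_E6 φ) = q ^ 36 := by
  have h := card_posUnipotent_inf_Gtw hE6 chevData_E6.{u} twCfg_E6 φ twCfg_E6_ok' q hq hK hφ
  have hN : chevE6.nroots / 2 = 36 := by decide
  rw [hN] at h
  rw [← h]
  apply Nat.card_congr
  exact
    { toFun := fun x => ⟨((x : ↥(GE6 φ)) : GL chevE6.Idx K),
        Subgroup.mem_inf.mpr ⟨(mem_UTw hE6 chevData_E6.{u} twCfg_E6 φ x.1).mp x.2, x.1.2⟩⟩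
      invFun := fun y => ⟨⟨y.1, (Subgroup.mem_inf.mp y.2).2⟩,
        (mem_UTw hE6 chevData_E6.{u} twCfg_E6 φ _).mpr (Subgroup.mem_inf.mp y.2).1⟩
      left_inv := fun x => rfl
      right_inv := fun y => rfl }

/-- `U¹` is a Sylow `p`-subgroup of `²E₆(q)`. -/
theorem sylow_E6 (p f : ℕ) [hp : Fact p.Prime] (hφ : ∀ t : K, φ t = t ^ (p ^ f)) (hK : Fintype.card K = (p ^ f) ^ 2)
    (hf : 1 ≤ f) :
    IsPGroup p ↥(UTw hE6 chevData_E6.{u} twCfg_E6 φ) ∧ ¬ p ∣ (UTw hE6 chevData_E6.{u} twCfg_E6 φ).index := by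
  have hp2 : 2 ≤ p := hp.out.two_le
  have hq : 2 ≤ p ^ f := by
    calc 2 ≤ p := hp2
      _ = p ^ 1 := (pow_one p).symm
      _ ≤ p ^ f := Nat.pow_le_pow_right (by omega) hf
  have hU := card_UE6 φ (p ^ f) hq hφ hK
  have hG := card_twE6 (p ^ f) φ hφ hK hq
  constructor
  · apply IsPGroup.of_card (n := f * 36)
    rw [hU, ← pow_mul]
  · intro hdvd
    have hmul := Subgroup.card_mul_index (UTw hE6 chevData_E6.{u} twCfg_E6 φ)
    rw [hU] at hmul
    set q := p ^ f with hqdef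
    have hqpos : 0 < q ^ 36 := by positivity
    have hidx : Nat.gcd 3 (q + 1) * (UTw hE6 chevData_E6.{u} twCfg_E6 φ).index
        = (q ^ 2 - 1) * (q ^ 5 + 1) * (q ^ 6 - 1) * (q ^ 8 - 1) * (q ^ 9 + 1) * (q ^ 12 - 1) := by
      have : q ^ 36 * (Nat.gcd 3 (q + 1) * (UTw hE6 chevData_E6.{u} twCfg_E6 φ).index)
          = q ^ 36 * ((q ^ 2 - 1) * (q ^ 5 + 1) * (q ^ 6 - 1) * (q ^ 8 - 1) * (q ^ 9 + 1) * (q ^ 12 - 1)) := by
        calc q ^ 36 * (Nat.gcd 3 (q + 1) * (UTw hE6 chevData_E6.{u} twCfg_E6 φ).index)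
            = Nat.gcd 3 (q + 1) * (q ^ 36 * (UTw hE6 chevData_E6.{u} twCfg_E6 φ).index) := by ring
          _ = Nat.gcd 3 (q + 1) * Nat.card ↥(Gtw hE6 chevData_E6.{u} twCfg_E6 φ) := by rw [hmul]
          _ = _ := by rw [hG]; ring
      exact Nat.eq_of_mul_eq_mul_left hqpos this
    have hdvd2 : p ∣ (q ^ 2 - 1) * (q ^ 5 + 1) * (q ^ 6 - 1) * (q ^ 8 - 1) * (q ^ 9 + 1) * (q ^ 12 - 1) := by
      rw [← hidx]
      exact Dvd.dvd.mul_left hdvd _
    have hpq : p ∣ q := dvd_pow_self p (by omega)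
    have hne : ∀ k : ℕ, 0 < k → ¬ p ∣ q ^ k - 1 := by
      intro k hk hd
      have h1 : p ∣ q ^ k := dvd_pow hpq (by omega)
      have hge : 1 ≤ q ^ k := Nat.one_le_pow _ _ (by omega)
      have h2 : p ∣ q ^ k - (q ^ k - 1) := Nat.dvd_sub h1 hd
      have e : q ^ k - (q ^ k - 1) = 1 := by omega
      rw [e] at h2
      exact hp.out.one_lt.ne' (Nat.dvd_one.mp h2)
    have hne' : ∀ k : ℕ, 0 < k → ¬ p ∣ q ^ k + 1 := by
      intro k hk hd
      have h1 : p ∣ q ^ k := dvd_pow hpq (by omega)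
      have h2 : p ∣ 1 := (Nat.dvd_add_right h1).mp hd
      exact hp.out.one_lt.ne' (Nat.dvd_one.mp h2)
    rcases (hp.out.dvd_mul).mp hdvd2 with h | h
    · rcases (hp.out.dvd_mul).mp h with h | h
      · rcases (hp.out.dvd_mul).mp h with h | h
        · rcases (hp.out.dvd_mul).mp h with h | h
          · rcases (hp.out.dvd_mul).mp h with h | h
            · exact hne 2 (by omega) h
            · exact hne' 5 (by omega) h
          · exact hne 6 (by omega) h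
        · exact hne 8 (by omega) h
      · exact hne' 9 (by omega) h
    · exact hne 12 (by omega) h

end Cfsg.Agent.Lib.Helper69.TwOut
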