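/-
helper69: project TWOUT: the count of the outer automorphisms of a split (B,N)-pair of rank 2 with one node of type
`SL₂(K)` and one node of Suzuki type (root subgroup `{R t υ}` of order `|K|²` with `R t υ * R t' υ' =
R (t + t') (υ + υ' + β t t')`), as for the large Ree groups `²F₄(q)`:  `|Out Γ| = |Aut K|`.
-/
import Cfsg.Agent.Lib.Helper69.TwOut.TwOutCount4

set_option autoImplicit false
set_option linter.unusedSectionVars false

namespace Cfsg.Agent.Lib.Helper69.TwOut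

open Cfsg Cfsg.Agent.Lib.Helper91.TwOut

variable {Γ : Type*} [Group Γ] {p : ℕ}

section Gen

variable {ι : Type*}

/-- The representatives of the fundamental reflections do not lie in `B`. -/
theorem s_not_mem_B (S : SplitBN Γ ι p) (i : ι) : S.s i ∉ S.P.B := by
  intro hs
  have hsS : S.s i ∈ S.P.S := Cfsg.Agent.Lib.Helper44.TwOut.s_mem_S S i
  apply S.P.conj_ne _ hsS
  ext x
  constructor
  · rintro ⟨b, hb, rfl⟩
    exact mul_mem (mul_mem hs hb) hs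
  · intro hx
    refine ⟨(S.s i)⁻¹ * x * (S.s i)⁻¹, mul_mem (mul_mem (inv_mem hs) hx) (inv_mem hs), ?_⟩
    show S.s i * ((S.s i)⁻¹ * x * (S.s i)⁻¹) * S.s i = x
    group

/-- A normalised automorphism maps `H = B ∩ N` into itself (trivial core). -/
theorem map_H_mem (S : SplitBN Γ ι p) (hcore : S.P.B.normalCore = ⊥) (θ : MulAut Γ) (hθ : θ ∈ Nrm S.U S.V)
    (h : Γ) (hh : h ∈ S.P.B ⊓ S.P.N) : θ h ∈ S.P.B ⊓ S.P.N := by
  have h1 : MulAut.conj (θ h) = θ * MulAut.conj h * θ⁻¹ := by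
    ext x
    simp only [MulAut.conj_apply, MulAut.mul_apply, map_mul, map_inv]
    rw [MulAut.apply_inv_self]
  have h2 : MulAut.conj (θ h) ∈ Nrm S.U S.V ⊓ Inn Γ := by
    refine Subgroup.mem_inf.mpr ⟨?_, θ h, rfl⟩
    rw [h1]
    exact (Nrm S.U S.V).mul_mem ((Nrm S.U S.V).mul_mem hθ (Cfsg.Agent.Lib.Helper49.TwOut.conj_mem_Nrm S h hh))
      ((Nrm S.U S.V).inv_mem hθ)
  rw [Cfsg.Agent.Lib.Helper49.TwOut.Nrm_inf_Inn S] at h2
  obtain ⟨h', hh', e⟩ := h2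
  have hz : ∀ g : Γ, g * (h'⁻¹ * θ h) = (h'⁻¹ * θ h) * g := by
    intro g
    have e1 : h' * g * h'⁻¹ = θ h * g * (θ h)⁻¹ := by
      have := congrArg (fun α : MulAut Γ => α g) e
      simpa [MulAut.conj_apply] using this
    have e2 : g = h'⁻¹ * (θ h * g * (θ h)⁻¹) * h' := by rw [← e1]; group
    calc g * (h'⁻¹ * θ h) = (h'⁻¹ * (θ h * g * (θ h)⁻¹) * h') * (h'⁻¹ * θ h) := by rw [← e2]
      _ = h'⁻¹ * θ h * g := by group
  have hzU : S.U.map (MulAut.conj (h'⁻¹ * θ h)).toMonoidHom = S.U := by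
    have : (MulAut.conj (h'⁻¹ * θ h)).toMonoidHom = MonoidHom.id Γ := by
      ext x
      show h'⁻¹ * θ h * x * (h'⁻¹ * θ h)⁻¹ = x
      rw [← hz x, mul_inv_cancel_right]
    rw [this, Subgroup.map_id]
  have hzB : h'⁻¹ * θ h ∈ S.P.B := Cfsg.Agent.Lib.Helper49.TwOut.mem_B_of_map_conj_eq S _ hzU
  have hz1 := Cfsg.Agent.Lib.Helper49.TwOut.mem_normalCore_of_central S.P.B _ hzB hz
  rw [hcore, Subgroup.mem_bot] at hz1
  have : θ h = h' := by
    have := congrArg (fun x => h' * x) hz1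
    simpa using this
  rw [this]
  exact hh'

end Gen

section Rank2

variable [Finite Γ] [Fact p.Prime] (S : SplitBN Γ (Fin 2) p) (he : S.e 0 ≠ S.e 1)

include he in
/-- In rank 2 with root subgroups of different orders a normalised automorphism fixes each minimal parabolic. -/
theorem map_parabolic_eq (θ : Γ ≃* Γ) (hU : S.U.map θ.toMonoidHom = S.U) (hV : S.V.map θ.toMonoidHom = S.V)
    (i : Fin 2) : (S.P.parabolic {S.s i}).map θ.toMonoidHom = S.P.parabolic {S.s i} := by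
  have hp : 1 < p := (Fact.out : p.Prime).one_lt
  obtain ⟨j, hj⟩ := map_parabolic S θ hU i
  have hY : (S.Y i).map θ.toMonoidHom = S.Y j := by
    rw [← Cfsg.Agent.Lib.Helper44.TwOut.V_inf_parabolic S i, ← Cfsg.Agent.Lib.Helper44.TwOut.V_inf_parabolic S j,
      Subgroup.map_inf _ _ _ θ.injective, hV, hj]
  have hY' := (map_root_eq S he θ hU hV i).2
  rw [hY] at hY'
  have hc : p ^ S.e j = p ^ S.e i := by rw [← card_Y S j, ← card_Y S i, hY']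
  have hji : j = i := by
    have h := Nat.pow_right_injective hp hc
    fin_cases i <;> fin_cases j <;> first | rfl | (exfalso; first | exact he h | exact he h.symm)
  rw [hj, hji]

include he in
/-- `H` normalises the fundamental root subgroups. -/
theorem H_conj_X (h : Γ) (hh : h ∈ S.P.B ⊓ S.P.N) (i : Fin 2) (x : Γ) (hx : x ∈ S.X i) : h * x * h⁻¹ ∈ S.X i := by
  have hN := Cfsg.Agent.Lib.Helper49.TwOut.conj_mem_Nrm S h hh
  have := (map_root_eq S he (MulAut.conj h) hN.1 hN.2 i).1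
  rw [← this]
  exact ⟨x, hx, rfl⟩

include he in
/-- An automorphism fixing `U`, `V` and the elements of `X_i`, where `H` has no fixed point on `X_i`, fixes the
elements of `Y_i`. -/
theorem fix_Y_of_fix_X (hcore : S.P.B.normalCore = ⊥) (θ : Γ ≃* Γ)
    (hU : S.U.map θ.toMonoidHom = S.U) (hV : S.V.map θ.toMonoidHom = S.V) (i : Fin 2)
    (hfix : ∀ x ∈ S.X i, θ x = x)
    (hfree : ∀ x ∈ S.X i, (∀ h ∈ S.P.B ⊓ S.P.N, h * x * h⁻¹ = x) → x = 1) :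
    ∀ y ∈ S.Y i, θ y = y := by
  have hθN' : (θ.symm : MulAut Γ) ∈ Nrm S.U S.V :=
    ⟨map_symm_of_map_eq θ S.U hU, map_symm_of_map_eq θ S.V hV⟩
  have hB := map_B_eq S θ hU
  have hBmem : ∀ b ∈ S.P.B, θ b ∈ S.P.B := fun b hb => by
    rw [← hB]; exact ⟨b, hb, rfl⟩
  have hBmem' : ∀ b, θ b ∈ S.P.B → b ∈ S.P.B := by
    intro b hb
    rw [← hB] at hb
    obtain ⟨b', hb', e⟩ := hb
    rw [← θ.injective e]
    exact hb'
  have hP := map_parabolic_eq S he θ hU hV i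
  have hsN := Cfsg.Agent.Lib.Helper44.TwOut.s_mem_N S i
  have hsP : S.s i ∈ S.P.parabolic {S.s i} :=
    Subgroup.mem_sup_right (Subgroup.subset_closure (Set.mem_singleton _))
  have hθs : θ (S.s i) ∈ S.P.parabolic {S.s i} := by
    rw [← hP]; exact ⟨_, hsP, rfl⟩
  -- `θ (s_i) ∈ s_i B`
  have hs : (S.s i)⁻¹ * θ (S.s i) ∈ S.P.B := by
    rcases Cfsg.Agent.Lib.Helper44.TwOut.parabolic_coset_cases S i _ hθs with h1 | ⟨x₀, hx₀, h1⟩
    · exact absurd (hBmem' _ h1) (s_not_mem_B S i)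
    · -- `x₀` is fixed by `H`
      have hx1 : x₀ = 1 := by
        apply hfree x₀ hx₀
        intro h' hh'
        -- `h' = θ h`
        have hh : θ.symm h' ∈ S.P.B ⊓ S.P.N := map_H_mem S hcore _ hθN' h' hh'
        set h := θ.symm h' with hdef
        have hθh : θ h = h' := by
          rw [hdef]
          exact θ.apply_symm_apply h'
        have h2 : (S.s i)⁻¹ * h * S.s i ∈ S.P.B := by
          have := S.P.conj_mem (S.s i)⁻¹ (inv_mem hsN) h hh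
          rwa [inv_inv] at this
        have h3 : (θ (S.s i))⁻¹ * h' * θ (S.s i) ∈ S.P.B := by
          have := hBmem _ h2
          rwa [map_mul, map_mul, map_inv, hθh] at this
        -- `θ (s_i) = x₀ s_i b`
        set b := (x₀ * S.s i)⁻¹ * θ (S.s i) with hb
        have hθs' : θ (S.s i) = x₀ * S.s i * b := by rw [hb]; group
        have h4 : (x₀ * S.s i)⁻¹ * h' * (x₀ * S.s i) ∈ S.P.B := by
          have e : (x₀ * S.s i)⁻¹ * h' * (x₀ * S.s i) = b * ((θ (S.s i))⁻¹ * h' * θ (S.s i)) * b⁻¹ := by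
            rw [hθs']; group
          rw [e]
          exact mul_mem (mul_mem h1 h3) (inv_mem h1)
        set c := x₀⁻¹ * (h' * x₀ * h'⁻¹) with hc
        have hcX : c ∈ S.X i := mul_mem (inv_mem hx₀) (H_conj_X S he h' hh' i x₀ hx₀)
        have h5 : (S.s i)⁻¹ * h' * S.s i ∈ S.P.B := by
          have := S.P.conj_mem (S.s i)⁻¹ (inv_mem hsN) h' hh'
          rwa [inv_inv] at this
        have h6 : (S.s i)⁻¹ * c * S.s i ∈ S.P.B := by
          have e : (S.s i)⁻¹ * c * S.s i =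
              ((x₀ * S.s i)⁻¹ * h' * (x₀ * S.s i)) * ((S.s i)⁻¹ * h' * S.s i)⁻¹ := by
            rw [hc]; group
          rw [e]
          exact mul_mem h4 (inv_mem h5)
        have h7 : (S.s i)⁻¹ * c * S.s i ∈ S.Y i := by
          rw [S.Y_eq]
          have hss := Cfsg.Agent.Lib.Helper44.TwOut.s_sq_mem_H S i
          have := H_conj_X S he (S.s i * S.s i)⁻¹ (inv_mem hss) i c hcX
          have e : (S.s i)⁻¹ * ((S.s i)⁻¹ * c * S.s i) * S.s i =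
              (S.s i * S.s i)⁻¹ * c * ((S.s i * S.s i)⁻¹)⁻¹ := by
            simp only [mul_inv_rev, inv_inv, mul_assoc]
          rw [e]
          exact this
        have h8 : (S.s i)⁻¹ * c * S.s i ∈ S.V ⊓ S.P.B := Subgroup.mem_inf.mpr ⟨Y_le_V S i h7, h6⟩
        rw [S.V_inf_B, Subgroup.mem_bot] at h8
        have hc1 : c = 1 := by
          have : c = S.s i * ((S.s i)⁻¹ * c * S.s i) * (S.s i)⁻¹ := by group
          rw [this, h8]; group
        have : h' * x₀ * h'⁻¹ = x₀ * c := by rw [hc]; group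
        rw [this, hc1, mul_one]
      rw [hx1, one_mul] at h1
      exact h1
  -- the elements of `Y_i`
  intro y hy
  have hyP : y⁻¹ ∈ S.P.parabolic {S.s i} := inv_mem (Cfsg.Agent.Lib.Helper44.TwOut.Y_le_parabolic S i hy)
  have hθy : θ y ∈ S.Y i := by
    rw [← (map_root_eq S he θ hU hV i).2]
    exact ⟨y, hy, rfl⟩
  have key : y * (θ y)⁻¹ ∈ S.P.B := by
    rcases Cfsg.Agent.Lib.Helper44.TwOut.parabolic_coset_cases S i _ hyP with h1 | ⟨x, hx, h1⟩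
    · have hyB : y ∈ S.P.B := by
        have := inv_mem h1
        rwa [inv_inv] at this
      have : θ y ∈ S.P.B := hBmem y hyB
      exact mul_mem hyB (inv_mem this)
    · set b₁ := (x * S.s i)⁻¹ * y⁻¹ with hb₁
      have e1 : y⁻¹ = x * S.s i * b₁ := by rw [hb₁]; group
      have e2 : (θ y)⁻¹ = x * θ (S.s i) * θ b₁ := by
        rw [← map_inv, e1, map_mul, map_mul, hfix x hx]
      have e3 : y * (θ y)⁻¹ = b₁⁻¹ * ((S.s i)⁻¹ * θ (S.s i)) * θ b₁ := by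
        have : y = (x * S.s i * b₁)⁻¹ := by rw [← e1, inv_inv]
        rw [e2, this]; group
      rw [e3]
      exact mul_mem (mul_mem (inv_mem h1) hs) (hBmem _ h1)
  have h9 : y * (θ y)⁻¹ ∈ S.V ⊓ S.P.B :=
    Subgroup.mem_inf.mpr ⟨S.V.mul_mem (Y_le_V S i hy) (S.V.inv_mem (Y_le_V S i hθy)), key⟩
  rw [S.V_inf_B, Subgroup.mem_bot] at h9
  have := mul_eq_one_iff_eq_inv.mp h9
  rw [inv_inv] at this
  exact this.symm

end Rank2

section Suz

variable {K : Type*} [Field K] [Fintype K]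

variable [Finite Γ] [Fact p.Prime] (S : SplitBN Γ (Fin 2) p) (he : S.e 0 ≠ S.e 1)
  (hcore : S.P.B.normalCore = ⊥) (h2 : ∀ x : K, x + x = 0)
  (Φa : Matrix.SpecialLinearGroup (Fin 2) K →* Γ)
  (hXa : ∀ g, g ∈ S.X 0 ↔ ∃ t, g = Φa (sx t)) (hYa : ∀ g, g ∈ S.Y 0 ↔ ∃ t, g = Φa (sy t))
  (hinja : Function.Injective fun t : K => Φa (sx t)) (hinjya : Function.Injective fun t : K => Φa (sy t))
  (R : K → K → Γ) (β : K → K → K)
  (hXb : ∀ g, g ∈ S.X 1 ↔ ∃ t υ, g = R t υ)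
  (hRinj : ∀ t υ t' υ', R t υ = R t' υ' → t = t' ∧ υ = υ')
  (hRmul : ∀ t υ t' υ', R t υ * R t' υ' = R (t + t') (υ + υ' + β t t'))
  (hβ0 : ∀ t, β t 0 = 0) (hβ0' : ∀ t, β 0 t = 0)
  (hβsurj : ∀ υ, ∃ t, β t t = υ) (hβne : ∀ t, β t t = 0 → t = 0)
  (χ χ' : Kˣ → K)
  (hHa : ∀ (u : Kˣ) (t υ : K), Φa (hd u) * R t υ * (Φa (hd u))⁻¹ = R (χ u * t) (χ' u * υ))
  (hHaH : ∀ u : Kˣ, Φa (hd u) ∈ S.P.B ⊓ S.P.N)
  (hχ : ∀ c : K, c ≠ 0 → ∃ u, χ u = c)
  (hχ1 : ∃ u, χ u ≠ 1 ∧ χ' u ≠ 1)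
  (hζ : ∀ ζ : K → K, (∀ a b, ζ (a + b) = ζ a + ζ b) → (∀ u t, ζ (χ u * t) = χ' u * ζ t) → ∀ t, ζ t = 0)
  (hgen : Subgroup.closure (Set.range (fun t : K => Φa (sx t)) ∪ Set.range (fun t : K => Φa (sy t)) ∪
    (S.X 1 : Set Γ) ∪ (S.Y 1 : Set Γ)) = ⊤)

include hRmul hβ0 in
theorem R_zero : R 0 0 = 1 := by
  have h := hRmul 0 0 0 0
  rw [hβ0, add_zero, add_zero] at h
  exact mul_eq_left.mp h

include hRmul hβ0 h2 in
theorem R_sq (t υ : K) : R t υ * R t υ = R 0 (β t t) := by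
  rw [hRmul, h2, h2, zero_add]

include hRmul hβ0 in
theorem R_split (t υ : K) : R t υ = R t 0 * R 0 υ := by
  rw [hRmul, hβ0, add_zero, add_zero, zero_add]

include he hXa hYa hinja hinjya in
/-- An automorphism fixing the elements `Φa (sx t)` fixes the rank one subgroup of the node `a`. -/
theorem fix_La (θ : Γ ≃* Γ) (hU : S.U.map θ.toMonoidHom = S.U) (hV : S.V.map θ.toMonoidHom = S.V)
    (hfix : ∀ t, θ (Φa (sx t)) = Φa (sx t)) :
    (∀ t, θ (Φa (sy t)) = Φa (sy t)) ∧ ∀ u : Kˣ, θ (Φa (hd u)) = Φa (hd u) := by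
  obtain ⟨hX0, hY0⟩ := map_root_eq S he θ hU hV 0
  obtain ⟨c, τ, a1, a2, a3⟩ := node_nf S 0 Φa hXa hYa hinja hinjya θ hX0 hY0
  have h1 : ∀ t : K, (c : K) * τ t = ((1 : Kˣ) : K) * (RingEquiv.refl K) t := by
    intro t
    apply hinja
    show Φa (sx ((c : K) * τ t)) = Φa (sx (((1 : Kˣ) : K) * (RingEquiv.refl K) t))
    rw [← a1 t, hfix t, Units.val_one, one_mul]
    rfl
  obtain ⟨hc, hτ⟩ := Cfsg.Agent.Lib.Helper85.TwOut.nf_unique c 1 τ (RingEquiv.refl K) h1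
  subst hc hτ
  constructor
  · intro t
    rw [a2 t, inv_one, Units.val_one, one_mul]
    rfl
  · intro u
    rw [a3 u]
    congr 2

include he hcore h2 hXa hYa hinja hinjya hXb hRinj hRmul hβ0 hβ0' hβne hHa hχ in
/-- The action on the Suzuki node of an automorphism trivial on the node `a`. -/
theorem suz_nf (θ : Γ ≃* Γ) (hU : S.U.map θ.toMonoidHom = S.U) (hV : S.V.map θ.toMonoidHom = S.V)
    (hfix : ∀ t, θ (Φa (sx t)) = Φa (sx t)) :
    ∃ (κ : K) (ζ g₀ : K → K), κ ≠ 0 ∧ ζ 0 = 0 ∧ g₀ 0 = 0 ∧ (∀ t υ, θ (R t υ) = R (κ * t) (ζ t + g₀ υ)) ∧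
      (∀ (u : Kˣ) (t : K), ζ (χ u * t) = χ' u * ζ t) := by
  obtain ⟨hsy, hhd⟩ := fix_La S he Φa hXa hYa hinja hinjya θ hU hV hfix
  have hX1 := (map_root_eq S he θ hU hV 1).1
  have hR0 := R_zero R β hRmul hβ0
  have hex : ∀ t υ, ∃ q : K × K, θ (R t υ) = R q.1 q.2 := by
    intro t υ
    have : θ (R t υ) ∈ (S.X 1).map θ.toMonoidHom := ⟨_, (hXb _).mpr ⟨t, υ, rfl⟩, rfl⟩
    rw [hX1] at this
    obtain ⟨t', υ', e⟩ := (hXb _).mp this
    exact ⟨(t', υ'), e⟩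
  choose q hq using hex
  -- the centre
  have hR1 : ∀ υ, R 0 υ = 1 → υ = 0 := by
    intro υ h
    rw [← hR0] at h
    exact (hRinj _ _ _ _ h).2
  have hz : ∀ υ, (q 0 υ).1 = 0 := by
    intro υ
    apply hβne
    apply hR1
    rw [← R_sq h2 R β hRmul hβ0, ← hq, ← map_mul, R_sq h2 R β hRmul hβ0, hβ0, hR0, map_one]
  have hq00 : q 0 0 = (0, 0) := by
    have h := hq 0 0
    rw [hR0, map_one, ← hR0] at h
    obtain ⟨h1, h2⟩ := hRinj _ _ _ _ h
    exact Prod.ext h1.symm h2.symm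
  set f₁ : K → K := fun t => (q t 0).1 with hf₁
  set ζ : K → K := fun t => (q t 0).2 with hζdef
  set g₀ : K → K := fun υ => (q 0 υ).2 with hg₀
  have hform : ∀ t υ, θ (R t υ) = R (f₁ t) (ζ t + g₀ υ) := by
    intro t υ
    rw [R_split R β hRmul hβ0 t υ, map_mul, hq t 0, hq 0 υ, hRmul, hz υ, hβ0, add_zero, add_zero]
  -- additivity
  have hadd : ∀ a b, f₁ (a + b) = f₁ a + f₁ b := by
    intro a b
    have h := congrArg θ (hRmul a 0 b 0)
    rw [map_mul, hq a 0, hq b 0, hRmul, hform] at h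
    exact (hRinj _ _ _ _ h).1.symm
  have hf0 : f₁ 0 = 0 := by
    show (q 0 0).1 = 0
    rw [hq00]
  -- equivariance
  have hequiv : ∀ (u : Kˣ) (t : K), f₁ (χ u * t) = χ u * f₁ t ∧ ζ (χ u * t) = χ' u * ζ t := by
    intro u t
    have h := congrArg θ (hHa u t 0)
    rw [map_mul, map_mul, map_inv, hhd u, hq t 0, hHa, mul_zero, hq] at h
    obtain ⟨h1, h2⟩ := hRinj _ _ _ _ h
    exact ⟨h1.symm, h2.symm⟩
  have hlin : ∀ t, f₁ t = f₁ 1 * t := by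
    intro t
    by_cases ht : t = 0
    · rw [ht, hf0, mul_zero]
    · obtain ⟨u, hu⟩ := hχ t ht
      have := (hequiv u 1).1
      rw [hu, mul_one] at this
      rw [this, mul_comm]
  have hκ : f₁ 1 ≠ 0 := by
    intro h0
    -- `θ (R 1 0)` would be an involution
    have h1 : θ (R 1 0) * θ (R 1 0) = 1 := by
      rw [hq 1 0, R_sq h2 R β hRmul hβ0]
      have : (q 1 0).1 = 0 := h0
      rw [this, hβ0, hR0]
    rw [← map_mul, R_sq h2 R β hRmul hβ0] at h1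
    have h3 : R 0 (β 1 1) = 1 := θ.injective (h1.trans (map_one θ).symm)
    exact one_ne_zero (hβne 1 (hR1 _ h3))
  refine ⟨f₁ 1, ζ, g₀, hκ, ?_, ?_, ?_, fun u t => (hequiv u t).2⟩
  · show (q 0 0).2 = 0
    rw [hq00]
  · show (q 0 0).2 = 0
    rw [hq00]
  · intro t υ
    rw [hform, hlin t]

include he hcore h2 hXa hYa hinja hinjya hXb hRinj hRmul hβ0 hβ0' hβsurj hβne hHa hHaH hχ hχ1 hζ hgen in
/-- An automorphism fixing `U`, `V`, trivial on the node `a` and on `X_b` modulo its centre, is trivial. -/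
theorem suz_rigid (θ : Γ ≃* Γ) (hU : S.U.map θ.toMonoidHom = S.U) (hV : S.V.map θ.toMonoidHom = S.V)
    (hfix : ∀ t, θ (Φa (sx t)) = Φa (sx t)) (hone : ∃ w, θ (R 1 0) = R 1 w) : ∀ g, θ g = g := by
  obtain ⟨hsy, hhd⟩ := fix_La S he Φa hXa hYa hinja hinjya θ hU hV hfix
  obtain ⟨κ, ζ, g₀, hκ, hζ0, hg0, hform, hequiv⟩ := suz_nf S he hcore h2 Φa hXa hYa hinja hinjya R β hXb hRinj
    hRmul hβ0 hβ0' hβne χ χ' hHa hχ θ hU hV hfix
  have hR0 := R_zero R β hRmul hβ0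
  have hκ1 : κ = 1 := by
    obtain ⟨w, hw⟩ := hone
    rw [hform, mul_one] at hw
    exact (hRinj _ _ _ _ hw).1
  subst hκ1
  simp only [one_mul] at hform
  -- the centre is fixed
  have hg : ∀ υ, g₀ υ = υ := by
    intro υ
    obtain ⟨t, rfl⟩ := hβsurj υ
    have h := congrArg θ (R_sq h2 R β hRmul hβ0 t 0)
    rw [map_mul, hform t 0, R_sq h2 R β hRmul hβ0, hform, hζ0, zero_add] at h
    exact ((hRinj _ _ _ _ h).2).symm
  -- `ζ` is additive
  have hadd : ∀ a b, ζ (a + b) = ζ a + ζ b := by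
    intro a b
    have h := congrArg θ (hRmul a 0 b 0)
    rw [map_mul, hform a 0, hform b 0, hRmul, hform, hg0, add_zero, add_zero, hg] at h
    have h3 := (hRinj _ _ _ _ h).2
    rw [zero_add, zero_add] at h3
    exact (add_right_cancel h3).symm
  have hζz := hζ ζ hadd hequiv
  have hfixR : ∀ t υ, θ (R t υ) = R t υ := by
    intro t υ
    rw [hform, hζz, hg, zero_add]
  -- `Y_b`
  have hfree : ∀ x ∈ S.X 1, (∀ h ∈ S.P.B ⊓ S.P.N, h * x * h⁻¹ = x) → x = 1 := by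
    intro x hx hall
    obtain ⟨t, υ, rfl⟩ := (hXb x).mp hx
    obtain ⟨u, hu1, hu2⟩ := hχ1
    have h := hall _ (hHaH u)
    rw [hHa] at h
    obtain ⟨e1, e2⟩ := hRinj _ _ _ _ h
    have ht : t = 0 := by
      by_contra ht
      apply hu1
      have : (χ u - 1) * t = 0 := by rw [sub_mul, one_mul, e1, sub_self]
      rcases mul_eq_zero.mp this with h3 | h3
      · exact sub_eq_zero.mp h3
      · exact absurd h3 ht
    have hυ : υ = 0 := by
      by_contra hυ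
      apply hu2
      have : (χ' u - 1) * υ = 0 := by rw [sub_mul, one_mul, e2, sub_self]
      rcases mul_eq_zero.mp this with h3 | h3
      · exact sub_eq_zero.mp h3
      · exact absurd h3 hυ
    rw [ht, hυ, hR0]
  have hfixY := fix_Y_of_fix_X S he hcore θ hU hV 1
    (fun x hx => by obtain ⟨t, υ, rfl⟩ := (hXb x).mp hx; exact hfixR t υ) hfree
  -- generation
  have hle : (⊤ : Subgroup Γ) ≤ (MonoidHom.eqLocus θ.toMonoidHom (MonoidHom.id Γ)) := by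
    rw [← hgen, Subgroup.closure_le]
    rintro g (((⟨t, rfl⟩ | ⟨t, rfl⟩) | hg) | hg)
    · exact hfix t
    · exact hsy t
    · obtain ⟨t, υ, rfl⟩ := (hXb g).mp hg
      exact hfixR t υ
    · exact hfixY g hg
  intro g
  exact hle (Subgroup.mem_top g)

include he hcore h2 hXa hYa hinja hinjya hXb hRinj hRmul hβ0 hβ0' hβsurj hβne hHa hHaH hχ hχ1 hζ hgen in
/-- The automorphisms fixing `U`, `V` and acting on `X_a` by a scalar are conjugations by elements of `H`. -/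
theorem ker_inner
    (htorusA : ∀ c : Kˣ, ∃ h ∈ S.P.B ⊓ S.P.N, ∀ t, h * Φa (sx t) * h⁻¹ = Φa (sx ((c : K) * t)))
    (htorusB : ∀ κ : Kˣ, ∃ h ∈ S.P.B ⊓ S.P.N, (∀ t, h * Φa (sx t) * h⁻¹ = Φa (sx t)) ∧
      ∃ k' : K, ∀ t υ, h * R t υ * h⁻¹ = R ((κ : K) * t) (k' * υ))
    (θ : MulAut Γ) (hθ : θ ∈ Nrm S.U S.V) (c : Kˣ) (hc : ∀ t, θ (Φa (sx t)) = Φa (sx ((c : K) * t))) :
    ∃ h ∈ S.P.B ⊓ S.P.N, θ = MulAut.conj h := by
  have hR0 := R_zero R β hRmul hβ0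
  obtain ⟨h₁, hh₁, hh₁c⟩ := htorusA c
  have hN₁ := Cfsg.Agent.Lib.Helper49.TwOut.conj_mem_Nrm S h₁ hh₁
  set θ₁ : MulAut Γ := (MulAut.conj h₁)⁻¹ * θ with hθ₁
  have hθ₁N : θ₁ ∈ Nrm S.U S.V := (Nrm S.U S.V).mul_mem ((Nrm S.U S.V).inv_mem hN₁) hθ
  have hθ₁app : ∀ g, θ₁ g = h₁⁻¹ * θ g * h₁ := by
    intro g
    rw [hθ₁, MulAut.mul_apply, ← map_inv, MulAut.conj_apply, inv_inv]
  have hfix₁ : ∀ t, θ₁ (Φa (sx t)) = Φa (sx t) := by
    intro t
    rw [hθ₁app, hc, ← hh₁c]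
    group
  obtain ⟨κ, ζ, g₀, hκ, hζ0, hg0, hform, hequiv⟩ := suz_nf S he hcore h2 Φa hXa hYa hinja hinjya R β hXb hRinj
    hRmul hβ0 hβ0' hβne χ χ' hHa hχ θ₁ hθ₁N.1 hθ₁N.2 hfix₁
  obtain ⟨h₂, hh₂, hh₂a, k', hh₂b⟩ := htorusB (Units.mk0 κ hκ)
  have hN₂ := Cfsg.Agent.Lib.Helper49.TwOut.conj_mem_Nrm S h₂ hh₂
  set θ₂ : MulAut Γ := (MulAut.conj h₂)⁻¹ * θ₁ with hθ₂
  have hθ₂N : θ₂ ∈ Nrm S.U S.V := (Nrm S.U S.V).mul_mem ((Nrm S.U S.V).inv_mem hN₂) hθ₁N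
  have hθ₂app : ∀ g, θ₂ g = h₂⁻¹ * θ₁ g * h₂ := by
    intro g
    rw [hθ₂, MulAut.mul_apply, ← map_inv, MulAut.conj_apply, inv_inv]
  have hfix₂ : ∀ t, θ₂ (Φa (sx t)) = Φa (sx t) := by
    intro t
    rw [hθ₂app, hfix₁]
    nth_rewrite 1 [← hh₂a t]
    group
  have hk' : k' ≠ 0 := by
    intro h0
    have h := hh₂b 0 1
    rw [h0, zero_mul, mul_zero, hR0] at h
    have h3 : R 0 1 = 1 := by
      have : R 0 1 = h₂⁻¹ * (h₂ * R 0 1 * h₂⁻¹) * h₂ := by group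
      rw [this, h]; group
    rw [← hR0] at h3
    exact one_ne_zero (hRinj _ _ _ _ h3).2
  have hone : ∃ w, θ₂ (R 1 0) = R 1 w := by
    refine ⟨k'⁻¹ * (ζ 1 + g₀ 0), ?_⟩
    rw [hθ₂app, hform, mul_one]
    have h := hh₂b 1 (k'⁻¹ * (ζ 1 + g₀ 0))
    rw [Units.val_mk0, mul_one, mul_inv_cancel_left₀ hk'] at h
    rw [← h]
    group
  have hid := suz_rigid S he hcore h2 Φa hXa hYa hinja hinjya R β hXb hRinj hRmul hβ0 hβ0' hβsurj hβne χ χ' hHa
    hHaH hχ hχ1 hζ hgen θ₂ hθ₂N.1 hθ₂N.2 hfix₂ hone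
  refine ⟨h₁ * h₂, (S.P.B ⊓ S.P.N).mul_mem hh₁ hh₂, ?_⟩
  ext g
  have h := hid g
  rw [hθ₂app, hθ₁app] at h
  rw [MulAut.conj_apply]
  have : θ g = h₁ * (h₂ * (h₂⁻¹ * (h₁⁻¹ * θ g * h₁) * h₂) * h₂⁻¹) * h₁⁻¹ := by group
  rw [this, h]
  group

include he hcore h2 hXa hYa hinja hinjya hXb hRinj hRmul hβ0 hβ0' hβsurj hβne hHa hHaH hχ hχ1 hζ hgen in
/-- [F4-COUNT] The outer automorphism group of a split (B,N)-pair of rank 2 with a node of type `SL₂(K)` and a node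
of Suzuki type has the order of `Aut K`. -/
theorem card_out_rank2_suz
    (htorusA : ∀ c : Kˣ, ∃ h ∈ S.P.B ⊓ S.P.N, ∀ t, h * Φa (sx t) * h⁻¹ = Φa (sx ((c : K) * t)))
    (htorusB : ∀ κ : Kˣ, ∃ h ∈ S.P.B ⊓ S.P.N, (∀ t, h * Φa (sx t) * h⁻¹ = Φa (sx t)) ∧
      ∃ k' : K, ∀ t υ, h * R t υ * h⁻¹ = R ((κ : K) * t) (k' * υ))
    (htorus : ∀ h ∈ S.P.B ⊓ S.P.N, ∃ c : K, ∀ t, h * Φa (sx t) * h⁻¹ = Φa (sx (c * t)))
    (hfield : ∀ τ : K ≃+* K, ∃ θ : Γ ≃* Γ, S.U.map θ.toMonoidHom = S.U ∧ S.V.map θ.toMonoidHom = S.V ∧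
      ∀ t, θ (Φa (sx t)) = Φa (sx (τ t))) :
    Nat.card (Out Γ) = Nat.card (K ≃+* K) := by
  have : Finite (MulAut Γ) := finite_mulAut
  set A : Subgroup (MulAut Γ) := Nrm S.U S.V with hA
  have hnfA : ∀ θ ∈ A, ∃ (ca : Kˣ) (τ : K ≃+* K), ∀ t, θ (Φa (sx t)) = Φa (sx ((ca : K) * τ t)) := by
    intro θ hθ
    obtain ⟨hX0, hY0⟩ := map_root_eq S he θ hθ.1 hθ.2 0
    obtain ⟨c, τ, a1, -, -⟩ := node_nf S 0 Φa hXa hYa hinja hinjya θ hX0 hY0
    exact ⟨c, τ, a1⟩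
  obtain ⟨Ψ, hΨ⟩ := Cfsg.Agent.Lib.Helper85.TwOut.exists_psi Φa hinja A hnfA
  have hΨuniq : ∀ (θ : ↥A) (c : Kˣ) (τ : K ≃+* K),
      (∀ t, (θ : MulAut Γ) (Φa (sx t)) = Φa (sx ((c : K) * τ t))) → Ψ θ = τ := by
    intro θ c τ h
    obtain ⟨c', hc'⟩ := hΨ θ
    have h2 : ∀ t : K, (c' : K) * (Ψ θ) t = (c : K) * τ t := by
      intro t
      apply hinja
      show Φa (sx ((c' : K) * (Ψ θ) t)) = Φa (sx ((c : K) * τ t))
      rw [← hc' t, h t]
    exact (Cfsg.Agent.Lib.Helper85.TwOut.nf_unique c' c (Ψ θ) τ h2).2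
  have hsurj : Function.Surjective Ψ := by
    intro τ
    obtain ⟨θ, hθU, hθV, hθ⟩ := hfield τ
    refine ⟨⟨θ, hθU, hθV⟩, ?_⟩
    apply hΨuniq _ 1 τ
    intro t
    rw [Units.val_one, one_mul]
    exact hθ t
  -- the inner automorphisms in `A` lie in the kernel
  have hinn : ∀ x : ↥(A ⊓ Inn Γ), (⟨(x : MulAut Γ), x.2.1⟩ : ↥A) ∈ Ψ.ker := by
    intro x
    have hx : (x : MulAut Γ) ∈ (S.P.B ⊓ S.P.N).map (MulAut.conj : Γ →* MulAut Γ) := by
      rw [← Cfsg.Agent.Lib.Helper49.TwOut.Nrm_inf_Inn S]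
      exact x.2
    obtain ⟨h, hh, hhx⟩ := hx
    obtain ⟨c, hc⟩ := htorus h hh
    rw [MonoidHom.mem_ker]
    have hc0 : c ≠ 0 := by
      intro h0
      have h1 := hc 1
      have h2 := hc 0
      rw [h0, zero_mul] at h1
      rw [h0, zero_mul] at h2
      have h3 : h * Φa (sx 1) * h⁻¹ = h * Φa (sx 0) * h⁻¹ := h1.trans h2.symm
      have h4 : Φa (sx (1 : K)) = Φa (sx 0) := by
        have := congrArg (fun y => h⁻¹ * y * h) h3
        simpa [mul_assoc] using this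
      exact one_ne_zero (hinja h4)
    have e := hΨuniq ⟨(x : MulAut Γ), x.2.1⟩ (Units.mk0 c hc0) (RingEquiv.refl K) (by
      intro t
      show (x : MulAut Γ) (Φa (sx t)) = _
      rw [← hhx]
      simp only [MulAut.conj_apply, Units.val_mk0, RingEquiv.refl_apply]
      exact hc t)
    rw [e]
    rfl
  -- the kernel consists of inner automorphisms
  have hker : ∀ x : ↥Ψ.ker, ((x : ↥A) : MulAut Γ) ∈ A ⊓ Inn Γ := by
    intro x
    have hx1 : Ψ (x : ↥A) = 1 := x.2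
    obtain ⟨c, hc⟩ := hΨ (x : ↥A)
    rw [hx1] at hc
    obtain ⟨h, hh, e⟩ := ker_inner S he hcore h2 Φa hXa hYa hinja hinjya R β hXb hRinj hRmul hβ0 hβ0' hβsurj hβne
      χ χ' hHa hHaH hχ hχ1 hζ hgen htorusA htorusB ((x : ↥A) : MulAut Γ) (x : ↥A).2 c hc
    exact Subgroup.mem_inf.mpr ⟨(x : ↥A).2, h, e.symm⟩
  have hle : Nat.card ↥(A ⊓ Inn Γ) ≤ Nat.card ↥Ψ.ker := by
    apply Nat.card_le_card_of_injective (fun x : ↥(A ⊓ Inn Γ) => (⟨⟨(x : MulAut Γ), x.2.1⟩, hinn x⟩ : ↥Ψ.ker))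
    intro x y hxy
    apply Subtype.ext
    have := congrArg (fun z : ↥Ψ.ker => ((z : ↥A) : MulAut Γ)) hxy
    exact this
  have hge : Nat.card ↥Ψ.ker ≤ Nat.card ↥(A ⊓ Inn Γ) := by
    apply Nat.card_le_card_of_injective (fun x : ↥Ψ.ker => (⟨((x : ↥A) : MulAut Γ), hker x⟩ : ↥(A ⊓ Inn Γ)))
    intro x y hxy
    apply Subtype.ext
    apply Subtype.ext
    have := congrArg (fun z : ↥(A ⊓ Inn Γ) => (z : MulAut Γ)) hxy
    exact this
  have hkereq : Nat.card ↥Ψ.ker = Nat.card ↥(A ⊓ Inn Γ) := le_antisymm hge hle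
  have hcardA : Nat.card ↥A = Nat.card ↥Ψ.ker * Nat.card (RingAut K) := by
    rw [← Nat.card_congr (QuotientGroup.quotientKerEquivOfSurjective Ψ hsurj).toEquiv, mul_comm]
    exact Subgroup.card_eq_card_quotient_mul_card_subgroup Ψ.ker
  have hquot := Cfsg.Agent.Lib.Helper93.Aut.card_quot_mul_card_inf (Inn Γ) A (fun θ => part_one S θ)
  rw [hcardA, ← hkereq, mul_comm] at hquot
  have hpos : 0 < Nat.card ↥Ψ.ker := Nat.card_pos
  exact Nat.eq_of_mul_eq_mul_left hpos hquot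

end Suz

end Cfsg.Agent.Lib.Helper69.TwOut
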